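import Cfsg.Agent.Lib.Classical.TensorMaxU.Basic

/-!
# Vectors and special isometries of a Hermitian space
-/

set_option autoImplicit false
set_option linter.unusedSectionVars false

namespace CfsgLib.Classical

open Module

variable {F : Type*} [Field F] [Finite F] {V : Type*} [AddCommGroup V] [Module F V] [FiniteDimensional F V]
  {σ : F →+* F} {B : V →ₛₗ[σ] V →ₗ[F] F}

namespace IsHermitian

variable (h : IsHermitian B)
include h

/-- A subspace of dimension two has an isotropic vector. -/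
theorem exists_iso_mem {W : Submodule F V} (hd : 2 ≤ finrank F W) : ∃ r ∈ W, r ≠ 0 ∧ B r r = 0 := by
  by_cases hW : NondegOn B W
  · exact h.exists_isotropic hW hd
  · rw [nondegOn_iff] at hW
    push Not at hW
    obtain ⟨x, hx, hperp, hx0⟩ := hW
    exact ⟨x, hx, hx0, hperp x hx⟩

/-- An isotropic vector orthogonal to a given one and independent of it. -/
theorem exists_iso_perp_notMem (c : V) (hd : 4 ≤ finrank F V) : ∃ v, B c v = 0 ∧ B v v = 0 ∧ v ∉ F ∙ c := by
  obtain ⟨C, hC⟩ := Submodule.exists_isCompl (F ∙ c)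
  have h1 : finrank F V ≤ finrank F C + 1 := by
    have e := Submodule.finrank_add_eq_of_isCompl hC
    have h2 : finrank F (F ∙ c) ≤ 1 := by simpa using finrank_span_le_card (R := F) ({c} : Set V)
    omega
  set S := C ⊓ LinearMap.ker (B c)
  have h3 : finrank F C ≤ finrank F S + 1 := by
    have e := Submodule.finrank_sup_add_finrank_inf_eq C (LinearMap.ker (B c))
    have h4 := (B c).finrank_range_add_finrank_ker
    have h5 : finrank F (LinearMap.range (B c)) ≤ 1 := by simpa using Submodule.finrank_le (LinearMap.range (B c))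
    have h6 := Submodule.finrank_le (C ⊔ LinearMap.ker (B c))
    have h7 : finrank F S = finrank F ↥(C ⊓ LinearMap.ker (B c)) := rfl
    omega
  obtain ⟨v, hv, hv0, hvv⟩ := h.exists_iso_mem (W := S) (by omega)
  exact ⟨v, hv.2, hvv, fun hm => hv0 (Submodule.disjoint_def.1 hC.disjoint v hm hv.1)⟩

theorem nondegOn_top (hN : B.SeparatingRight) : NondegOn B (⊤ : Submodule F V) :=
  nondegOn_iff.2 fun x _ hx => hN x fun w => hx w trivial

theorem exists_iso (hN : B.SeparatingRight) (hd : 2 ≤ finrank F V) : ∃ r : V, r ≠ 0 ∧ B r r = 0 := by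
  obtain ⟨r, -, h0, hr⟩ := h.exists_isotropic (h.nondegOn_top hN) (by rwa [finrank_top])
  exact ⟨r, h0, hr⟩

theorem exists_pair (hN : B.SeparatingRight) {r : V} (h0 : r ≠ 0) (hr : B r r = 0) :
    ∃ s, B s s = 0 ∧ B r s = 1 ∧ B s r = 1 := by
  obtain ⟨s, -, hs, hrs⟩ := h.exists_partner (h.nondegOn_top hN) trivial h0 hr
  exact ⟨s, hs, hrs, by rw [← h.symm, hrs, map_one]⟩

theorem exists_dual (hN : B.SeparatingRight) {r : V} (h0 : r ≠ 0) : ∃ s, B r s = 1 := by
  by_contra! hall
  refine h0 (hN r fun w => h.isRefl _ _ ?_)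
  by_contra hw
  exact hall ((B r w)⁻¹ • w) (by rw [map_smul, smul_eq_mul, inv_mul_cancel₀ hw])

/-- Vectors orthogonal to a hyperbolic pair, of every length. -/
theorem exists_perp_pair (hN : B.SeparatingRight) (hd : 3 ≤ finrank F V) {r s : V} (hr : B r r = 0)
    (hrs : B r s = 1) {t : F} (ht : σ t = t) : ∃ z, B r z = 0 ∧ B s z = 0 ∧ B z z = t := by
  have hP := h.nondegOn_hyp hr hrs
  have hfr := h.finrank_hyp hr hrs
  have h2 := hP.finrank_perp
  obtain ⟨z, hz, hzz⟩ := h.exists_unit_in (nondegOn_perp hN hP) (by omega) ht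
  exact ⟨z, mem_perp_span.1 hz r (by simp), mem_perp_span.1 hz s (by simp), hzz⟩

/-- Two independent families with one Gram matrix are conjugate under the special isometries. -/
theorem exists_sIsom_map (hN : B.SeparatingRight) {ι : Type*} {x y : ι → V} (hx : LinearIndependent F x)
    (hy : LinearIndependent F y) (hxy : ∀ i j, B (x i) (x j) = B (y i) (y j)) {z : V} (hz : B z z ≠ 0)
    (hzy : ∀ i, B z (y i) = 0) : ∃ g : isomGroup B, idet B g = 1 ∧ ∀ i, g.1 (x i) = y i := by
  obtain ⟨g, hg⟩ := h.witt_family hN hx hy hxy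
  obtain ⟨q, hq, hqd⟩ := h.exists_qr hN hz (l := (idet B g)⁻¹)
    (by rw [map_inv₀, ← mul_inv, h.idet_norm hN, inv_one])
  refine ⟨q * g, ?_, fun i => ?_⟩
  · rw [map_mul, hqd, inv_mul_cancel₀]
    exact (LinearEquiv.isUnit_det' g.1).ne_zero
  · change q.1 (g.1 (x i)) = _
    rw [hg, hq, hzy, mul_zero, zero_smul, add_zero]

theorem exists_sIsom_single (hN : B.SeparatingRight) (hd : 3 ≤ finrank F V) {x y : V} (hx : x ≠ 0) (hy : y ≠ 0)
    (hxy : B x x = B y y) : ∃ g : isomGroup B, idet B g = 1 ∧ g.1 x = y := by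
  obtain ⟨z, hz, hzy⟩ : ∃ z, B z z ≠ 0 ∧ B z y = 0 := by
    by_cases hyy : B y y = 0
    · obtain ⟨s, hs, hrs, -⟩ := h.exists_pair hN hy hyy
      obtain ⟨z, h1, -, hzz⟩ := h.exists_perp_pair hN hd hyy hrs (map_one σ)
      exact ⟨z, by rw [hzz]; exact one_ne_zero, h.isRefl _ _ h1⟩
    · have hP := h.nondegOn_span_singleton hyy
      have h1 := hP.finrank_perp
      have h2 : finrank F (Submodule.span F {y}) = 1 := finrank_span_singleton hy
      obtain ⟨z, hz, hzz⟩ := h.exists_unit_in (nondegOn_perp hN hP) (by omega) (map_one σ)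
      exact ⟨z, by rw [hzz]; exact one_ne_zero, h.isRefl _ _ (mem_perp_span.1 hz y rfl)⟩
  obtain ⟨g, hg, hgx⟩ := h.exists_sIsom_map hN (x := fun _ : Unit => x) (y := fun _ : Unit => y)
    (linearIndependent_unique_iff.2 hx) (linearIndependent_unique_iff.2 hy) (fun _ _ => hxy) hz fun _ => hzy
  exact ⟨g, hg, hgx ()⟩

/-- An anisotropic vector is moved to every other of its length, in any dimension from two on. -/
theorem exists_sIsom_aniso (hN : B.SeparatingRight) (hd : 2 ≤ finrank F V) {x y : V} (hy : B y y ≠ 0)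
    (hxy : B x x = B y y) : ∃ g : isomGroup B, idet B g = 1 ∧ g.1 x = y := by
  have hy0 : y ≠ 0 := fun e => hy (by simp [e])
  have hx0 : x ≠ 0 := fun e => hy (by rw [← hxy, e]; simp)
  have hP := h.nondegOn_span_singleton hy
  have h1 := hP.finrank_perp
  have h2 : finrank F (Submodule.span F {y}) = 1 := finrank_span_singleton hy0
  obtain ⟨z, hz, hzz⟩ := h.exists_unit_in (nondegOn_perp hN hP) (by omega) (map_one σ)
  obtain ⟨g, hg, hgx⟩ := h.exists_sIsom_map hN (x := fun _ : Unit => x) (y := fun _ : Unit => y)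
    (linearIndependent_unique_iff.2 hx0) (linearIndependent_unique_iff.2 hy0) (fun _ _ => hxy) (z := z)
    (by rw [hzz]; exact one_ne_zero) fun _ => h.isRefl _ _ (mem_perp_span.1 hz y rfl)
  exact ⟨g, hg, hgx ()⟩

theorem li_pair {x y : V} (hdet : B x x * B y y - B x y * B y x ≠ 0) : LinearIndependent F ![x, y] := by
  rw [LinearIndependent.pair_iff]
  intro s t hst
  have h1 : B x (s • x + t • y) = 0 := by rw [hst, map_zero]
  have h2 : B y (s • x + t • y) = 0 := by rw [hst, map_zero]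
  simp only [map_add, map_smul, smul_eq_mul] at h1 h2
  have hs : s * (B x x * B y y - B x y * B y x) = 0 := by linear_combination B y y * h1 - B x y * h2
  have ht : t * (B x x * B y y - B x y * B y x) = 0 := by linear_combination B x x * h2 - B y x * h1
  exact ⟨(mul_eq_zero.1 hs).resolve_right hdet, (mul_eq_zero.1 ht).resolve_right hdet⟩

/-- Two pairs with one non-singular Gram matrix are conjugate. -/
theorem exists_sIsom_pair (hN : B.SeparatingRight) (hd : 3 ≤ finrank F V) {x₁ x₂ y₁ y₂ : V}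
    (h11 : B x₁ x₁ = B y₁ y₁) (h12 : B x₁ x₂ = B y₁ y₂) (h22 : B x₂ x₂ = B y₂ y₂)
    (hdet : B y₁ y₁ * B y₂ y₂ - B y₁ y₂ * B y₂ y₁ ≠ 0) :
    ∃ g : isomGroup B, idet B g = 1 ∧ g.1 x₁ = y₁ ∧ g.1 x₂ = y₂ := by
  have h21 : B x₂ x₁ = B y₂ y₁ := by rw [← h.symm x₁ x₂, h12, h.symm]
  have hP : NondegOn B (Submodule.span F {y₁, y₂}) := h.nondegOn_pair (by rwa [h.symm])
  have h1 := hP.finrank_perp
  have h2 : finrank F (Submodule.span F {y₁, y₂}) ≤ 2 := by
    classical
    refine (finrank_span_le_card (R := F) ({y₁, y₂} : Set V)).trans ?_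
    simp only [Set.toFinset_insert, Set.toFinset_singleton]
    exact Finset.card_insert_le _ _
  obtain ⟨z, hz, hzz⟩ := h.exists_unit_in (nondegOn_perp hN hP) (by omega) (map_one σ)
  obtain ⟨g, hg, hgx⟩ := h.exists_sIsom_map hN (x := ![x₁, x₂]) (y := ![y₁, y₂])
    (h.li_pair (by rwa [h11, h12, h22, h21])) (h.li_pair hdet)
    (fun i j => by fin_cases i <;> fin_cases j <;> simp [h11, h12, h21, h22]) (z := z)
    (by rw [hzz]; exact one_ne_zero)
    (fun i => by fin_cases i <;> exact h.isRefl _ _ (mem_perp_span.1 hz _ (by simp)))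
  exact ⟨g, hg, hgx 0, hgx 1⟩

end IsHermitian

end CfsgLib.Classical
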