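import Cfsg.Agent.Lib.Classical.TensorMaxU.Engine
import Cfsg.Agent.Lib.Classical.TensorMaxU.Tools

/-!
# An element outside the stabiliser mapping a totally isotropic slice onto a slice
-/

set_option autoImplicit false
set_option linter.unusedSectionVars false

namespace CfsgLib.Classical.TensorMaxU

open Matrix Module
open CfsgLib.Classical.TensorMax (IsTensor)

variable {F : Type*} [Field F] {σ : F →+* F} {a b : ℕ}

/-- Some element of `M` outside the stabiliser maps `i` dimensions of an isotropic slice into a slice. -/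
def Good (M : Subgroup (isomGroup (bForm σ a b))) (i : ℕ) : Prop :=
  ∃ g ∈ M, ¬ IsTensor g.1 ∧ ∃ (W₀ : Submodule F (Fin a → F)) (b₀ c : Fin b → F),
    b₀ ≠ 0 ∧ stdHerm σ b b₀ b₀ = 0 ∧ i ≤ finrank F W₀ ∧ ∀ w ∈ W₀, ∃ w', g.1 (vecMulVec w b₀) = vecMulVec w' c

variable {M : Subgroup (isomGroup (bForm σ a b))}

theorem good_top {g : isomGroup (bForm σ a b)} (hg : g ∈ M) (hgT : ¬ IsTensor g.1) {v c : Fin b → F} (hv0 : v ≠ 0)
    (hvv : stdHerm σ b v v = 0) (hs : ∀ z, ∃ z', g.1 (vecMulVec z v) = vecMulVec z' c) {i : ℕ} (hi : i ≤ a) :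
    Good M i :=
  ⟨g, hg, hgT, ⊤, v, c, hv0, hvv, by rwa [finrank_top, finrank_fin_fun], fun w _ => hs w⟩

theorem not_isTensor_inv {g : isomGroup (bForm σ a b)} (hgT : ¬ IsTensor g.1) : ¬ IsTensor (g⁻¹).1 := fun h =>
  hgT (by simpa using h.inv)

/-- A map on rows. -/
def rowLin (f : (Fin b → F) →ₗ[F] (Fin b → F)) : Matrix (Fin a) (Fin b) F →ₗ[F] Matrix (Fin a) (Fin b) F where
  toFun X := Matrix.of fun i => f (X i)
  map_add' X Y := Matrix.ext fun i j => congrFun (map_add f (X i) (Y i)) j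
  map_smul' c X := Matrix.ext fun i j => congrFun (map_smul f c (X i)) j

@[simp] theorem rowLin_vecMulVec (f : (Fin b → F) →ₗ[F] (Fin b → F)) (u : Fin a → F) (w : Fin b → F) :
    rowLin f (vecMulVec u w) = vecMulVec u (f w) :=
  funext fun i => by
    show f (vecMulVec u w i) = _
    rw [vecMulVec_row, vecMulVec_row, map_smul]

theorem tensor_pure {g : Matrix (Fin a) (Fin b) F ≃ₗ[F] Matrix (Fin a) (Fin b) F} (hg : IsTensor g) :
    ∃ (A : (Fin a → F) →ₗ[F] (Fin a → F)) (C : (Fin b → F) →ₗ[F] (Fin b → F)),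
      Function.Injective A ∧ Function.Injective C ∧ ∀ u w, g (vecMulVec u w) = vecMulVec (A u) (C w) := by
  obtain ⟨A, C, hA, hC, hg⟩ := hg
  refine ⟨A.mulVecLin, C.vecMulLinear, ?_, ?_, fun u w => ?_⟩
  · exact (injective_iff_map_eq_zero _).2 fun u hu => eq_zero_of_mulVec_eq_zero hA hu
  · exact (injective_iff_map_eq_zero _).2 fun w hw => eq_zero_of_vecMul_eq_zero hC hw
  · rw [hg, mul_vecMulVec, vecMulVec_mul]; rfl

variable [Finite F]

theorem bForm_conj_tens (hc : IsConjugation σ) (g : isomGroup (bForm σ a b)) (v : Fin b → F)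
    (Y : Matrix (Fin a) (Fin b) F) (z : Fin a → F) :
    bForm σ a b Y (g.1.symm (vecMulVec z v)) = stdHerm σ a (co2 σ a v (g.1 Y)) z := by
  rw [← g.2 Y, g.1.apply_symm_apply, ← (bForm_isHermitian hc).symm, bForm_tens, (stdHerm_isHermitian hc a).symm]

/-- Prescribing both coordinates. -/
theorem exists_coords {na nb : ℕ} (hc : IsConjugation σ) {R : (Fin na → F) →ₗ[F] Matrix (Fin a) (Fin b) F}
    {R' : Matrix (Fin a) (Fin b) F →ₗ[F] (Fin na → F)} {J : (Fin nb → F) →ₗ[F] Matrix (Fin a) (Fin b) F}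
    {J' : Matrix (Fin a) (Fin b) F →ₗ[F] (Fin nb → F)}
    (hR : ∀ Y z, bForm σ a b Y (R z) = stdHerm σ na (R' Y) z)
    (hJ : ∀ Y u, bForm σ a b Y (J u) = stdHerm σ nb (J' Y) u)
    (hinj : ∀ z u, R z + J u = 0 → z = 0 ∧ u = 0) (z₀ : Fin na → F) (u₀ : Fin nb → F) :
    ∃ Y, R' Y = z₀ ∧ J' Y = u₀ := by
  have hi : LinearMap.ker (R.coprod J) = ⊥ := LinearMap.ker_eq_bot'.2 fun p hp =>
    Prod.ext (hinj p.1 p.2 hp).1 (hinj p.1 p.2 hp).2
  obtain ⟨L, hL⟩ := LinearMap.exists_leftInverse_of_injective (R.coprod J) hi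
  obtain ⟨Y, hY⟩ := (bForm_isHermitian (a := a) (b := b) hc).exists_form_eq bForm_sepRight
    ((((stdHerm σ na z₀).comp (LinearMap.fst F _ _)) + (stdHerm σ nb u₀).comp (LinearMap.snd F _ _)).comp L)
  have hRY : ∀ z, stdHerm σ na (R' Y) z = stdHerm σ na z₀ z := fun z => by
    have e : L (R z) = (z, 0) := by
      have := LinearMap.congr_fun hL (z, 0)
      simpa using this
    rw [← hR, hY]; simp [e]
  have hJY : ∀ u, stdHerm σ nb (J' Y) u = stdHerm σ nb u₀ u := fun u => by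
    have e : L (J u) = (0, u) := by
      have := LinearMap.congr_fun hL (0, u)
      simpa using this
    rw [← hJ, hY]; simp [e]
  exact ⟨Y, sub_eq_zero.1 (stdHerm_sepLeft na σ.injective _ fun z => by
      rw [map_sub, LinearMap.sub_apply, hRY, sub_self]),
    sub_eq_zero.1 (stdHerm_sepLeft nb σ.injective _ fun u => by rw [map_sub, LinearMap.sub_apply, hJY, sub_self])⟩

/-- A conjugate of a transvection of the second factor that is a tensor map gives a slice. -/
theorem slice_of_tensor (hc : IsConjugation σ) (hab : a < b) (h1 : 0 < a) {g : isomGroup (bForm σ a b)}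
    {C : isomGroup (stdHerm σ b)} {v : Fin b → F} {μ : F} (hv : v ≠ 0) (hμ : μ ≠ 0) (hC : IsUTv C v μ)
    (hT : IsTensor (g⁻¹ * rowHom σ a b C * g).1) :
    ∃ c, ∀ z, ∃ z', (g⁻¹).1 (vecMulVec z v) = vecMulVec z' c := by
  set U : Matrix (Fin a) (Fin b) F →ₗ[F] Matrix (Fin a) (Fin b) F :=
    μ • (g.1.symm.toLinearMap ∘ₗ sl2 a v ∘ₗ co2 σ a v ∘ₗ g.1.toLinearMap) with hUdef
  have hU : ∀ X, (g⁻¹ * rowHom σ a b C * g).1 X = X + U X := fun X => by
    rw [mul_apply', mul_apply', row_uTv_apply hC, map_add, inv_apply_apply', map_smul]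
    rfl
  have hr : finrank F (LinearMap.range U) ≤ a := by
    have hle : LinearMap.range U ≤ LinearMap.range (g.1.symm.toLinearMap ∘ₗ sl2 a v) := by
      rintro _ ⟨X, rfl⟩
      exact ⟨μ • co2 σ a v (g.1 X), by simp [hUdef]⟩
    exact (Submodule.finrank_mono hle).trans (by simpa using LinearMap.finrank_range_le (g.1.symm.toLinearMap ∘ₗ sl2 a v))
  obtain ⟨η, c, hηc⟩ := TensorMax.range_of_isTensor hab h1 hT hU hr
  obtain ⟨d, hd⟩ := (stdHerm_isHermitian hc b).exists_dual (stdHerm_sepRight b) hv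
  refine ⟨c, fun z => ⟨μ⁻¹ • (g.1.symm (vecMulVec z d) *ᵥ η), ?_⟩⟩
  rw [smul_vecMulVec, ← hηc, hUdef]
  simp [hd, smul_smul, hμ]

theorem root_elt_apply {g : isomGroup (bForm σ a b)} {C : isomGroup (stdHerm σ b)} {v : Fin b → F} {ν : F}
    (hC : IsUTv C v ν) (X : Matrix (Fin a) (Fin b) F) :
    (g⁻¹ * rowHom σ a b C * g).1 X = X + ν • g.1.symm (vecMulVec (co2 σ a v (g.1 X)) v) := by
  rw [mul_apply', mul_apply', row_uTv_apply hC, map_add, inv_apply_apply', map_smul]
  rfl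

/-- One step of the climb. -/
theorem step (hc : IsConjugation σ) (hM : ContainsTensor M) (hab : a < b) (hb : 4 ≤ b) {i : ℕ} (hi : 1 ≤ i)
    (hia : i < a) (hgood : Good M i) : Good M (i + 1) := by
  classical
  have h₁ := stdHerm_isHermitian hc a
  have h₂ := stdHerm_isHermitian hc b
  obtain ⟨g, hg, hgT, W₀, b₀, c, hb0, hbb, hW₀, hslice⟩ := hgood
  by_cases hbig : i + 1 ≤ finrank F W₀
  · exact ⟨g, hg, hgT, W₀, b₀, c, hb0, hbb, hbig, hslice⟩
  obtain ⟨v, hcv, hvv, hvc⟩ := h₂.exists_iso_perp_notMem c (by rw [finrank_fin_fun]; omega)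
  have hv0 : v ≠ 0 := fun e => hvc (by rw [e]; exact Submodule.zero_mem _)
  obtain ⟨ν, hν0, hν⟩ := hc.exists_trace_zero
  obtain ⟨Cv, hCv⟩ := h₂.exists_uTv (stdHerm_sepRight b) hvv hν
  set h := g⁻¹ * rowHom σ a b Cv * g with hhdef
  have hh : h ∈ M := M.mul_mem (M.mul_mem (M.inv_mem hg) (hM.row (h₂.idet_uTv hCv))) hg
  by_cases hhT : IsTensor h.1
  · obtain ⟨c', hc'⟩ := slice_of_tensor hc hab (by omega) hv0 hν0 hCv hhT
    exact good_top (M.inv_mem hg) (not_isTensor_inv hgT) hv0 hvv hc' (by omega)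
  -- the two root elements
  set J := sl2 a b₀ with hJdef
  set J' := co2 σ a b₀ with hJ'def
  set R := g.1.symm.toLinearMap ∘ₗ sl2 a v with hRdef
  set R' := co2 σ a v ∘ₗ g.1.toLinearMap with hR'def
  have hP : RootPair J J' R R' := ⟨fun u => by simp [hJdef, hJ'def, hbb], fun z => by simp [hRdef, hR'def, hvv]⟩
  have hhX : ∀ X, h.1 X = X + ν • R (R' X) := fun X => root_elt_apply hCv X
  have hRadj : ∀ Y z, bForm σ a b Y (R z) = stdHerm σ a (R' Y) z := fun Y z => bForm_conj_tens hc g v Y z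
  have hJadj : ∀ Y u, bForm σ a b Y (J u) = stdHerm σ a (J' Y) u := fun Y u => by
    rw [← (bForm_isHermitian hc).symm, hJdef, sl2_apply, bForm_tens, h₁.symm]
  have hadj : ∀ x z, stdHerm σ a x (J' (R z)) = stdHerm σ a (R' (J x)) z := fun x z => by
    rw [← hRadj, hJdef, sl2_apply, bForm_tens]
  set K : Submodule F (Fin a → F) := LinearMap.ker (R' ∘ₗ J) with hKdef
  have hW₀K : W₀ ≤ K := fun w hw => by
    obtain ⟨w', hw'⟩ := hslice w hw
    show co2 σ a v (g.1 (vecMulVec w b₀)) = 0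
    rw [hw', co2_vecMulVec, h₂.isRefl _ _ hcv, zero_smul]
  have hfixK : ∀ k ∈ K, h.1 (J k) = J k := fun k hk => by
    rw [hhX, show R' (J k) = 0 from hk, map_zero, smul_zero, add_zero]
  by_cases hKbig : i + 1 ≤ finrank F K
  · exact ⟨h, hh, hhT, K, b₀, b₀, hb0, hbb, hKbig, fun w hw => ⟨w, hfixK w hw⟩⟩
  have hKW : W₀ = K := Submodule.eq_of_le_of_finrank_le hW₀K (by omega)
  have hinj : ∀ z u, R z + J u = 0 → z = 0 ∧ u = 0 := fun z u hzu => by
    have hu : u ∈ K := by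
      have := congrArg R' hzu
      rw [map_add, hP.hR, zero_add, map_zero] at this
      exact this
    obtain ⟨u', hu'⟩ := hslice u (hKW.symm ▸ hu)
    have h1 : vecMulVec z v = vecMulVec (-u') c := by
      have := congrArg g.1 hzu
      rw [map_add, map_zero] at this
      simp only [hRdef, hJdef, LinearMap.comp_apply, LinearEquiv.coe_coe, LinearEquiv.apply_symm_apply,
        sl2_apply, hu'] at this
      rw [neg_vecMulVec, eq_neg_iff_add_eq_zero]; exact this
    have hz : z = 0 := by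
      by_contra hz
      exact hvc (right_mem_span h1 hz)
    refine ⟨hz, sl2_injective (a := a) hb0 ?_⟩
    rw [hz, map_zero, zero_add] at hzu
    rw [map_zero]; exact hzu
  have hnext : ∀ {y : isomGroup (bForm σ a b)} {x k : Fin a → F}, y ∈ M → ¬ IsTensor y.1 → x ∉ K →
      (∀ l ∈ K, y.1 (J l) = J l) → y.1 (J x) = J (x + k) → Good M (i + 1) := by
    intro y x k hy hyT hx hyK hyx
    refine ⟨y, hy, hyT, K ⊔ F ∙ x, b₀, b₀, hb0, hbb, ?_, fun w hw => ?_⟩
    · have hlt : K < K ⊔ F ∙ x := lt_of_le_of_ne le_sup_left fun heq =>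
        hx (heq ▸ Submodule.mem_sup_right (Submodule.mem_span_singleton_self x))
      have := Submodule.finrank_lt_finrank_of_lt hlt
      have := Submodule.finrank_mono hW₀K
      omega
    · obtain ⟨l, hl, w', hw', rfl⟩ := Submodule.mem_sup.1 hw
      obtain ⟨t, rfl⟩ := Submodule.mem_span_singleton.1 hw'
      refine ⟨l + t • (x + k), ?_⟩
      show y.1 (J (l + t • x)) = J (l + t • (x + k))
      simp only [map_add, map_smul, hyK l hl, hyx]
  obtain ⟨μ, hμ0, hμ⟩ := hc.exists_trace_zero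
  by_cases hdeg : ∃ x, x ∉ K ∧ J' (R (R' (J x))) ∈ K
  · -- a commutator
    obtain ⟨x, hx, hθx⟩ := hdeg
    obtain ⟨Cb, hCb⟩ := h₂.exists_uTv (stdHerm_sepRight b) hbb hμ
    set τ := rowHom σ a b Cb with hτdef
    have hτX : ∀ X, τ.1 X = X + μ • J (J' X) := fun X => row_uTv_apply hCb X
    have hτJ : ∀ u, τ.1 (J u) = J u := fun u => by rw [hτX, hP.hJ, map_zero, smul_zero, add_zero]
    set Y := τ * h * τ⁻¹ * h⁻¹ with hYdef
    have hYM : Y ∈ M := M.mul_mem (M.mul_mem (M.mul_mem (hM.row (h₂.idet_uTv hCb)) hh)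
      (M.inv_mem (hM.row (h₂.idet_uTv hCb)))) (M.inv_mem hh)
    have inv_eq : ∀ {g : isomGroup (bForm σ a b)} {z w}, g.1 w = z → (g⁻¹).1 z = w := fun e => by
      rw [← e, inv_apply_apply']
    have hYK : ∀ l ∈ K, Y.1 (J l) = J l := fun l hl => by
      rw [hYdef, mul_apply', mul_apply', mul_apply', inv_eq (hfixK l hl), inv_eq (hτJ l), hfixK l hl, hτJ]
    set θx := J' (R (R' (J x))) with hθxdef
    have hYx : Y.1 (J x) = J (x + (μ * ν) • θx) := by
      have e1 : h.1 (J x - ν • R (R' (J x))) = J x := by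
        rw [hhX, map_sub R', map_smul R', hP.hR, smul_zero, sub_zero, sub_add_cancel]
      have e2 : τ.1 (J x - ν • R (R' (J x)) + (μ * ν) • J θx) = J x - ν • R (R' (J x)) := by
        rw [hτX]
        simp only [map_add, map_sub, map_smul, map_neg, hP.hJ, map_zero, smul_zero, add_zero, zero_sub, hθxdef,
          smul_neg, smul_smul, neg_smul]
        module
      have e3 : h.1 (J x - ν • R (R' (J x)) + (μ * ν) • J θx) = J x + (μ * ν) • J θx := by
        rw [map_add, e1, map_smul, hfixK θx hθx]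
      rw [hYdef, mul_apply', mul_apply', mul_apply', inv_eq e1, inv_eq e2, e3, map_add, map_smul, hτJ, hτJ,
        map_add, map_smul]
    by_cases hYT : IsTensor Y.1
    · have hT : IsTensor ((h⁻¹)⁻¹ * rowHom σ a b Cb⁻¹ * h⁻¹).1 := by
        rw [show (h⁻¹)⁻¹ * rowHom σ a b Cb⁻¹ * h⁻¹ = τ⁻¹ * Y by rw [map_inv, hYdef, hτdef]; group]
        exact (isTensor_rowMap Cb.1).inv.mul hYT
      have hCb' : IsUTv Cb⁻¹ b₀ (-μ) := by
        refine ⟨hbb, by rw [map_neg]; linear_combination -hμ, fun w => Cb.1.injective ?_⟩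
        rw [apply_inv_apply', map_add, map_smul, hCb.2.2 w, hCb.2.2 b₀, hbb]
        simp only [mul_zero, zero_smul, add_zero]
        module
      obtain ⟨c', hc'⟩ := slice_of_tensor hc hab (by omega) hb0 (neg_ne_zero.2 hμ0) hCb' hT
      rw [inv_inv] at hc'
      exact good_top hh hhT hb0 hbb hc' (by omega)
    · exact hnext hYM hYT hx hYK hYx
  push Not at hdeg
  -- the power of the product
  have hne : ∃ x, R' (J x) ≠ 0 := by
    by_contra! hall
    have : K = ⊤ := top_unique fun x _ => hall x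
    rw [this, finrank_top, finrank_fin_fun] at hKbig
    omega
  obtain ⟨s, m, x, k, hs12, hs0, hm, hx, hk, hpow⟩ := exists_pow hP hμ0 hν0
    (fun x hx => by
      by_contra hne
      exact hdeg x hne hx) hne
  have hs : σ s = s := by
    rcases hs12 with rfl | rfl
    · exact map_one σ
    · exact map_ofNat σ 2
  obtain ⟨Cb, hCb⟩ := h₂.exists_uTv (stdHerm_sepRight b) hbb (c := s * μ) (by
    rw [map_mul, hs]; linear_combination s * hμ)
  set τ := rowHom σ a b Cb with hτdef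
  set y := (τ * h) ^ m with hydef
  have hyM : y ∈ M := M.pow_mem (M.mul_mem (hM.row (h₂.idet_uTv hCb)) hh) m
  have hyX : ∀ X, y.1 X = (prodRoot J J' R R' (s * μ) ν ^ m) X := fun X => pow_apply_eq (τ * h) (fun X => by
    rw [mul_apply', row_uTv_apply hCb, hhX, prodRoot_apply]) m X
  have hyK : ∀ l ∈ K, y.1 (J l) = J l := fun l hl => by rw [hyX, pow_fix_J hP _ _ hl]
  have hyx : y.1 (J x) = J (x + k) := by rw [hyX, hpow]
  refine hnext hyM (fun hyT => ?_) hx hyK hyx
  -- the power is not a tensor map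
  obtain ⟨A, C, hAi, hCi, hyAC⟩ := tensor_pure hyT
  have hJu : ∀ u, J u = vecMulVec u b₀ := fun u => rfl
  obtain ⟨k₁, hk₁K, hk₁⟩ : ∃ k₁ ∈ K, k₁ ≠ 0 := Submodule.exists_mem_ne_zero_of_ne_bot fun hbot => by
    rw [← hKW] at hbot
    rw [hbot, finrank_bot] at hW₀
    omega
  obtain ⟨β, hβ⟩ : ∃ β, β • b₀ = C b₀ := Submodule.mem_span_singleton.1 (right_mem_span (by
    rw [← hyAC, ← hJu, hyK k₁ hk₁K, hJu]) (fun e => hk₁ (hAi (by rw [e, map_zero]))))
  have hβ0 : β ≠ 0 := fun e => hb0 (hCi (by rw [← hβ, e, zero_smul, map_zero]))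
  have hAK : ∀ l ∈ K, β • A l = l := fun l hl => sl2_injective (a := a) hb0 (by
    show vecMulVec (β • A l) b₀ = J l
    rw [smul_vecMulVec, ← vecMulVec_smul, hβ, ← hyAC, ← hJu, hyK l hl])
  have hAx : β • A x = x + k := sl2_injective (a := a) hb0 (by
    show vecMulVec (β • A x) b₀ = J (x + k)
    rw [smul_vecMulVec, ← vecMulVec_smul, hβ, ← hyAC, ← hJu, hyx])
  have hperp : ∀ w, stdHerm σ b b₀ w = 0 → stdHerm σ b b₀ (C w) = 0 := fun w hw => by
    obtain ⟨n', hn'⟩ := h₁.exists_dual (stdHerm_sepRight a) (r := A k₁) (fun e => hk₁ (hAi (by rw [e, map_zero])))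
    obtain ⟨n, rfl⟩ := LinearMap.injective_iff_surjective.1 hAi n'
    have e := y.2 (vecMulVec k₁ b₀) (vecMulVec n w)
    rw [hyAC, hyAC, bForm_tens_tens, bForm_tens_tens, hn', hw, mul_zero, one_mul, ← hβ, map_smulₛₗ,
      LinearMap.smul_apply, smul_eq_mul, mul_eq_zero] at e
    exact e.resolve_left fun e' => hβ0 (σ.injective (by rw [e', map_zero]))
  obtain ⟨b₁, hb₁b₁, hbb₁, hb₁b⟩ := h₂.exists_pair (stdHerm_sepRight b) hb0 hbb
  set Pr : (Fin b → F) →ₗ[F] (Fin b → F) :=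
    LinearMap.id - (stdHerm σ b b₁).smulRight b₀ - (stdHerm σ b b₀).smulRight b₁ with hPr
  have hPrb : Pr b₀ = 0 := by simp [hPr, hbb, hb₁b]
  set S : Submodule F (Fin b → F) := LinearMap.ker (stdHerm σ b b₀) ⊓ LinearMap.ker (stdHerm σ b b₁) with hS
  have hPrS : ∀ w, Pr w ∈ S := fun w => ⟨by simp [hPr, hbb, hbb₁], by simp [hPr, hb₁b, hb₁b₁]⟩
  have hPrfix : ∀ w ∈ S, Pr w = w := fun w hw => by
    simp [hPr, show stdHerm σ b b₀ w = 0 from hw.1, show stdHerm σ b b₁ w = 0 from hw.2]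
  have hSdim : b ≤ finrank F S + 2 := by
    have h1 := ((stdHerm σ b b₀).prod (stdHerm σ b b₁)).finrank_range_add_finrank_ker
    rw [LinearMap.ker_prod, finrank_fin_fun] at h1
    have h2 := Submodule.finrank_le (LinearMap.range ((stdHerm σ b b₀).prod (stdHerm σ b b₁)))
    rw [finrank_prod, finrank_self] at h2
    show b ≤ finrank F ↥(LinearMap.ker (stdHerm σ b b₀) ⊓ LinearMap.ker (stdHerm σ b b₁)) + 2
    omega
  set Pm : Matrix (Fin a) (Fin b) F →ₗ[F] Matrix (Fin a) (Fin b) F := rowLin Pr with hPm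
  have hPmJ : ∀ u, Pm (J u) = 0 := fun u => by rw [hPm, hJu, rowLin_vecMulVec, hPrb, TensorMax.vecMulVec_zero']
  -- the image of `y - 1` on the orthogonal of the slice
  set Qk : Submodule F (Fin a → F) := LinearMap.ker (J' ∘ₗ R) with hQk
  set T := Qk.map (Pm ∘ₗ R) with hT
  have hJy : ∀ Y, J' Y = 0 → J' (y.1 Y) = 0 := fun Y hY => by
    have hrow : ∀ j, stdHerm σ b b₀ (Y j) = 0 := fun j => congrFun hY j
    rw [matrix_eq_sum Y, map_sum, map_sum]
    exact Finset.sum_eq_zero fun j _ => by rw [hyAC, hJ'def, co2_vecMulVec, hperp _ (hrow j), zero_smul]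
  have hTmem : ∀ Y, J' Y = 0 → Pm (y.1 Y - Y) ∈ T := fun Y hY => by
    obtain ⟨_, ⟨u, rfl⟩, _, ⟨z, rfl⟩, e⟩ :=
      Submodule.mem_sup.1 (pow_sub_mem (J := J) (J' := J') (R := R) (R' := R') (s * μ) ν m Y)
    rw [← hyX] at e
    refine ⟨z, ?_, by rw [← e, map_add, hPmJ, zero_add]; rfl⟩
    show J' (R z) = 0
    have := congrArg J' e
    rwa [map_add, map_sub, hP.hJ, hJy Y hY, hY, sub_zero, zero_add] at this
  obtain ⟨n₀, hn₀⟩ := h₁.exists_dual (stdHerm_sepRight a) hx
  have hQlt : finrank F Qk < a := by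
    have hne' : Qk < ⊤ := lt_top_iff_ne_top.2 fun htop => by
      have h0 : J' (R n₀) = 0 := (htop ▸ Submodule.mem_top : n₀ ∈ Qk)
      have h := hadj x n₀
      rw [h0, map_zero, hn₀] at h
      exact zero_ne_one h
    have := Submodule.finrank_lt hne'.ne
    rwa [finrank_fin_fun] at this
  have hTle : finrank F T ≤ finrank F Qk := Submodule.finrank_map_le _ _
  have heig : ∀ w ∈ S, Pr (C w) ∈ F ∙ w := fun w hw => by
    let f : (Fin a → F) →ₗ[F] T := (Pm ∘ₗ (y.1.toLinearMap - LinearMap.id) ∘ₗ sl2 a w).codRestrict T fun u =>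
      hTmem _ (by simp [hJ'def, show stdHerm σ b b₀ w = 0 from hw.1])
    obtain ⟨u, hu0, hu⟩ := TensorMax.exists_perp f (by omega)
    have e : Pm (y.1 (vecMulVec u w) - vecMulVec u w) = 0 := congrArg Subtype.val hu
    rw [map_sub, hyAC, hPm, rowLin_vecMulVec, rowLin_vecMulVec, hPrfix w hw, sub_eq_zero] at e
    exact right_mem_span e fun e' => hu0 (hAi (by rw [e', map_zero]))
  obtain ⟨γ, hγ⟩ : ∃ γ : F, ∀ w ∈ S, Pr (C w) = γ • w := by
    let f : S →ₗ[F] S := ((Pr ∘ₗ C) ∘ₗ S.subtype).codRestrict S fun w => hPrS _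
    obtain ⟨γ, hγ⟩ := f.exists_eq_smul_id_of_forall_notLinearIndependent (fun w hli => by
      obtain ⟨t, ht⟩ := Submodule.mem_span_singleton.1 (heig w.1 w.2)
      have hw : w ≠ 0 := by simpa using hli.ne_zero 0
      exact (LinearIndependent.pair_iff' hw).1 hli t (Subtype.ext ht))
    exact ⟨γ, fun w hw => congrArg Subtype.val (LinearMap.congr_fun hγ ⟨w, hw⟩)⟩
  set D : (Fin a → F) →ₗ[F] (Fin a → F) := γ • A - LinearMap.id with hD
  have hPmy : ∀ u, ∀ w ∈ S, Pm (y.1 (vecMulVec u w) - vecMulVec u w) = vecMulVec (D u) w := fun u w hw => by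
    rw [map_sub, hyAC, hPm, rowLin_vecMulVec, rowLin_vecMulVec, hPrfix w hw, hγ w hw, vecMulVec_smul]
    simp [hD, sub_vecMulVec, smul_vecMulVec]
  by_cases hD0 : ∀ u, D u = 0
  · -- a vector moved by the second root element
    obtain ⟨z₀, hz₀, hz₀0⟩ : ∃ z₀, J' (R z₀) = 0 ∧ z₀ ≠ 0 := by
      have hsurj : LinearMap.range (R' ∘ₗ J) ≠ ⊤ := fun htop =>
        hk₁ (LinearMap.ker_eq_bot'.1 (LinearMap.ker_eq_bot.2
          (LinearMap.injective_iff_surjective.2 (LinearMap.range_eq_top.1 htop))) k₁ hk₁K)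
      obtain ⟨z, -, hz⟩ := SetLike.exists_of_lt (lt_top_iff_ne_top.2 hsurj)
      obtain ⟨φ, hφz, hφ⟩ := Submodule.exists_dual_map_eq_bot_of_notMem hz inferInstance
      obtain ⟨z₀, hz₀⟩ := h₁.exists_form_eq (stdHerm_sepRight a) φ
      refine ⟨z₀, stdHerm_sepRight (σ := σ) a _ fun u => ?_, fun e => hφz (by rw [← hz₀, e]; simp)⟩
      rw [hadj]
      refine h₁.isRefl _ _ ?_
      rw [hz₀]
      have := Submodule.mem_map_of_mem (f := φ) (LinearMap.mem_range_self (R' ∘ₗ J) u)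
      rwa [hφ, Submodule.mem_bot] at this
    obtain ⟨Y, hY1, hY2⟩ := exists_coords hc hRadj hJadj hinj z₀ 0
    have e : Pm (y.1 Y - Y) = ((m : F) * ν) • Pm (R z₀) := by
      rw [hyX, pow_move_R hP _ _ hY2 (by rw [hY1, hz₀]), hY1, add_sub_cancel_left, map_smul]
    have e' : Pm (y.1 Y - Y) = 0 := by
      rw [matrix_eq_sum Y]
      simp only [map_sum, ← Finset.sum_sub_distrib]
      refine Finset.sum_eq_zero fun j _ => ?_
      have hj : stdHerm σ b b₀ (Y j) = 0 := congrFun hY2 j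
      have hdec : Y j = stdHerm σ b b₁ (Y j) • b₀ + Pr (Y j) := by simp [hPr, hj]
      rw [hdec, vecMulVec_add, vecMulVec_smul]
      simp only [map_add, map_smul, map_sub]
      have e1 : Pm (y.1 (vecMulVec (Pi.single j 1) b₀)) = 0 := by
        rw [hyAC, ← hβ, vecMulVec_smul, map_smul, ← hJu, hPmJ, smul_zero]
      have e2 := hPmy (Pi.single j 1) _ (hPrS (Y j))
      rw [hD0, zero_vecMulVec, map_sub] at e2
      rw [e1, ← hJu, hPmJ, smul_zero, zero_add, zero_add]
      exact e2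
    rw [e', eq_comm, smul_eq_zero] at e
    have hRz := e.resolve_left (mul_ne_zero hm hν0)
    have hmem : R z₀ = J (fun j => stdHerm σ b b₁ (R z₀ j)) := funext fun j => by
      have h0 : Pr (R z₀ j) = 0 := congrFun hRz j
      have h1 : stdHerm σ b b₀ (R z₀ j) = 0 := congrFun hz₀ j
      rw [hJu, vecMulVec_row]
      simp [hPr, h1] at h0
      exact sub_eq_zero.1 h0
    exact hz₀0 (hinj z₀ (-fun j => stdHerm σ b b₁ (R z₀ j)) (by rw [map_neg, ← hmem, add_neg_cancel])).1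
  -- otherwise the kernel is a degenerate hyperplane
  push Not at hD0
  obtain ⟨u₁, hu₁⟩ := hD0
  set d := D u₁ with hd
  have hdS : S.map (sl1 b d) ≤ T := by
    rintro _ ⟨w, hw, rfl⟩
    rw [sl1_apply, hd, ← hPmy u₁ w hw]
    exact hTmem _ (by simp [hJ'def, show stdHerm σ b b₀ w = 0 from hw.1])
  have hdim : finrank F (S.map (sl1 b d)) = finrank F S :=
    LinearEquiv.finrank_eq (Submodule.equivMapOfInjective _ (sl1_injective hu₁) S).symm
  have hdim' := Submodule.finrank_mono hdS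
  have hTeq : S.map (sl1 b d) = T := Submodule.eq_of_le_of_finrank_le hdS (by omega)
  have hKdim : a ≤ finrank F K + 1 := by
    have h1 := (J' ∘ₗ R).finrank_range_add_finrank_ker
    rw [finrank_fin_fun] at h1
    have h3 : finrank F Qk = finrank F (LinearMap.ker (J' ∘ₗ R)) := rfl
    have h2 := finrank_le_finrank_perp_add (stdHerm σ a) (LinearMap.range (J' ∘ₗ R))
    rw [finrank_fin_fun] at h2
    have h4 : perp (stdHerm σ a) (LinearMap.range (J' ∘ₗ R)) ≤ K := fun u hu =>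
      stdHerm_sepLeft a σ.injective _ fun z => by
        show stdHerm σ a (R' (J u)) z = 0
        rw [← hadj]
        exact h₁.isRefl _ _ (mem_perp.1 hu _ (LinearMap.mem_range_self (J' ∘ₗ R) z))
    have := Submodule.finrank_mono h4
    omega
  obtain ⟨w₀, hw₀b, hw₀b₁, hw₀w⟩ := h₂.exists_perp_pair (stdHerm_sepRight b) (by rw [finrank_fin_fun]; omega)
    hbb hbb₁ (map_one σ)
  have hw₀S : w₀ ∈ S := ⟨hw₀b, hw₀b₁⟩
  have hw₀0 : w₀ ≠ 0 := fun e => by simp [e] at hw₀w
  have hDd : ∀ u, D u ∈ F ∙ d := fun u => by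
    have hmem : Pm (y.1 (vecMulVec u w₀) - vecMulVec u w₀) ∈ T := hTmem _ (by simp [hJ'def, hw₀b])
    rw [← hTeq, hPmy u w₀ hw₀S] at hmem
    obtain ⟨w', -, hw'⟩ := hmem
    exact left_mem_span hw'.symm hw₀0
  have hγβ : γ = β := by
    by_contra hne
    have hle : K ≤ F ∙ d := fun l hl => by
      obtain ⟨t, ht⟩ := Submodule.mem_span_singleton.1 (hDd l)
      have e : γ • A l - l = (γ / β - 1) • l := by
        conv_lhs => rw [show A l = β⁻¹ • l by rw [eq_inv_smul_iff₀ hβ0, hAK l hl]]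
        rw [sub_smul, one_smul, smul_smul, div_eq_mul_inv]
      have hne' : γ / β - 1 ≠ 0 := by rwa [sub_ne_zero, ne_eq, div_eq_one_iff_eq hβ0]
      refine Submodule.mem_span_singleton.2 ⟨(γ / β - 1)⁻¹ * t, ?_⟩
      rw [mul_smul, ht, show D l = γ • A l - l by simp [hD], e, inv_smul_smul₀ hne']
    have h1 := Submodule.finrank_mono hle
    rw [finrank_span_singleton hu₁] at h1
    omega
  have hDK : ∀ l ∈ K, D l = 0 := fun l hl => by
    simp only [hD, LinearMap.sub_apply, LinearMap.smul_apply, LinearMap.id_apply, hγβ, hAK l hl, sub_self]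
  have hDx : D x = k := by
    simp only [hD, LinearMap.sub_apply, LinearMap.smul_apply, LinearMap.id_apply, hγβ, hAx, add_sub_cancel_left]
  have htop : K ⊔ F ∙ x = ⊤ := by
    have hlt : K < K ⊔ F ∙ x := lt_of_le_of_ne le_sup_left fun heq =>
      hx (show x ∈ K from heq ▸ Submodule.mem_sup_right (Submodule.mem_span_singleton_self x))
    have h1 := Submodule.finrank_lt_finrank_of_lt hlt
    have h2 := Submodule.finrank_le (K ⊔ F ∙ x)
    rw [finrank_fin_fun] at h2
    exact Submodule.eq_top_of_finrank_eq (by rw [finrank_fin_fun]; omega)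
  have hk0 : k ≠ 0 := fun e => by
    obtain ⟨l, hl, w', hw', e'⟩ := Submodule.mem_sup.1 (htop ▸ Submodule.mem_top : u₁ ∈ K ⊔ F ∙ x)
    obtain ⟨t, rfl⟩ := Submodule.mem_span_singleton.1 hw'
    exact hu₁ (by rw [hd, ← e', map_add, map_smul, hDK l hl, hDx, e, smul_zero, add_zero])
  have hkK : ∀ l ∈ K, stdHerm σ a k l = 0 := fun l hl => by
    have hsplit : ∀ u, y.1 (vecMulVec u w₀) = vecMulVec (γ • A u) w₀ + vecMulVec (A u) (stdHerm σ b b₁ (C w₀) • b₀) := by
      intro u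
      have hCw : C w₀ = γ • w₀ + stdHerm σ b b₁ (C w₀) • b₀ := by
        rw [← hγ w₀ hw₀S]
        simp [hPr, hperp w₀ hw₀b]
      rw [hyAC]
      conv_lhs => rw [hCw]
      rw [vecMulVec_add, vecMulVec_smul, smul_vecMulVec]
    have e := y.2 (vecMulVec x w₀) (vecMulVec l w₀)
    rw [hsplit, hsplit, hγβ, hAx, hAK l hl] at e
    simp only [map_add, LinearMap.add_apply, bForm_tens_tens, map_smul, map_smulₛₗ, LinearMap.smul_apply, smul_eq_mul,
      hw₀w, hbb, h₂.isRefl _ _ hw₀b, hw₀b, mul_zero, add_zero, mul_one] at e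
    linear_combination e
  have hθx : J' (R (R' (J x))) ∈ K := by
    set r := J' (R (R' (J x))) with hr
    have hrK : ∀ l ∈ K, stdHerm σ a l r = 0 := fun l hl => by
      rw [hr, hadj, show R' (J l) = 0 from hl, map_zero, LinearMap.zero_apply]
    have hxk : stdHerm σ a x k ≠ 0 := fun e => hk0 (stdHerm_sepRight (σ := σ) a _ fun u => by
      obtain ⟨l, hl, w', hw', rfl⟩ := Submodule.mem_sup.1 (htop ▸ Submodule.mem_top : u ∈ K ⊔ F ∙ x)
      obtain ⟨t, rfl⟩ := Submodule.mem_span_singleton.1 hw'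
      simp [map_smulₛₗ, h₁.isRefl _ _ (hkK l hl), e])
    have e : r = (stdHerm σ a x r / stdHerm σ a x k) • k := sub_eq_zero.1 (stdHerm_sepRight (σ := σ) a _ fun u => by
      obtain ⟨l, hl, w', hw', rfl⟩ := Submodule.mem_sup.1 (htop ▸ Submodule.mem_top : u ∈ K ⊔ F ∙ x)
      obtain ⟨t, rfl⟩ := Submodule.mem_span_singleton.1 hw'
      simp [map_smulₛₗ, hrK l hl, h₁.isRefl _ _ (hkK l hl), hxk])
    rw [e]
    exact K.smul_mem _ hk
  exact hdeg x hx hθx

end CfsgLib.Classical.TensorMaxU
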