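import Cfsg.Agent.Lib.Classical.TensorMaxU.Tools

/-!
# From one transvection axis to all of them
-/

set_option autoImplicit false
set_option linter.unusedSectionVars false

namespace CfsgLib.Classical.TensorMaxU

open Matrix Module
open CfsgLib.Classical.TensorMax (IsTensor)

variable {F : Type*} [Field F] [Finite F] {σ : F →+* F} {a b : ℕ}
  {M : Subgroup (isomGroup (bForm σ a b))}

/-- Pure tensors of isotropic vectors are axes. -/
theorem pure_axes (hc : IsConjugation σ) (hM : ContainsTensor M) (hb : 3 ≤ b) {u₀ : Fin a → F} {b₀ : Fin b → F}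
    (hu0 : u₀ ≠ 0) (huu : stdHerm σ a u₀ u₀ = 0) (hb0 : b₀ ≠ 0) (hbb : stdHerm σ b b₀ b₀ = 0)
    (hax : IsTAxis M (vecMulVec u₀ b₀)) {u : Fin a → F} {w : Fin b → F} (hu : stdHerm σ a u u = 0)
    (hw : stdHerm σ b w w = 0) : IsTAxis M (vecMulVec u w) := by
  have hB := bForm_isHermitian (a := a) (b := b) hc
  rcases eq_or_ne u 0 with rfl | hu'
  · rw [zero_vecMulVec]; exact hB.isTAxis_zero M
  rcases eq_or_ne w 0 with rfl | hw'
  · rw [TensorMax.vecMulVec_zero']; exact hB.isTAxis_zero M
  obtain ⟨A, l, hA⟩ := (stdHerm_isHermitian hc a).move_point (stdHerm_sepRight a) huu hu hu0 hu'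
  obtain ⟨C, hC, hCb⟩ := (stdHerm_isHermitian hc b).exists_sIsom_single (stdHerm_sepRight b)
    (by rw [finrank_fin_fun]; omega) hb0 hw' (hbb.trans hw.symm)
  have h := (hax.map (hM.col (A := A.1) (MonoidHom.mem_ker.1 A.2))).map (hM.row hC)
  rw [colHom_apply, colMap_vecMulVec, hA, rowHom_apply, rowMap_vecMulVec, hCb] at h
  have hl : l ≠ 0 := fun e => hu0 (A.1.1.injective (by rw [hA, e, zero_smul, map_zero]))
  have h2 := h.smul hc.invol (inv_ne_zero hl)
  rwa [← smul_vecMulVec, inv_smul_smul₀ hl] at h2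

/-- A pure tensor with anisotropic first factor that is an axis. -/
theorem exists_aniso_axis (hc : IsConjugation σ) (hM : ContainsTensor M) (ha : 2 ≤ a) (hex : BigFixed σ ∨ 3 ≤ a)
    (hb : 3 ≤ b) (hp : ∀ u w, stdHerm σ a u u = 0 → stdHerm σ b w w = 0 → IsTAxis M (vecMulVec u w)) :
    ∃ (u : Fin a → F) (p : Fin b → F), stdHerm σ a u u ≠ 0 ∧ p ≠ 0 ∧ stdHerm σ b p p = 0 ∧
      IsTAxis M (vecMulVec u p) := by
  classical
  have h₁ := stdHerm_isHermitian hc a
  have h₂ := stdHerm_isHermitian hc b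
  have hB := bForm_isHermitian (a := a) (b := b) hc
  obtain ⟨p, hp0, hpp⟩ := h₂.exists_iso (stdHerm_sepRight b) (by rw [finrank_fin_fun]; omega)
  obtain ⟨r, hrr, hpr, hrp⟩ := h₂.exists_pair (stdHerm_sepRight b) hp0 hpp
  have pure_iso : ∀ {u : Fin a → F} (w : Fin b → F), stdHerm σ a u u = 0 →
      bForm σ a b (vecMulVec u w) (vecMulVec u w) = 0 := fun w hu => by rw [bForm_tens_tens, hu, zero_mul]
  by_cases hbig : BigFixed σ
  · obtain ⟨l, hl, hl0, hl1⟩ := hbig
    obtain ⟨u, hu0, huu⟩ := h₁.exists_iso (stdHerm_sepRight a) (by rw [finrank_fin_fun]; omega)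
    obtain ⟨n, hnn, hun, hnu⟩ := h₁.exists_pair (stdHerm_sepRight a) hu0 huu
    obtain ⟨φ, hφt, hφf⟩ : ∃ φ : F, φ + σ φ ≠ 0 ∧ σ φ ≠ φ := by
      obtain ⟨x, hx⟩ := hc.exists_not_fixed
      by_cases hxt : x + σ x = 0
      · refine ⟨x + 1, fun e => hx ?_, fun e => hx (by rw [map_add, map_one] at e; linear_combination e)⟩
        rw [map_add, map_one] at e
        have h2 : (2 : F) = 0 := by linear_combination e - hxt
        linear_combination hxt - x * h2
      · exact ⟨x, hxt, hx⟩
    have hφ0 : φ ≠ 0 := fun e => hφt (by rw [e, map_zero, add_zero])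
    obtain ⟨κ, hκ0, hκ⟩ := hc.exists_trace_zero
    have hσκ : σ κ = -κ := eq_neg_of_add_eq_zero_right hκ
    set t := -(κ * φ) with ht
    set ε := t + σ t with hε
    set π := κ * (φ * σ φ) with hπ
    have hπ0 : π ≠ 0 := mul_ne_zero hκ0 (mul_ne_zero hφ0 fun e => hφ0 (by rw [← hc.invol φ, e, map_zero]))
    have hσπ : σ π = -π := by rw [hπ, map_mul, hc.norm_fixed, hσκ]; ring
    have h1l : 1 - l ≠ 0 := sub_ne_zero.2 (Ne.symm hl1)
    set κ' := π / (1 - l) with hκ'
    have hκ'0 : κ' ≠ 0 := div_ne_zero hπ0 h1l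
    have hσκ' : σ κ' = -κ' := by rw [hκ', map_div₀, hσπ, map_sub, map_one, hl, neg_div]
    have hεf : σ ε = ε := by rw [hε, map_add, hc.invol, add_comm]
    obtain ⟨β, hβ⟩ := hc.exists_trace_eq (a := -(ε / l)) (by rw [map_neg, map_div₀, hl, hεf])
    obtain ⟨z, hpz, hrz, hzz⟩ := h₂.exists_perp_pair (stdHerm_sepRight b) (by rw [finrank_fin_fun]; omega) hpp hpr
      (t := ε / l) (by rw [map_div₀, hl, hεf])
    set w := p + β • r + z with hw
    clear_value w
    have hpw : stdHerm σ b p w = β := by simp [hw, hpp, hpr, hpz]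
    have hwr : stdHerm σ b w r = 1 := by simp [hw, map_smulₛₗ, hrr, hpr, h₂.isRefl _ _ hrz]
    have hwp : stdHerm σ b w p = σ β := by rw [← hpw, h₂.symm]
    have hww : stdHerm σ b w w = 0 := by
      simp [hw, map_smulₛₗ, hpp, hrr, hpr, hrp, hpz, hrz, hzz, h₂.isRefl _ _ hpz, h₂.isRefl _ _ hrz]
      linear_combination hβ
    -- two steps
    have s1 := hB.axis_step bForm_sepRight (hp n r hnn hrr) (pure_iso r hnn) (hp u p huu hpp) (c := κ')
      (by rw [hσκ']; ring)
    rw [bForm_tens_tens, hnu, hrp, one_mul, mul_one] at s1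
    have s2 := hB.axis_step bForm_sepRight (hp u w huu hww) (pure_iso w huu) s1 (c := -l / κ') (by
      rw [map_div₀, map_neg, hl, hσκ', neg_div_neg_eq]; ring)
    rw [map_add, map_smul, bForm_tens_tens, bForm_tens_tens, huu, hun, hwr, zero_mul, zero_add, one_mul, smul_eq_mul,
      mul_one, div_mul_cancel₀ _ hκ'0] at s2
    -- move the rows
    obtain ⟨C, hC, hC1, hC2⟩ := h₂.exists_sIsom_pair (stdHerm_sepRight b) (by rw [finrank_fin_fun]; omega)
      (x₁ := p + (-l) • w) (x₂ := κ' • r) (y₁ := p + t • r) (y₂ := φ • p)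
      (by
        simp [map_smulₛₗ, hpp, hrr, hpr, hrp, hpw, hwp, hww, hl]
        have e : l * (β + σ β) = -ε := by rw [hβ, mul_neg, mul_div_cancel₀ _ hl0]
        rw [hε] at e
        linear_combination -e)
      (by
        simp [map_smulₛₗ, hpp, hrr, hpr, hrp, hwr, hl]
        rw [ht, map_neg, map_mul, hσκ]
        have e : κ' * (1 - l) = π := by rw [hκ', div_mul_cancel₀ _ h1l]
        rw [hπ] at e
        linear_combination e)
      (by simp [map_smulₛₗ, hpp, hrr])
      (by
        have ht0 : t ≠ 0 := by rw [ht]; exact neg_ne_zero.2 (mul_ne_zero hκ0 hφ0)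
        have hσ0 : ∀ x : F, x ≠ 0 → σ x ≠ 0 := fun x hx e => hx (by rw [← hc.invol x, e, map_zero])
        have e : stdHerm σ b (p + t • r) (p + t • r) * stdHerm σ b (φ • p) (φ • p) -
            stdHerm σ b (p + t • r) (φ • p) * stdHerm σ b (φ • p) (p + t • r) = -((t * σ t) * (φ * σ φ)) := by
          simp [map_smulₛₗ, hpp, hrr, hpr, hrp]; ring
        rw [e]
        exact neg_ne_zero.2 (mul_ne_zero (mul_ne_zero ht0 (hσ0 t ht0)) (mul_ne_zero hφ0 (hσ0 φ hφ0))))
    have s3 : IsTAxis M (vecMulVec u (p + t • r) + vecMulVec n (φ • p)) := by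
      have h := s2.map (hM.row hC)
      rw [rowHom_apply, show vecMulVec u p + κ' • vecMulVec n r + (-l) • vecMulVec u w =
        vecMulVec u (p + (-l) • w) + vecMulVec n (κ' • r) by
          rw [vecMulVec_add, vecMulVec_smul, vecMulVec_smul]; abel,
        map_add, rowMap_vecMulVec, rowMap_vecMulVec, hC1, hC2] at h
      exact h
    have s4 := hB.axis_step bForm_sepRight (hp u r huu hrr) (pure_iso r huu) s3 (c := κ) hκ
    rw [map_add, bForm_tens_tens, bForm_tens_tens, huu, hun, zero_mul, zero_add, one_mul, map_smul, hrp, smul_eq_mul,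
      mul_one] at s4
    refine ⟨u + φ • n, p, ?_, hp0, hpp, ?_⟩
    · simpa [map_smulₛₗ, huu, hun, hnu, hnn, add_comm] using hφt
    · rwa [show vecMulVec u (p + t • r) + vecMulVec n (φ • p) + (κ * φ) • vecMulVec u r =
        vecMulVec (u + φ • n) p by
          rw [vecMulVec_add, vecMulVec_smul, vecMulVec_smul, add_vecMulVec, smul_vecMulVec, ht]; module] at s4
  -- over four elements
  have ha3 : 3 ≤ a := hex.resolve_left hbig
  obtain ⟨h2, hnorm, htr, ω, hω0, hω⟩ := small_facts hc hbig
  have hωω : ω * ω + ω + 1 = 0 := by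
    linear_combination ω * hω - hnorm ω hω0 + (ω + 0) * h2
  set e₁ : Fin a → F := Pi.single ⟨0, by omega⟩ 1 with he₁
  set e₂ : Fin a → F := Pi.single ⟨1, by omega⟩ 1 with he₂
  set e₃ : Fin a → F := Pi.single ⟨2, by omega⟩ 1 with he₃
  have o11 : stdHerm σ a e₁ e₁ = 1 := by simp [he₁, stdHerm_single]
  have o22 : stdHerm σ a e₂ e₂ = 1 := by simp [he₂, stdHerm_single]
  have o33 : stdHerm σ a e₃ e₃ = 1 := by simp [he₃, stdHerm_single]
  have o12 : stdHerm σ a e₁ e₂ = 0 := by simp [he₁, he₂, stdHerm_single, Fin.ext_iff]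
  have o13 : stdHerm σ a e₁ e₃ = 0 := by simp [he₁, he₃, stdHerm_single, Fin.ext_iff]
  have o23 : stdHerm σ a e₂ e₃ = 0 := by simp [he₂, he₃, stdHerm_single, Fin.ext_iff]
  have o21 := h₁.isRefl _ _ o12
  have o31 := h₁.isRefl _ _ o13
  have o32 := h₁.isRefl _ _ o23
  have hsum : ∀ {e e' : Fin a → F} {c : F}, stdHerm σ a e e = 1 → stdHerm σ a e' e' = 1 → stdHerm σ a e e' = 0 →
      c ≠ 0 → stdHerm σ a (e + c • e') (e + c • e') = 0 := fun h h' h0 hc0 => by
    simp [map_smulₛₗ, h, h', h0, h₁.isRefl _ _ h0]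
    linear_combination hnorm _ hc0 + h2
  have hpr' : stdHerm σ b (p + r) (p + r) = 0 := by
    simp [hpp, hrr, hpr, hrp]; linear_combination h2
  have h1σ : (1 : F) + σ (1 : F) = 0 := by rw [map_one]; linear_combination h2
  have hω2 : ω * ω ≠ 0 := mul_ne_zero hω0 hω0
  have z0 := hsum o22 o33 o23 (one_ne_zero (α := F))
  have z1 := hsum o11 o33 o13 (one_ne_zero (α := F))
  have z2 := hsum o22 o33 o23 hω0
  have z3 := hsum o22 o33 o23 hω2
  have z4 := hsum o11 o22 o12 (one_ne_zero (α := F))
  rw [one_smul] at z0 z1 z4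
  have s1 := hB.axis_step bForm_sepRight (hp _ _ z1 hpr') (pure_iso _ z1) (hp _ _ z0 hrr) h1σ
  rw [bForm_tens_tens, one_mul] at s1
  rw [show stdHerm σ a (e₁ + e₃) (e₂ + e₃) * stdHerm σ b (p + r) r = 1 by simp [o12, o13, o32, o33, hpr, hrr],
    one_smul] at s1
  have s2 := hB.axis_step bForm_sepRight (hp _ _ z2 hpp) (pure_iso _ z2) s1 h1σ
  rw [show (1 : F) * bForm σ a b (vecMulVec (e₂ + ω • e₃) p)
      (vecMulVec (e₂ + e₃) r + vecMulVec (e₁ + e₃) (p + r)) = 1 by
    simp [map_smulₛₗ, bForm_tens_tens, o22, o23, o32, o33, o21, o31, hpp, hpr, hrp]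
    linear_combination σ ω * h2, one_smul] at s2
  have s3 := hB.axis_step bForm_sepRight (hp _ _ z3 hpp) (pure_iso _ z3) s2 h1σ
  rw [show (1 : F) * bForm σ a b (vecMulVec (e₂ + (ω * ω) • e₃) p)
      (vecMulVec (e₂ + e₃) r + vecMulVec (e₁ + e₃) (p + r) + vecMulVec (e₂ + ω • e₃) p) = 1 by
    simp [map_smulₛₗ, bForm_tens_tens, o22, o23, o32, o33, o21, o31, hpp, hpr, hrp]
    linear_combination σ ω * σ ω * h2, one_smul] at s3
  have s4 := hB.axis_step bForm_sepRight (hp _ _ z4 hrr) (pure_iso _ z4) s3 h1σ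
  rw [show (1 : F) * bForm σ a b (vecMulVec (e₁ + e₂) r)
      (vecMulVec (e₂ + e₃) r + vecMulVec (e₁ + e₃) (p + r) + vecMulVec (e₂ + ω • e₃) p
        + vecMulVec (e₂ + (ω * ω) • e₃) p) = 1 by
    simp [map_smulₛₗ, bForm_tens_tens, o11, o22, o12, o13, o21, o23, hrr, hpr, hrp]
    linear_combination h2, one_smul] at s4
  refine ⟨e₁, p, by rw [o11]; exact one_ne_zero, hp0, hpp, ?_⟩
  have e : vecMulVec (e₂ + e₃) r + vecMulVec (e₁ + e₃) (p + r) + vecMulVec (e₂ + ω • e₃) p
      + vecMulVec (e₂ + (ω * ω) • e₃) p + vecMulVec (e₁ + e₂) r = vecMulVec e₁ p := by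
    simp only [add_vecMulVec, vecMulVec_add, smul_vecMulVec]
    match_scalars <;> first
      | linear_combination hωω
      | linear_combination h2
      | linear_combination (0 : F) * h2
  rwa [e] at s4

/-- Apply a map to one row. -/
noncomputable def rowOne (i : Fin a) :
    isomGroup (stdHerm σ b) →* isomGroup (bForm σ a b) where
  toFun C := ⟨
    { toFun := fun X => Matrix.of fun j => if j = i then C.1 (X j) else X j
      invFun := fun X => Matrix.of fun j => if j = i then C.1.symm (X j) else X j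
      map_add' := fun X Y => funext fun j => by
        by_cases h : j = i
        · show (if j = i then C.1 (X j + Y j) else X j + Y j) =
            (if j = i then C.1 (X j) else X j) + (if j = i then C.1 (Y j) else Y j)
          simp [h]
        · show (if j = i then C.1 (X j + Y j) else X j + Y j) =
            (if j = i then C.1 (X j) else X j) + (if j = i then C.1 (Y j) else Y j)
          simp [h]
      map_smul' := fun c X => funext fun j => by
        show (if j = i then C.1 (c • X j) else c • X j) = c • (if j = i then C.1 (X j) else X j)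
        split <;> simp
      left_inv := fun X => funext fun j => by
        show (if j = i then C.1.symm (if j = i then C.1 (X j) else X j) else (if j = i then C.1 (X j) else X j)) = X j
        split <;> simp
      right_inv := fun X => funext fun j => by
        show (if j = i then C.1 (if j = i then C.1.symm (X j) else X j) else (if j = i then C.1.symm (X j) else X j))
          = X j
        split <;> simp },
    fun X Y => by
      rw [bForm_apply, bForm_apply]
      refine Finset.sum_congr rfl fun j _ => ?_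
      show stdHerm σ b (if j = i then C.1 (X j) else X j) (if j = i then C.1 (Y j) else Y j) = _
      split
      · exact C.2 _ _
      · rfl⟩
  map_one' := Subtype.ext (LinearEquiv.ext fun X => funext fun j => by
    show (if j = i then X j else X j) = X j
    simp)
  map_mul' C C' := Subtype.ext (LinearEquiv.ext fun X => funext fun j => by
    show (if j = i then C.1 (C'.1 (X j)) else X j) =
      (if j = i then C.1 (if j = i then C'.1 (X j) else X j) else (if j = i then C'.1 (X j) else X j))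
    split <;> simp)

theorem rowOne_row (i j : Fin a) (C : isomGroup (stdHerm σ b)) (X : Matrix (Fin a) (Fin b) F) :
    (rowOne i C).1 X j = if j = i then C.1 (X j) else X j := rfl

/-- If every pure tensor with isotropic second factor is an axis, every isotropic vector is. -/
theorem all_axes (hc : IsConjugation σ) (hb : 3 ≤ b) (hsmall : b = 3 → BigFixed σ ∧ a = 2)
    (hp : ∀ u w, stdHerm σ b w w = 0 → IsTAxis M (vecMulVec u w)) {X : Matrix (Fin a) (Fin b) F}
    (hX : bForm σ a b X X = 0) : IsTAxis M X := by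
  classical
  have h₂ := stdHerm_isHermitian hc b
  have hB := bForm_isHermitian (a := a) (b := b) hc
  -- single rows
  have hone : ∀ (i : Fin a) (C : isomGroup (stdHerm σ b)), idet (stdHerm σ b) C = 1 → rowOne i C ∈ M := by
    intro i C hC
    have hC' : C ∈ tGroup (stdHerm σ b) := by
      rw [← h₂.sIsom_eq_tGroup (stdHerm_sepRight b) fun _ => (eq_or_lt_of_le hb).imp (fun e => (hsmall e.symm).1)
        (fun e => by rw [finrank_fin_fun]; omega)]
      exact MonoidHom.mem_ker.2 hC
    suffices h : tGroup (stdHerm σ b) ≤ M.comap (rowOne i) from h hC'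
    refine (Subgroup.closure_le _).2 ?_
    rintro T ⟨v, μ, hT⟩
    refine hp (Pi.single i 1) v hT.1 _ μ ⟨by rw [bForm_tens_tens, hT.1, mul_zero], hT.2.1, fun Y => funext fun j => ?_⟩
    rw [rowOne_row, bForm_tens, stdHerm_single, co2_apply]
    show _ = Y j + (μ * stdHerm σ b v (Y i)) • vecMulVec (Pi.single i 1) v j
    rw [vecMulVec_row]
    by_cases hj : j = i
    · subst hj; rw [if_pos rfl, hT.2.2]; simp
    · simp [hj]
  -- changing rows
  have hupd : ∀ (s : Finset (Fin a)) (Y Z : Matrix (Fin a) (Fin b) F),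
      (∀ j, j ∉ s → Y j = Z j) → (∀ j, stdHerm σ b (Y j) (Y j) = stdHerm σ b (Z j) (Z j)) →
      (∀ j, Y j = 0 ↔ Z j = 0) → IsTAxis M Y → IsTAxis M Z := by
    intro s
    induction s using Finset.induction_on with
    | empty =>
      intro Y Z h _ _ hY
      rwa [show Z = Y from funext fun j => (h j (Finset.notMem_empty j)).symm]
    | insert i s his ih =>
      intro Y Z h hn h0 hY
      by_cases hi : Y i = 0
      · refine ih Y Z (fun j hj => ?_) hn h0 hY
        rcases eq_or_ne j i with rfl | hji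
        · rw [hi, (h0 j).1 hi]
        · exact h j (by simp [hji, hj])
      obtain ⟨C, hC, hCi⟩ := h₂.exists_sIsom_single (stdHerm_sepRight b) (by rw [finrank_fin_fun]; omega) hi
        (fun e => hi ((h0 i).2 e)) (hn i)
      refine ih ((rowOne i C).1 Y) Z (fun j hj => ?_) (fun j => ?_) (fun j => ?_) (hY.map (hone i C hC))
      all_goals rw [rowOne_row]
      · split
        · rename_i e; subst e; exact hCi
        · rename_i e; exact h j (by simp [e, hj])
      · split
        · rw [C.2]; exact hn j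
        · exact hn j
      · split
        · rw [LinearEquiv.map_eq_zero_iff]; exact h0 j
        · exact h0 j
  rcases eq_or_ne X 0 with rfl | hX0
  · exact hB.isTAxis_zero M
  set S := Finset.univ.filter (fun i => X i ≠ 0) with hS
  obtain ⟨i₀, hi₀⟩ : ∃ i, X i ≠ 0 := Function.ne_iff.1 hX0
  have hi₀S : i₀ ∈ S := by simp [hS, hi₀]
  obtain ⟨p, hp0, hpp⟩ := h₂.exists_iso (stdHerm_sepRight b) (by rw [finrank_fin_fun]; omega)
  obtain ⟨r, hrr, hpr, hrp⟩ := h₂.exists_pair (stdHerm_sepRight b) hp0 hpp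
  obtain ⟨κ, hκ0, hκ⟩ := hc.exists_trace_zero
  have hσκ : σ κ = -κ := eq_neg_of_add_eq_zero_right hκ
  have hpick : ∀ i, ∃ z : F, z + σ z = stdHerm σ b (X i) (X i) ∧ (b = 3 → z / κ ≠ 0 ∧ z / κ ≠ 1) := fun i => by
    obtain ⟨z, hz⟩ := hc.exists_trace_eq (h₂.self_fixed (X i))
    by_cases hb3 : b = 3
    swap
    · exact ⟨z, hz, fun e => absurd e hb3⟩
    obtain ⟨l, hl, hl0, hl1⟩ := (hsmall hb3).1
    obtain ⟨m, hm, hm0, hm1⟩ : ∃ m : F, σ m = m ∧ z / κ + m ≠ 0 ∧ z / κ + m ≠ 1 := by
      by_contra! hall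
      have e0 := hall 0 (map_zero σ)
      have e1 := hall 1 (map_one σ)
      have el := hall l hl
      rcases Classical.em (z / κ + 0 = 0) with a0 | a0 <;> rcases Classical.em (z / κ + 1 = 0) with a1 | a1 <;>
        rcases Classical.em (z / κ + l = 0) with al | al
      all_goals
        first
          | exact one_ne_zero (by linear_combination a1 - a0 : (1 : F) = 0)
          | exact hl0 (by linear_combination al - a0)
          | exact hl1 (by linear_combination al - a1)
          | exact one_ne_zero (by linear_combination e1 a1 - e0 a0 : (1 : F) = 0)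
          | exact hl0 (by linear_combination el al - e0 a0)
          | exact hl1 (by linear_combination el al - e1 a1)
    refine ⟨z + m * κ, ?_, fun _ => ?_⟩
    · rw [map_add, map_mul, hm]; linear_combination hz + m * hκ
    · rw [add_div, mul_div_cancel_right₀ _ hκ0]; exact ⟨hm0, hm1⟩
  choose ζ hζ hζne using hpick
  set γ : Fin a → F := fun i => if i = i₀ then 1 - ∑ j ∈ S.erase i₀, σ (ζ j / κ) else σ (ζ i / κ) with hγ
  have hγsum : ∑ i ∈ S, γ i = 1 := by
    rw [← Finset.add_sum_erase _ _ hi₀S, hγ]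
    simp only [if_true]
    rw [Finset.sum_congr rfl fun i hi => if_neg (Finset.ne_of_mem_erase hi)]
    ring
  have hne : ∀ i, i ≠ i₀ → κ * σ (γ i) + σ (κ * σ (γ i)) = stdHerm σ b (X i) (X i) := fun i hi => by
    rw [hγ]
    simp only [if_neg hi, hc.invol]
    rw [mul_div_cancel₀ _ hκ0, hζ]
  have hsumν : ∑ i ∈ S, stdHerm σ b (X i) (X i) = 0 := by
    rw [bForm_apply] at hX
    rw [hS, Finset.sum_filter]
    refine Eq.trans (Finset.sum_congr rfl fun i _ => ?_) hX
    by_cases h : X i = 0 <;> simp [h]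
  have hγν : ∀ i ∈ S, κ * σ (γ i) + σ (κ * σ (γ i)) = stdHerm σ b (X i) (X i) := by
    intro i hi
    rcases eq_or_ne i i₀ with rfl | hne'
    · have e1 : ∑ j ∈ S, (κ * σ (γ j) + σ (κ * σ (γ j))) = 0 := by
        rw [Finset.sum_add_distrib, ← Finset.mul_sum, ← map_sum σ, ← map_sum σ (fun j => κ * σ (γ j)),
          ← Finset.mul_sum, ← map_sum σ, hγsum, map_one, mul_one, hκ]
      rw [← Finset.add_sum_erase _ _ hi] at e1
      rw [← Finset.add_sum_erase _ _ hi, ← Finset.sum_congr rfl fun j hj => hne j (Finset.ne_of_mem_erase hj)]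
        at hsumν
      exact (eq_of_sub_eq_zero (by linear_combination e1 - hsumν))
    · exact hne i hne'
  have hγne : b = 3 → ∀ i ∈ S, γ i ≠ 0 := by
    intro hb3 i hi
    rw [hγ]
    by_cases hii : i = i₀
    · simp only [hii, if_true]
      have h1 : (S.erase i₀).card ≤ 1 := by
        refine (Finset.card_le_card (Finset.erase_subset_erase _ (Finset.subset_univ S))).trans ?_
        rw [Finset.card_erase_of_mem (Finset.mem_univ _), Finset.card_univ, Fintype.card_fin, (hsmall hb3).2]
      rcases (S.erase i₀).eq_empty_or_nonempty with he | ⟨j, hj⟩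
      · rw [he, Finset.sum_empty, sub_zero]; exact one_ne_zero
      · rw [(Finset.eq_of_subset_of_card_le (Finset.singleton_subset_iff.2 hj) (by simpa using h1)).symm,
          Finset.sum_singleton]
        exact fun e => (hζne j hb3).2 (σ.injective (by rw [map_one]; exact (sub_eq_zero.1 e).symm))
    · simp only [hii, if_false]
      exact (map_ne_zero σ).2 (hζne i hb3).1
  have hw' : ∀ (c : F), (c = 0 → 4 ≤ b) → ∃ w, stdHerm σ b w w = 0 ∧ stdHerm σ b p w = c ∧ w ∉ F ∙ p := by
    intro c hcb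
    by_cases hc0 : c = 0
    · obtain ⟨z, hz, hz0, hzz⟩ := h₂.exists_iso_mem (W := perp (stdHerm σ b) (Submodule.span F {p, r})) (by
        have h3 := (h₂.nondegOn_hyp hpp hpr).finrank_perp
        rw [h₂.finrank_hyp hpp hpr, finrank_fin_fun] at h3
        have := hcb hc0
        omega)
      refine ⟨z, hzz, by rw [hc0]; exact mem_perp_span.1 hz p (by simp), fun hm => hz0 ?_⟩
      obtain ⟨l, hl⟩ := Submodule.mem_span_singleton.1 hm
      have e := mem_perp_span.1 hz r (by simp)
      rw [← hl, map_smul, hrp, smul_eq_mul, mul_one] at e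
      rw [← hl, e, zero_smul]
    · refine ⟨c • r, by simp [hrr], by simp [hpr], fun hm => hc0 ?_⟩
      obtain ⟨l, hl⟩ := Submodule.mem_span_singleton.1 hm
      have e := congrArg (stdHerm σ b p) hl
      simpa [hpp, hpr] using e.symm
  have hw'' : ∀ i, ∃ w, stdHerm σ b w w = 0 ∧ (i ∈ S → stdHerm σ b p w = γ i) ∧ w ∉ F ∙ p := fun i => by
    by_cases hi : i ∈ S
    · obtain ⟨w, h1, h2, h3⟩ := hw' (γ i) fun e => by
        by_contra hlt
        exact hγne (by omega) i hi e
      exact ⟨w, h1, fun _ => h2, h3⟩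
    · obtain ⟨w, h1, -, h3⟩ := hw' 1 fun e => absurd e one_ne_zero
      exact ⟨w, h1, fun h => absurd h hi, h3⟩
  choose w hww hpw hwp using hw''
  set χ : Fin a → F := fun i => if i ∈ S then 1 else 0 with hχ
  set Y : Matrix (Fin a) (Fin b) F := Matrix.of fun i => if i ∈ S then w i else 0 with hY
  have hYrow : ∀ i, Y i = if i ∈ S then w i else 0 := fun i => rfl
  have hYax : IsTAxis M Y := by
    refine hupd Finset.univ (vecMulVec χ p) Y (fun j hj => absurd (Finset.mem_univ j) hj) (fun j => ?_) (fun j => ?_)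
      (hp χ p hpp)
    all_goals rw [vecMulVec_row, hYrow, hχ]
    · by_cases hj : j ∈ S <;> simp [hj, hpp, hww j]
    · by_cases hj : j ∈ S
      · simp [hj, hp0, show w j ≠ 0 from fun e => hwp j (by rw [e]; exact Submodule.zero_mem _)]
      · simp [hj]
  have hBY : bForm σ a b (vecMulVec χ p) Y = 1 := by
    rw [bForm_apply, ← hγsum, ← Finset.sum_filter_add_sum_filter_not Finset.univ (· ∈ S), Finset.filter_mem_eq_inter,
      Finset.univ_inter]
    rw [Finset.sum_eq_zero (s := Finset.univ.filter fun j => ¬ j ∈ S) fun j hj => by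
      rw [hYrow, if_neg (Finset.mem_filter.1 hj).2, map_zero], add_zero]
    exact Finset.sum_congr rfl fun j hj => by
      rw [vecMulVec_row, hYrow, hχ]
      simp [hj, hpw j hj]
  have hstep := hB.axis_step bForm_sepRight (hp χ p hpp) (by rw [bForm_tens_tens, hpp, mul_zero]) hYax hκ
  rw [hBY, mul_one] at hstep
  refine hupd Finset.univ _ X (fun j hj => absurd (Finset.mem_univ j) hj) (fun j => ?_) (fun j => ?_) hstep
  all_goals
    rw [show (Y + κ • vecMulVec χ p) j = Y j + κ • vecMulVec χ p j from rfl, vecMulVec_row, hYrow, hχ]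
    by_cases hj : j ∈ S
  · simp [hj, map_smulₛₗ, hpp, hww j, hpw j hj]
    have e : stdHerm σ b (w j) p = σ (γ j) := by rw [← hpw j hj, h₂.symm]
    rw [e]
    have e2 := hγν j hj
    rw [map_mul, hc.invol] at e2
    linear_combination e2
  · have : X j = 0 := by simpa [hS] using hj
    simp [hj, this]
  · have hXj : X j ≠ 0 := by simpa [hS] using hj
    simp only [hj, if_true, one_smul, hXj, iff_false]
    exact fun e => hwp j (Submodule.mem_span_singleton.2 ⟨-κ, by linear_combination (norm := module) -e⟩)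
  · have : X j = 0 := by simpa [hS] using hj
    simp [hj, this]

/-- One axis generates the special unitary group. -/
theorem sIsom_le_of_axis (hc : IsConjugation σ) (hM : ContainsTensor M) (ha : 2 ≤ a) (hex : BigFixed σ ∨ 3 ≤ a)
    (hb : 3 ≤ b) (hsmall : b = 3 → BigFixed σ ∧ a = 2) {u₀ : Fin a → F} {b₀ : Fin b → F} (hu0 : u₀ ≠ 0) (huu : stdHerm σ a u₀ u₀ = 0) (hb0 : b₀ ≠ 0)
    (hbb : stdHerm σ b b₀ b₀ = 0) (hax : IsTAxis M (vecMulVec u₀ b₀)) : sIsom (bForm σ a b) ≤ M := by
  have h₁ := stdHerm_isHermitian hc a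
  have h₂ := stdHerm_isHermitian hc b
  have hB := bForm_isHermitian (a := a) (b := b) hc
  have hiso := fun u w => pure_axes hc hM (by omega) hu0 huu hb0 hbb hax (u := u) (w := w)
  obtain ⟨u₁, p, hu₁, hp0, hpp, hax₁⟩ := exists_aniso_axis hc hM ha hex hb fun u w => hiso u w
  refine hB.sIsom_le_of_axes bForm_sepRight ?_ fun X hX => all_axes hc hb hsmall (fun u w hw => ?_) hX
  · rw [finrank_matrix, Fintype.card_fin, Fintype.card_fin, finrank_self, mul_one]
    nlinarith
  rcases eq_or_ne (stdHerm σ a u u) 0 with hu | hu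
  · exact hiso u w hu hw
  rcases eq_or_ne w 0 with rfl | hw0
  · rw [TensorMax.vecMulVec_zero']; exact hB.isTAxis_zero M
  obtain ⟨C, hC, hCp⟩ := h₂.exists_sIsom_single (stdHerm_sepRight b) (by rw [finrank_fin_fun]; omega) hp0 hw0
    (hpp.trans hw.symm)
  obtain ⟨l, hl⟩ := h₁.exists_scaled hu₁ (h₁.self_fixed u)
  have hl0 : l ≠ 0 := fun e => hu (by rw [← hl, e, zero_smul]; simp)
  obtain ⟨A, hA, hAu⟩ := h₁.exists_sIsom_aniso (stdHerm_sepRight a) (by rw [finrank_fin_fun]; omega) hu hl
  have h := ((hax₁.smul hc.invol hl0).map (hM.col hA)).map (hM.row hC)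
  rwa [← smul_vecMulVec, colHom_apply, colMap_vecMulVec, hAu, rowHom_apply, rowMap_vecMulVec, hCp] at h

end CfsgLib.Classical.TensorMaxU
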