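import Cfsg.Agent.Lib.Classical.TensorMaxU.Two

/-!
# The first step of the climb
-/

set_option autoImplicit false
set_option linter.unusedSectionVars false

namespace CfsgLib.Classical.TensorMaxU

open Matrix Module
open CfsgLib.Classical.TensorMax (IsTensor)

variable {F : Type*} [Field F] [Finite F] {σ : F →+* F} {a b : ℕ}
  {M : Subgroup (isomGroup (bForm σ a b))}

/-- Some element outside the stabiliser maps a vector of an isotropic slice into a slice. -/
theorem base (hc : IsConjugation σ) (hM : ContainsTensor M) (ha : 2 ≤ a) (hab : a < b) (hb : 3 ≤ b) (hsmall : b = 3 → BigFixed σ)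
    {g₀ : isomGroup (bForm σ a b)} (hg₀ : g₀ ∈ M) (hg₀T : ¬ IsTensor g₀.1) : Good M 1 := by
  classical
  have h₁ := stdHerm_isHermitian hc a
  have h₂ := stdHerm_isHermitian hc b
  obtain ⟨v₀, hv₀0, hv₀⟩ := h₂.exists_iso (stdHerm_sepRight b) (by rw [finrank_fin_fun]; omega)
  obtain ⟨u, hu0, huu⟩ := h₁.exists_iso (stdHerm_sepRight a) (by rw [finrank_fin_fun]; omega)
  obtain ⟨ν, hν0, hν⟩ := hc.exists_trace_zero
  have hroot : ∀ {g : isomGroup (bForm σ a b)} {v : Fin b → F}, g ∈ M → ¬ IsTensor g.1 → v ≠ 0 →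
      stdHerm σ b v v = 0 → Good M 1 ∨ ∃ h ∈ M, ¬ IsTensor h.1 ∧
        ∀ X, h.1 X = X + ν • g.1.symm (vecMulVec (co2 σ a v (g.1 X)) v) := by
    intro g v hg hgT hv hvv
    obtain ⟨Cv, hCv⟩ := h₂.exists_uTv (stdHerm_sepRight b) hvv hν
    by_cases hT : IsTensor (g⁻¹ * rowHom σ a b Cv * g).1
    · obtain ⟨c', hc'⟩ := slice_of_tensor hc hab (by omega) hv hν0 hCv hT
      exact Or.inl (good_top (M.inv_mem hg) (not_isTensor_inv hgT) hv hvv hc' (by omega))
    · exact Or.inr ⟨_, M.mul_mem (M.mul_mem (M.inv_mem hg) (hM.row (h₂.idet_uTv hCv))) hg, hT,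
        fun X => root_elt_apply hCv X⟩
  rcases hroot hg₀ hg₀T hv₀0 hv₀ with hgood | ⟨g, hg, hgT, hgX⟩
  · exact hgood
  have hgood_of : ∀ {g : isomGroup (bForm σ a b)} {b₁ c : Fin b → F}, g ∈ M → ¬ IsTensor g.1 → b₁ ≠ 0 →
      stdHerm σ b b₁ b₁ = 0 → g.1 (vecMulVec u b₁) = vecMulVec u c → Good M 1 := by
    intro g b₁ c hg hgT hb1 hbb hgu
    refine ⟨g, hg, hgT, F ∙ u, b₁, c, hb1, hbb, by rw [finrank_span_singleton hu0], fun w hw => ?_⟩
    obtain ⟨t, rfl⟩ := Submodule.mem_span_singleton.1 hw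
    exact ⟨t • u, by rw [smul_vecMulVec, map_smul, hgu, smul_vecMulVec]⟩
  -- an anisotropic vector fixed by `g`
  obtain ⟨d, hd0, hd⟩ := TensorMax.exists_perp (co2 σ a v₀ ∘ₗ g₀.1.toLinearMap ∘ₗ sl1 b u)
    (by rw [finrank_fin_fun]; exact hab)
  have hgd : g.1 (vecMulVec u d) = vecMulVec u d := by
    rw [hgX, show co2 σ a v₀ (g₀.1 (vecMulVec u d)) = 0 from hd, zero_vecMulVec, map_zero, smul_zero, add_zero]
  by_cases hdd : stdHerm σ b d d = 0
  · exact hgood_of hg hgT hd0 hdd hgd
  have hPd := h₂.nondegOn_span_singleton hdd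
  have hPd1 := hPd.finrank_perp
  rw [finrank_span_singleton hd0, finrank_fin_fun] at hPd1
  obtain ⟨v, hvperp, hv0, hvv⟩ := h₂.exists_iso_mem (W := perp (stdHerm σ b) (Submodule.span F {d})) (by omega)
  have hdv : stdHerm σ b d v = 0 := mem_perp_span.1 hvperp d rfl
  rcases hroot hg hgT hv0 hvv with hgood | ⟨h, hh, hhT, hhX'⟩
  · exact hgood
  set J := sl1 b u with hJdef
  set J' := co1 σ b u with hJ'def
  set R := g.1.symm.toLinearMap ∘ₗ sl2 a v with hRdef
  set R' := co2 σ a v ∘ₗ g.1.toLinearMap with hR'def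
  have hP : RootPair J J' R R' := ⟨fun w => by simp [hJdef, hJ'def, huu], fun z => by simp [hRdef, hR'def, hvv]⟩
  have hhX : ∀ X, h.1 X = X + ν • R (R' X) := hhX'
  have hRadj : ∀ Y z, bForm σ a b Y (R z) = stdHerm σ a (R' Y) z := fun Y z => bForm_conj_tens hc g v Y z
  have hJadj : ∀ Y w, bForm σ a b Y (J w) = stdHerm σ b (J' Y) w := fun Y w => by
    rw [← (bForm_isHermitian hc).symm, hJdef, sl1_apply, bForm_tens', h₂.symm]
  have hadj : ∀ x z, stdHerm σ b x (J' (R z)) = stdHerm σ a (R' (J x)) z := fun x z => by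
    rw [← hRadj, hJdef, sl1_apply, bForm_tens']
  set L : Submodule F (Fin b → F) := LinearMap.ker (R' ∘ₗ J) with hLdef
  have hdL : d ∈ L := by
    show co2 σ a v (g.1 (vecMulVec u d)) = 0
    rw [hgd, co2_vecMulVec, h₂.isRefl _ _ hdv, zero_smul]
  have hfixL : ∀ w ∈ L, h.1 (J w) = J w := fun w hw => by
    rw [hhX, show R' (J w) = 0 from hw, map_zero, smul_zero, add_zero]
  by_cases hiso : ∃ w ∈ L, w ≠ 0 ∧ stdHerm σ b w w = 0
  · obtain ⟨w, hw, hw0, hww⟩ := hiso
    exact hgood_of hh hhT hw0 hww (hfixL w hw)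
  have hL1 : L = F ∙ d := by
    refine (Submodule.eq_of_le_of_finrank_le ((Submodule.span_singleton_le_iff_mem _ _).2 hdL) ?_).symm
    rw [finrank_span_singleton hd0]
    by_contra hlt
    exact hiso (h₂.exists_iso_mem (by omega))
  have hrk := (R' ∘ₗ J).finrank_range_add_finrank_ker
  rw [← hLdef, hL1, finrank_span_singleton hd0, finrank_fin_fun] at hrk
  have hr1 := Submodule.finrank_le (LinearMap.range (R' ∘ₗ J))
  rw [finrank_fin_fun] at hr1
  have hsurj : LinearMap.range (R' ∘ₗ J) = ⊤ := Submodule.eq_top_of_finrank_eq (by rw [finrank_fin_fun]; omega)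
  have hQinj : ∀ z, J' (R z) = 0 → z = 0 := fun z hz => stdHerm_sepRight (σ := σ) a _ fun n => by
    obtain ⟨w, rfl⟩ := LinearMap.range_eq_top.1 hsurj n
    show stdHerm σ a (R' (J w)) z = 0
    rw [← hadj, hz, map_zero]
  have hθ : ∀ w, R' (J (J' (R (R' (J w))))) = 0 → R' (J w) = 0 := fun w hw => by
    refine hQinj _ ?_
    obtain ⟨t, ht⟩ := Submodule.mem_span_singleton.1 (hL1 ▸ hw : J' (R (R' (J w))) ∈ F ∙ d)
    have e : stdHerm σ b d (J' (R (R' (J w)))) = 0 := by
      rw [hadj, show R' (J d) = 0 from hdL, map_zero, LinearMap.zero_apply]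
    rw [← ht, map_smul, smul_eq_mul, mul_eq_zero] at e
    rw [← ht, e.resolve_right hdd, zero_smul]
  obtain ⟨μ, hμ0, hμ⟩ := hc.exists_trace_zero
  obtain ⟨s, m, x, k, hs12, hs0, hm, hx, hk, hpow⟩ := exists_pow hP hμ0 hν0 hθ (by
    obtain ⟨w, hw⟩ : ∃ w, w ∉ L := by
      by_contra! hall
      have : L = ⊤ := top_unique fun w _ => hall w
      rw [hL1] at this
      have e := finrank_span_singleton (K := F) hd0
      rw [this, finrank_top, finrank_fin_fun] at e
      omega
    exact ⟨w, hw⟩)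
  have hs : σ s = s := by
    rcases hs12 with rfl | rfl
    · exact map_one σ
    · exact map_ofNat σ 2
  obtain ⟨Au, hAu⟩ := h₁.exists_uTv (stdHerm_sepRight a) huu (c := s * μ) (by
    rw [map_mul, hs]; linear_combination s * hμ)
  set τ := colHom σ a b Au with hτdef
  have hτX : ∀ X, τ.1 X = X + (s * μ) • J (J' X) := fun X => col_uTv_apply hAu X
  set y := (τ * h) ^ m with hydef
  have hyM : y ∈ M := M.pow_mem (M.mul_mem (hM.col (h₁.idet_uTv hAu)) hh) m
  have hyX : ∀ X, y.1 X = (prodRoot J J' R R' (s * μ) ν ^ m) X := fun X => pow_apply_eq (τ * h) (fun X => by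
    rw [mul_apply', hτX, hhX, prodRoot_apply]) m X
  have hyL : ∀ w ∈ L, y.1 (J w) = J w := fun w hw => by rw [hyX, pow_fix_J hP _ _ hw]
  by_cases hyT : IsTensor y.1
  swap
  · have hxd : x ∉ F ∙ d := fun hm' => hx (show x ∈ L from hL1.symm ▸ hm')
    have hli : LinearIndependent F ![d, x] := (LinearIndependent.pair_iff' hd0).2 fun t ht =>
      hxd (Submodule.mem_span_singleton.2 ⟨t, ht⟩)
    obtain ⟨b₁, hb₁, hb₁0, hb₁b⟩ := h₂.exists_iso_mem (W := Submodule.span F (Set.range ![d, x]))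
      (by rw [finrank_span_eq_card hli, Fintype.card_fin])
    rw [Matrix.range_cons, Matrix.range_cons, Matrix.range_empty, Set.union_empty, ← Set.insert_eq,
      Submodule.mem_span_pair] at hb₁
    obtain ⟨α, β, rfl⟩ := hb₁
    refine hgood_of hyM hyT hb₁0 hb₁b (c := α • d + β • (x + k)) ?_
    show y.1 (J (α • d + β • x)) = J (α • d + β • (x + k))
    simp only [map_add, map_smul, hyL d hdL, show y.1 (J x) = J (x + k) from (hyX _).trans hpow]
  -- the power is not a tensor map
  by_contra hno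
  obtain ⟨A, C, hAi, hCi, hyAC⟩ := tensor_pure hyT
  have hJw : ∀ w, J w = vecMulVec u w := fun w => rfl
  obtain ⟨α, hα⟩ := Submodule.mem_span_singleton.1 (left_mem_span (u := A u) (u' := u) (by
    rw [← hyAC, ← hJw, hyL d hdL, hJw]) (fun e => hd0 (hCi (by rw [e, map_zero]))))
  have hα0 : α ≠ 0 := fun e => hu0 (hAi (by rw [← hα, e, zero_smul, map_zero]))
  set C₁ : (Fin b → F) →ₗ[F] (Fin b → F) := α • C with hC₁
  set A₁ : (Fin a → F) →ₗ[F] (Fin a → F) := α⁻¹ • A with hA₁
  have hy₁ : ∀ z w, y.1 (vecMulVec z w) = vecMulVec (A₁ z) (C₁ w) := fun z w => by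
    rw [hyAC, hA₁, hC₁, LinearMap.smul_apply, LinearMap.smul_apply, smul_vecMulVec, vecMulVec_smul, smul_smul,
      inv_mul_cancel₀ hα0, one_smul]
  have hA₁u : A₁ u = u := by rw [hA₁, LinearMap.smul_apply, ← hα, inv_smul_smul₀ hα0]
  have hC₁d : C₁ d = d := sl1_injective hu0 (by
    show vecMulVec u (C₁ d) = vecMulVec u d
    have := hy₁ u d
    rw [hA₁u, ← hJw, hyL d hdL, hJw] at this
    exact this.symm)
  set Z := LinearMap.ker (stdHerm σ a u) with hZ
  have hfix : ∀ X, J' X = 0 → R' X = 0 → y.1 X = X := fun X h1 h2 => by rw [hyX, prodRoot_of_ker hP _ _ h1 h2]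
  have hA₁Z : ∀ z ∈ Z, A₁ z = z := by
    have heig : ∀ z ∈ Z, A₁ z ∈ F ∙ z := fun z hz => by
      obtain ⟨w, hw0, hw⟩ := TensorMax.exists_perp (R' ∘ₗ sl1 b z) (by rw [finrank_fin_fun]; exact hab)
      have e := hfix (vecMulVec z w) (by rw [hJ'def, co1_vecMulVec, show stdHerm σ a u z = 0 from hz, zero_smul]) hw
      rw [hy₁] at e
      exact left_mem_span e fun e' => hw0 (hCi (smul_right_injective _ hα0 (by
        show α • C w = α • C 0
        rw [map_zero, smul_zero]; exact e')))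
    let f : Z →ₗ[F] Z := (A₁ ∘ₗ Z.subtype).codRestrict Z fun z => by
      obtain ⟨t, ht⟩ := Submodule.mem_span_singleton.1 (heig z.1 z.2)
      rw [LinearMap.comp_apply, Submodule.subtype_apply, ← ht]
      exact Z.smul_mem _ z.2
    obtain ⟨c, hc'⟩ := f.exists_eq_smul_id_of_forall_notLinearIndependent (fun z hli => by
      obtain ⟨t, ht⟩ := Submodule.mem_span_singleton.1 (heig z.1 z.2)
      have hz : z ≠ 0 := by simpa using hli.ne_zero 0
      exact (LinearIndependent.pair_iff' hz).1 hli t (Subtype.ext ht))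
    have hcz : ∀ z ∈ Z, A₁ z = c • z := fun z hz => congrArg Subtype.val (LinearMap.congr_fun hc' ⟨z, hz⟩)
    have hc1 : c = 1 := smul_left_injective F hu0 (show c • u = (1 : F) • u by
      rw [one_smul, ← hcz u huu, hA₁u])
    exact fun z hz => by rw [hcz z hz, hc1, one_smul]
  obtain ⟨n, hnn, hun, hnu⟩ := h₁.exists_pair (stdHerm_sepRight a) hu0 huu
  have hun' : ∀ w w', stdHerm σ a u (A₁ n) * stdHerm σ b (C₁ w) (C₁ w') = stdHerm σ b w w' := fun w w' => by
    have e := y.2 (vecMulVec u w) (vecMulVec n w')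
    rwa [hy₁, hy₁, hA₁u, bForm_tens_tens, bForm_tens_tens, hun, one_mul] at e
  have hC₁iso : ∀ w w', stdHerm σ b (C₁ w) (C₁ w') = stdHerm σ b w w' := fun w w' => by
    have e := hun' d d
    rw [hC₁d] at e
    have e' := hun' w w'
    rwa [show stdHerm σ a u (A₁ n) = 1 from mul_right_cancel₀ hdd (e.trans (one_mul _).symm), one_mul] at e'
  set N := C₁ - LinearMap.id with hN
  have hNd : ∀ w, stdHerm σ b d (N w) = 0 := fun w => by
    simp only [hN, LinearMap.sub_apply, LinearMap.id_apply, map_sub]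
    conv_lhs => arg 1; rw [← hC₁d, hC₁iso]
    rw [sub_self]
  have hZdim : a ≤ finrank F Z + 1 := by
    have h1 := (stdHerm σ a u).finrank_range_add_finrank_ker
    have h2 := Submodule.finrank_le (LinearMap.range (stdHerm σ a u))
    rw [finrank_fin_fun] at h1
    rw [finrank_self] at h2
    show a ≤ finrank F (LinearMap.ker (stdHerm σ a u)) + 1
    omega
  set q := A₁ n - n with hq
  have hqZ : ∀ z ∈ Z, stdHerm σ a z q = 0 := fun z hz => by
    obtain ⟨w', hw'⟩ := h₂.exists_dual (stdHerm_sepRight b) hd0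
    have e := y.2 (vecMulVec z d) (vecMulVec n w')
    rw [hy₁, hy₁, hA₁Z z hz, bForm_tens_tens, bForm_tens_tens, hC₁iso, hw', mul_one, mul_one] at e
    rw [hq, map_sub, e, sub_self]
  have hqu : q = stdHerm σ a n q • u := sub_eq_zero.1 (stdHerm_sepRight (σ := σ) a _ fun z => by
    have hz : z - stdHerm σ a u z • n ∈ Z := by
      show stdHerm σ a u (z - stdHerm σ a u z • n) = 0
      rw [map_sub, map_smul, hun, smul_eq_mul, mul_one, sub_self]
    have hzu : stdHerm σ a (z - stdHerm σ a u z • n) u = 0 := h₁.isRefl _ _ hz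
    rw [← sub_add_cancel z (stdHerm σ a u z • n)]
    simp only [map_add, map_smulₛₗ, LinearMap.add_apply, LinearMap.smul_apply, map_sub, smul_eq_mul] at hzu ⊢
    rw [hnu]
    have e1 := hqZ _ hz
    simp only [map_sub, map_smulₛₗ, LinearMap.sub_apply, LinearMap.smul_apply, smul_eq_mul] at e1
    simp only [map_smulₛₗ, RingHom.id_apply, LinearMap.sub_apply, LinearMap.smul_apply, smul_eq_mul] at hzu ⊢
    linear_combination e1 - stdHerm σ a n q * hzu)
  have hA₁z : ∀ z, A₁ z = z + stdHerm σ a u z • q := fun z => by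
    have hz : z - stdHerm σ a u z • n ∈ Z := by
      show stdHerm σ a u (z - stdHerm σ a u z • n) = 0
      rw [map_sub, map_smul, hun, smul_eq_mul, mul_one, sub_self]
    have e := hA₁Z _ hz
    rw [map_sub, map_smul] at e
    rw [hq]
    linear_combination (norm := module) e
  have hJ'y : ∀ X, J' (y.1 X) = C₁ (J' X) := fun X => by
    rw [matrix_eq_sum X]
    simp only [map_sum]
    refine Finset.sum_congr rfl fun i _ => ?_
    rw [hy₁, hJ'def, co1_vecMulVec, co1_vecMulVec, map_smul, hA₁z, hqu]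
    simp [huu]
  by_cases hq0 : q = 0
  · -- then the partner of `d` is moved
    have hinj : ∀ z w, R z + J w = 0 → z = 0 ∧ w = 0 := fun z w hzw => by
      have hw : w ∈ L := by
        have := congrArg R' hzw
        rw [map_add, hP.hR, zero_add, map_zero] at this
        exact this
      obtain ⟨t, rfl⟩ := Submodule.mem_span_singleton.1 (hL1 ▸ hw)
      have h1 : vecMulVec z v = vecMulVec (-(t • u)) d := by
        have := congrArg g.1 hzw
        rw [map_add, map_zero] at this
        simp only [hRdef, hJdef, LinearMap.comp_apply, LinearEquiv.coe_coe, LinearEquiv.apply_symm_apply,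
          sl2_apply, sl1_apply, vecMulVec_smul, map_smul, hgd] at this
        rw [neg_vecMulVec, smul_vecMulVec, eq_neg_iff_add_eq_zero]; exact this
      have hz : z = 0 := by
        by_contra hz
        obtain ⟨r, hr⟩ := Submodule.mem_span_singleton.1 (right_mem_span h1 hz)
        rw [← hr, map_smul, smul_eq_mul, mul_eq_zero] at hdv
        exact hv0 (by rw [← hr, hdv.resolve_right hdd, zero_smul])
      refine ⟨hz, ?_⟩
      rw [hz, map_zero, zero_add] at hzw
      exact sl1_injective hu0 (by rw [map_zero]; exact hzw)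
    obtain ⟨Y, hY1, hY2⟩ := exists_coords hc hRadj hJadj hinj 0 d
    have e : y.1 Y = Y + ((m : F) * (s * μ)) • J d := by
      rw [hyX, pow_move_J hP _ _ hY1 (by rw [hY2]; exact hdL), hY2]
    obtain ⟨i, hi⟩ := Function.ne_iff.1 hu0
    have hmu : (m : F) * (s * μ) * u i ≠ 0 := mul_ne_zero (mul_ne_zero hm (mul_ne_zero hs0 hμ0)) hi
    have erow : N (Y i) = ((m : F) * (s * μ) * u i) • d := by
      have e' := congrFun e i
      have hyrow : y.1 Y i = C₁ (Y i) := by
        have e2 : y.1 Y = rowLin C₁ Y := by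
          rw [matrix_eq_sum Y]
          simp only [map_sum, hy₁, rowLin_vecMulVec, hA₁z, hq0, smul_zero, add_zero]
        rw [e2]; rfl
      rw [hyrow] at e'
      simp only [hN, LinearMap.sub_apply, LinearMap.id_apply, e']
      show Y i + ((m : F) * (s * μ)) • (vecMulVec u d i) - Y i = _
      rw [vecMulVec_row, smul_smul, add_sub_cancel_left]
    have h0 := hNd (Y i)
    rw [erow, map_smul, smul_eq_mul] at h0
    exact hdd ((mul_eq_zero.1 h0).resolve_left hmu)
  -- otherwise `θ` maps the kernel of `N` into its range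
  set β := stdHerm σ a n q with hβ
  have hβ0 : β ≠ 0 := fun e => hq0 (by rw [hqu, e, zero_smul])
  have hyτ : Commute y τ := Subtype.ext (LinearEquiv.ext fun X => by
    rw [mul_apply', mul_apply', hτX, hτX, map_add, map_smul, hJ'y, hJw, hJw, hy₁, hA₁u])
  have hyh : Commute y h := by
    have h1 : Commute y (τ * h) := Commute.pow_self _ m
    have h2 := hyτ.inv_right.mul_right h1
    rwa [inv_mul_cancel_left] at h2
  have hθN : ∀ w ∈ LinearMap.ker N, J' (R (R' (J w))) ∈ LinearMap.range N := fun w hw => by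
    have hCw : C₁ w = w := sub_eq_zero.1 hw
    set X := vecMulVec n w with hX
    have hyX' : y.1 X = X + β • J w := by
      rw [hX, hy₁, hCw, hA₁z, hun, one_smul, hqu, add_vecMulVec, smul_vecMulVec, hJw]
    have e : h.1 (y.1 X) = y.1 (h.1 X) := by
      rw [← mul_apply', ← mul_apply', hyh.eq]
    rw [hyX', map_add, map_smul, hhX (J w)] at e
    refine ⟨(β * ν)⁻¹ • J' (h.1 X), ?_⟩
    have e' := congrArg J' e
    simp only [map_add, map_smul, hP.hJ, zero_add, smul_smul, hJ'y] at e'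
    rw [map_smul, inv_smul_eq_iff₀ (mul_ne_zero hβ0 hν0)]
    simp only [hN, LinearMap.sub_apply, LinearMap.id_apply, ← e', add_sub_cancel_left]
  set θ := J' ∘ₗ R ∘ₗ R' ∘ₗ J with hθdef
  rcases (show b = 3 ∨ 4 ≤ b by omega) with hb3 | hb4
  · -- the two root elements scale an isotropic eigenvector
    have hC₁x : C₁ x = x + k := sl1_injective hu0 (by
      show vecMulVec u (C₁ x) = J (x + k)
      conv_lhs => rw [← hA₁u]
      rw [← hy₁, ← hJw]
      exact (hyX _).trans hpow)
    have hNx : N x = 0 := by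
      obtain ⟨l, rfl⟩ := Submodule.mem_span_singleton.1 (hL1 ▸ hk : k ∈ F ∙ d)
      have e := hC₁iso d x
      rw [hC₁d, hC₁x, map_add, map_smul, smul_eq_mul, add_eq_left, mul_eq_zero, or_iff_left hdd] at e
      rw [hN, LinearMap.sub_apply, LinearMap.id_apply, hC₁x, e, zero_smul, add_zero, sub_self]
    refine hno (base_two hc hM hb3 (hsmall hb3) hu0 huu hun hP hadj hν0 hν hh hhT hhX hβ0 hy₁
      (fun z => by rw [hA₁z z, hqu]) hJ'y hyh hC₁iso hdd hC₁d (sub_eq_zero.1 hNx)
      (fun w => Iff.of_eq (congrArg (w ∈ ·) hL1)) (fun hm => hx (hL1.symm ▸ hm : x ∈ L))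
      hθ (fun w hw => hθN w (sub_eq_zero.2 hw)))
  have hNrank : finrank F (LinearMap.range N) ≤ 1 := by
    by_contra hlt
    obtain ⟨_, ⟨w₁, rfl⟩, hw₁⟩ : ∃ p ∈ LinearMap.range N, p ≠ 0 :=
      Submodule.exists_mem_ne_zero_of_ne_bot fun h => by rw [h, finrank_bot] at hlt; omega
    obtain ⟨_, ⟨w₂, rfl⟩, hw₂⟩ : ∃ p ∈ LinearMap.range N, p ∉ F ∙ N w₁ := by
      by_contra! hall
      have h1 := Submodule.finrank_mono (show LinearMap.range N ≤ F ∙ N w₁ from hall)
      rw [finrank_span_singleton hw₁] at h1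
      exact hlt h1
    let φ : Z × Z →ₗ[F] (Fin a → F) :=
      (R' ∘ₗ sl2 a w₁ ∘ₗ Z.subtype).coprod (R' ∘ₗ sl2 a w₂ ∘ₗ Z.subtype)
    have hker : LinearMap.ker φ ≠ ⊥ := LinearMap.ker_ne_bot_of_finrank_lt (by
      rw [finrank_prod, finrank_fin_fun]; omega)
    obtain ⟨⟨z₁, z₂⟩, hz, hz0⟩ := Submodule.exists_mem_ne_zero_of_ne_bot hker
    have e := hfix (vecMulVec (z₁ : Fin a → F) w₁ + vecMulVec (z₂ : Fin a → F) w₂) (by
      rw [map_add, hJ'def, co1_vecMulVec, co1_vecMulVec, show stdHerm σ a u (z₁ : Fin a → F) = 0 from z₁.2,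
        show stdHerm σ a u (z₂ : Fin a → F) = 0 from z₂.2, zero_smul, zero_smul, add_zero]) (by
      rw [map_add]; exact hz)
    rw [map_add, hy₁, hy₁, hA₁Z _ z₁.2, hA₁Z _ z₂.2] at e
    apply hz0
    have hli : LinearIndependent F ![N w₁, N w₂] := (LinearIndependent.pair_iff' hw₁).2 fun t ht =>
      hw₂ (Submodule.mem_span_singleton.2 ⟨t, ht⟩)
    have hrow : ∀ i, (z₁ : Fin a → F) i = 0 ∧ (z₂ : Fin a → F) i = 0 := fun i => by
      refine LinearIndependent.pair_iff.1 hli _ _ ?_
      have h := congrFun e i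
      simp only [hN, LinearMap.sub_apply, LinearMap.id_apply, smul_sub]
      change (z₁ : Fin a → F) i • C₁ w₁ + (z₂ : Fin a → F) i • C₁ w₂ =
        (z₁ : Fin a → F) i • w₁ + (z₂ : Fin a → F) i • w₂ at h
      linear_combination (norm := module) h
    exact Prod.ext (Subtype.ext (funext fun i => (hrow i).1)) (Subtype.ext (funext fun i => (hrow i).2))
  have h1 := (θ.domRestrict (LinearMap.ker N)).finrank_range_add_finrank_ker
  have h2 : finrank F (LinearMap.range (θ.domRestrict (LinearMap.ker N))) ≤ 1 := by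
    refine le_trans (Submodule.finrank_mono ?_) hNrank
    rintro _ ⟨w, rfl⟩
    exact hθN w.1 w.2
  have h3 : finrank F (LinearMap.ker (θ.domRestrict (LinearMap.ker N))) ≤ 1 := by
    rw [← finrank_span_singleton (K := F) hd0, ← hL1]
    refine LinearMap.finrank_le_finrank_of_injective (f := ((LinearMap.ker N).subtype ∘ₗ
      (LinearMap.ker (θ.domRestrict (LinearMap.ker N))).subtype).codRestrict L fun w => ?_) ?_
    · refine hθ _ ?_
      rw [show J' (R (R' (J (((LinearMap.ker N).subtype ∘ₗ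
        (LinearMap.ker (θ.domRestrict (LinearMap.ker N))).subtype) w)))) = 0 from w.2, map_zero, map_zero]
    · intro w w' e
      exact Subtype.ext (Subtype.ext (congrArg (fun p : L => (p : Fin b → F)) e))
  have h4 := N.finrank_range_add_finrank_ker
  rw [finrank_fin_fun] at h4
  omega

end CfsgLib.Classical.TensorMaxU
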