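import Cfsg.Agent.Lib.Classical.TensorMax.Matrix
import Cfsg.Agent.Lib.Classical.HermMax

/-!
# Overgroups of a unitary tensor product stabiliser: basic objects

The space is that of `a × b` matrices with the form `Σ σ(X i j) Y i j`, the product of the two standard forms.
-/

set_option autoImplicit false
set_option linter.unusedSectionVars false

namespace CfsgLib.Classical.TensorMaxU

open Matrix Module
open CfsgLib.Classical.TensorMax (IsTensor)

variable {F : Type*} [Field F] {σ : F →+* F} {a b : ℕ}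

/-- The product of the two standard forms. -/
def bForm (σ : F →+* F) (a b : ℕ) : Matrix (Fin a) (Fin b) F →ₛₗ[σ] Matrix (Fin a) (Fin b) F →ₗ[F] F :=
  LinearMap.mk₂'ₛₗ σ (RingHom.id F) (fun X Y => ∑ i, stdHerm σ b (X i) (Y i))
    (fun X X' Y => by
      rw [← Finset.sum_add_distrib]
      exact Finset.sum_congr rfl fun i _ => LinearMap.congr_fun (map_add (stdHerm σ b) (X i) (X' i)) (Y i))
    (fun c X Y => by
      rw [smul_eq_mul, Finset.mul_sum]
      exact Finset.sum_congr rfl fun i _ => LinearMap.congr_fun ((stdHerm σ b).map_smulₛₗ c (X i)) (Y i))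
    (fun X Y Y' => by
      rw [← Finset.sum_add_distrib]
      exact Finset.sum_congr rfl fun i _ => map_add (stdHerm σ b (X i)) (Y i) (Y' i))
    (fun c X Y => by
      rw [RingHom.id_apply, smul_eq_mul, Finset.mul_sum]
      exact Finset.sum_congr rfl fun i _ => map_smul (stdHerm σ b (X i)) c (Y i))

theorem bForm_apply (X Y : Matrix (Fin a) (Fin b) F) : bForm σ a b X Y = ∑ i, stdHerm σ b (X i) (Y i) := rfl

theorem bForm_sepRight : (bForm σ a b).SeparatingRight := fun Y hY => by
  classical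
  refine funext fun i => stdHerm_sepRight (σ := σ) b (Y i) fun x => ?_
  have h := hY (Matrix.of (Pi.single i x))
  have hrow : ∀ j, Matrix.of (Pi.single i x) j = (Pi.single i x : Fin a → Fin b → F) j := fun j => rfl
  rw [bForm_apply, Finset.sum_eq_single i (fun j _ hj => by rw [hrow, Pi.single_eq_of_ne hj]; simp)
    (by simp), hrow, Pi.single_eq_same] at h
  exact h

theorem bForm_isHermitian (hc : IsConjugation σ) : IsHermitian (bForm σ a b) :=
  ⟨hc, fun X Y => by simp only [bForm_apply, map_sum, (stdHerm_isHermitian hc b).symm]⟩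

theorem stdHerm_self_eq (x : Fin a → F) : stdHerm σ a x x = ∑ i, σ (x i) * x i := stdHerm_apply _ _ _

/-- `w ↦ u ⊗ w`. -/
def sl1 (b : ℕ) (u : Fin a → F) : (Fin b → F) →ₗ[F] Matrix (Fin a) (Fin b) F where
  toFun w := vecMulVec u w
  map_add' := vecMulVec_add u
  map_smul' c w := by rw [RingHom.id_apply, vecMulVec_smul]

/-- `u ↦ u ⊗ w`. -/
def sl2 (a : ℕ) (w : Fin b → F) : (Fin a → F) →ₗ[F] Matrix (Fin a) (Fin b) F where
  toFun u := vecMulVec u w
  map_add' u u' := add_vecMulVec u u' w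
  map_smul' c u := by rw [RingHom.id_apply, smul_vecMulVec]

/-- The adjoint of `sl1`. -/
def co1 (σ : F →+* F) (b : ℕ) (u : Fin a → F) : Matrix (Fin a) (Fin b) F →ₗ[F] (Fin b → F) where
  toFun X j := stdHerm σ a u (Xᵀ j)
  map_add' X Y := funext fun j => map_add (stdHerm σ a u) (Xᵀ j) (Yᵀ j)
  map_smul' c X := funext fun j => map_smul (stdHerm σ a u) c (Xᵀ j)

/-- The adjoint of `sl2`. -/
def co2 (σ : F →+* F) (a : ℕ) (w : Fin b → F) : Matrix (Fin a) (Fin b) F →ₗ[F] (Fin a → F) where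
  toFun X i := stdHerm σ b w (X i)
  map_add' X Y := funext fun i => map_add (stdHerm σ b w) (X i) (Y i)
  map_smul' c X := funext fun i => map_smul (stdHerm σ b w) c (X i)

@[simp] theorem sl1_apply (u : Fin a → F) (w : Fin b → F) : sl1 b u w = vecMulVec u w := rfl
@[simp] theorem sl2_apply (u : Fin a → F) (w : Fin b → F) : sl2 a w u = vecMulVec u w := rfl
theorem co1_apply (u : Fin a → F) (X : Matrix (Fin a) (Fin b) F) (j : Fin b) :
    co1 σ b u X j = stdHerm σ a u (Xᵀ j) := rfl
theorem co2_apply (w : Fin b → F) (X : Matrix (Fin a) (Fin b) F) (i : Fin a) :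
    co2 σ a w X i = stdHerm σ b w (X i) := rfl

theorem vecMulVec_row (u : Fin a → F) (w : Fin b → F) (i : Fin a) : vecMulVec u w i = u i • w := rfl

@[simp] theorem co1_vecMulVec (u u' : Fin a → F) (w : Fin b → F) :
    co1 σ b u (vecMulVec u' w) = stdHerm σ a u u' • w := funext fun j => by
  rw [co1_apply, show (vecMulVec u' w)ᵀ j = w j • u' from funext fun i => by
    simp [vecMulVec_apply, mul_comm], map_smul]
  simp [mul_comm]

@[simp] theorem co2_vecMulVec (w w' : Fin b → F) (u : Fin a → F) :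
    co2 σ a w (vecMulVec u w') = stdHerm σ b w w' • u := funext fun i => by
  rw [co2_apply, vecMulVec_row, map_smul]
  simp [mul_comm]

theorem bForm_tens (u : Fin a → F) (w : Fin b → F) (X : Matrix (Fin a) (Fin b) F) :
    bForm σ a b (vecMulVec u w) X = stdHerm σ a u (co2 σ a w X) := by
  rw [bForm_apply, stdHerm_apply]
  exact Finset.sum_congr rfl fun i _ => by
    rw [vecMulVec_row, map_smulₛₗ, LinearMap.smul_apply, co2_apply, smul_eq_mul]

theorem bForm_tens' (u : Fin a → F) (w : Fin b → F) (X : Matrix (Fin a) (Fin b) F) :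
    bForm σ a b (vecMulVec u w) X = stdHerm σ b w (co1 σ b u X) := by
  rw [bForm_tens, stdHerm_apply, stdHerm_apply]
  simp only [co1_apply, co2_apply, stdHerm_apply, Finset.mul_sum, Matrix.transpose_apply]
  rw [Finset.sum_comm]
  exact Finset.sum_congr rfl fun j _ => Finset.sum_congr rfl fun i _ => by ring

theorem bForm_tens_tens (u u' : Fin a → F) (w w' : Fin b → F) :
    bForm σ a b (vecMulVec u w) (vecMulVec u' w') = stdHerm σ a u u' * stdHerm σ b w w' := by
  rw [bForm_tens, co2_vecMulVec, map_smul, smul_eq_mul, mul_comm]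

/-- Proportional pure tensors. -/
theorem right_mem_span {u u' : Fin a → F} {w w' : Fin b → F} (h : vecMulVec u w = vecMulVec u' w') (hu : u ≠ 0) :
    w ∈ F ∙ w' := by
  obtain ⟨i, hi⟩ := Function.ne_iff.1 hu
  refine Submodule.mem_span_singleton.2 ⟨(u i)⁻¹ * u' i, ?_⟩
  have h' := congrFun h i
  rw [vecMulVec_row, vecMulVec_row] at h'
  rw [mul_smul, ← h', inv_smul_smul₀ hi]

theorem left_mem_span {u u' : Fin a → F} {w w' : Fin b → F} (h : vecMulVec u w = vecMulVec u' w') (hw : w ≠ 0) :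
    u ∈ F ∙ u' := by
  obtain ⟨j, hj⟩ := Function.ne_iff.1 hw
  refine Submodule.mem_span_singleton.2 ⟨(w j)⁻¹ * w' j, funext fun i => ?_⟩
  have h' := congrFun (congrFun h i) j
  simp only [vecMulVec_apply] at h'
  simp only [Pi.smul_apply, smul_eq_mul]
  rw [mul_assoc, mul_comm (w' j), ← h', mul_comm (u i), inv_mul_cancel_left₀ hj]

theorem sl1_injective {u : Fin a → F} (hu : u ≠ 0) : Function.Injective (sl1 b u) :=
  (injective_iff_map_eq_zero _).2 fun _ hw => (TensorMax.vecMulVec_eq_zero_iff'.1 hw).resolve_left hu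

theorem sl2_injective {w : Fin b → F} (hw : w ≠ 0) : Function.Injective (sl2 a w) :=
  (injective_iff_map_eq_zero _).2 fun _ hu => (TensorMax.vecMulVec_eq_zero_iff'.1 hu).resolve_right hw

theorem matrix_eq_sum (X : Matrix (Fin a) (Fin b) F) : X = ∑ i, vecMulVec (Pi.single i 1) (X i) :=
  Matrix.ext fun i j => by simp [Matrix.sum_apply, vecMulVec_apply, Pi.single_apply]

/-! ### Row and column maps -/

/-- Apply a map to every row. -/
def rowMap (C : (Fin b → F) ≃ₗ[F] (Fin b → F)) : Matrix (Fin a) (Fin b) F ≃ₗ[F] Matrix (Fin a) (Fin b) F where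
  toFun X := Matrix.of fun i => C (X i)
  invFun X := Matrix.of fun i => C.symm (X i)
  map_add' X Y := Matrix.ext fun i j => congrFun (map_add C (X i) (Y i)) j
  map_smul' c X := Matrix.ext fun i j => congrFun (map_smul C c (X i)) j
  left_inv X := Matrix.ext fun i j => congrFun (C.symm_apply_apply (X i)) j
  right_inv X := Matrix.ext fun i j => congrFun (C.apply_symm_apply (X i)) j

theorem rowMap_row (C : (Fin b → F) ≃ₗ[F] (Fin b → F)) (X : Matrix (Fin a) (Fin b) F) (i : Fin a) :
    rowMap C X i = C (X i) := rfl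

/-- Apply a map to every column. -/
def colMap (A : (Fin a → F) ≃ₗ[F] (Fin a → F)) : Matrix (Fin a) (Fin b) F ≃ₗ[F] Matrix (Fin a) (Fin b) F where
  toFun X := (Matrix.of fun j => A (Xᵀ j))ᵀ
  invFun X := (Matrix.of fun j => A.symm (Xᵀ j))ᵀ
  map_add' X Y := Matrix.ext fun i j => congrFun (map_add A (Xᵀ j) (Yᵀ j)) i
  map_smul' c X := Matrix.ext fun i j => congrFun (map_smul A c (Xᵀ j)) i
  left_inv X := Matrix.ext fun i j => congrFun (A.symm_apply_apply (Xᵀ j)) i
  right_inv X := Matrix.ext fun i j => congrFun (A.apply_symm_apply (Xᵀ j)) i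

theorem colMap_col (A : (Fin a → F) ≃ₗ[F] (Fin a → F)) (X : Matrix (Fin a) (Fin b) F) (j : Fin b) :
    (colMap A X)ᵀ j = A (Xᵀ j) := rfl

@[simp] theorem rowMap_vecMulVec (C : (Fin b → F) ≃ₗ[F] (Fin b → F)) (u : Fin a → F) (w : Fin b → F) :
    rowMap C (vecMulVec u w) = vecMulVec u (C w) :=
  funext fun i => by rw [rowMap_row, vecMulVec_row, vecMulVec_row, map_smul]

@[simp] theorem colMap_vecMulVec (A : (Fin a → F) ≃ₗ[F] (Fin a → F)) (u : Fin a → F) (w : Fin b → F) :
    colMap A (vecMulVec u w) = vecMulVec (A u) w := by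
  refine Matrix.ext fun i j => ?_
  have e : (vecMulVec u w)ᵀ j = w j • u := funext fun k => by simp [vecMulVec_apply, mul_comm]
  show (colMap A (vecMulVec u w))ᵀ j i = _
  rw [colMap_col, e, map_smul]
  simp [vecMulVec_apply, mul_comm]

theorem rowMap_eq_mul (C : (Fin b → F) ≃ₗ[F] (Fin b → F)) (X : Matrix (Fin a) (Fin b) F) :
    rowMap C X = X * (LinearMap.toMatrix' (C : (Fin b → F) →ₗ[F] (Fin b → F)))ᵀ := by
  refine Matrix.ext fun i j => ?_
  rw [rowMap_row, Matrix.mul_apply]
  conv_lhs => rw [show C (X i) = (C : (Fin b → F) →ₗ[F] (Fin b → F)) (X i) from rfl,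
    ← LinearMap.toMatrix'_mulVec]
  simp [Matrix.mulVec, dotProduct, mul_comm]

theorem colMap_eq_mul (A : (Fin a → F) ≃ₗ[F] (Fin a → F)) (X : Matrix (Fin a) (Fin b) F) :
    colMap A X = LinearMap.toMatrix' (A : (Fin a → F) →ₗ[F] (Fin a → F)) * X := by
  refine Matrix.ext fun i j => ?_
  show (colMap A X)ᵀ j i = _
  rw [colMap_col, show A (Xᵀ j) = (A : (Fin a → F) →ₗ[F] (Fin a → F)) (Xᵀ j) from rfl,
    ← LinearMap.toMatrix'_mulVec]
  simp [Matrix.mulVec, dotProduct, Matrix.mul_apply]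

theorem det_toMatrix'_ne {n : ℕ} (C : (Fin n → F) ≃ₗ[F] (Fin n → F)) :
    (LinearMap.toMatrix' (C : (Fin n → F) →ₗ[F] (Fin n → F))).det ≠ 0 := by
  rw [LinearMap.det_toMatrix']
  exact C.isUnit_det'.ne_zero

theorem isTensor_rowMap (C : (Fin b → F) ≃ₗ[F] (Fin b → F)) : IsTensor (rowMap (a := a) C) :=
  ⟨1, _, by simp, by rw [det_transpose]; exact det_toMatrix'_ne C, fun X => by
    rw [Matrix.one_mul]; exact rowMap_eq_mul C X⟩

theorem isTensor_colMap (A : (Fin a → F) ≃ₗ[F] (Fin a → F)) : IsTensor (colMap (b := b) A) :=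
  ⟨_, 1, det_toMatrix'_ne A, by simp, fun X => by rw [Matrix.mul_one]; exact colMap_eq_mul A X⟩

theorem det_tensor {g : Matrix (Fin a) (Fin b) F ≃ₗ[F] Matrix (Fin a) (Fin b) F}
    (A : GL (Fin a) F) (C : GL (Fin b) F)
    (hg : ∀ X, g X = (A : Matrix (Fin a) (Fin a) F) * X * (C : Matrix (Fin b) (Fin b) F)) :
    LinearMap.det (g : Matrix (Fin a) (Fin b) F →ₗ[F] Matrix (Fin a) (Fin b) F) =
      (A : Matrix (Fin a) (Fin a) F).det ^ b * (C : Matrix (Fin b) (Fin b) F).det ^ a := by
  rw [← (TensorMax.toGLHom_tensor (finProdFinEquiv (m := a) (n := b)).symm 1 A C hg).2]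
  show _ = Matrix.det (LinearMap.toMatrix' _)
  rw [LinearMap.det_toMatrix']
  exact (LinearMap.det_conj (g : Matrix (Fin a) (Fin b) F →ₗ[F] Matrix (Fin a) (Fin b) F)
    (TensorMax.coords (finProdFinEquiv (m := a) (n := b)).symm 1)).symm

theorem bForm_rowMap {C : (Fin b → F) ≃ₗ[F] (Fin b → F)} (hC : C ∈ isomGroup (stdHerm σ b))
    (X Y : Matrix (Fin a) (Fin b) F) : bForm σ a b (rowMap C X) (rowMap C Y) = bForm σ a b X Y := by
  simp only [bForm_apply, rowMap_row, mem_isomGroup.1 hC]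

theorem bForm_col (X Y : Matrix (Fin a) (Fin b) F) : bForm σ a b X Y = ∑ j, stdHerm σ a (Xᵀ j) (Yᵀ j) := by
  simp only [bForm_apply, stdHerm_apply, Matrix.transpose_apply]
  exact Finset.sum_comm

theorem bForm_colMap {A : (Fin a → F) ≃ₗ[F] (Fin a → F)} (hA : A ∈ isomGroup (stdHerm σ a))
    (X Y : Matrix (Fin a) (Fin b) F) : bForm σ a b (colMap A X) (colMap A Y) = bForm σ a b X Y := by
  simp only [bForm_col, colMap_col, mem_isomGroup.1 hA]

/-- Row maps of isometries. -/
def rowHom (σ : F →+* F) (a b : ℕ) : isomGroup (stdHerm σ b) →* isomGroup (bForm σ a b) where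
  toFun C := ⟨rowMap C.1, bForm_rowMap C.2⟩
  map_one' := rfl
  map_mul' C C' := rfl

/-- Column maps of isometries. -/
def colHom (σ : F →+* F) (a b : ℕ) : isomGroup (stdHerm σ a) →* isomGroup (bForm σ a b) where
  toFun A := ⟨colMap A.1, bForm_colMap A.2⟩
  map_one' := rfl
  map_mul' A A' := rfl

@[simp] theorem rowHom_apply (C : isomGroup (stdHerm σ b)) : (rowHom σ a b C).1 = rowMap C.1 := rfl
@[simp] theorem colHom_apply (A : isomGroup (stdHerm σ a)) : (colHom σ a b A).1 = colMap A.1 := rfl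

theorem idet_rowHom (C : isomGroup (stdHerm σ b)) : idet (bForm σ a b) (rowHom σ a b C) = idet (stdHerm σ b) C ^ a := by
  show LinearMap.det (rowMap (a := a) C.1).toLinearMap = _
  rw [det_tensor 1 (GeneralLinearGroup.mkOfDetNeZero _ (by rw [det_transpose]; exact det_toMatrix'_ne C.1))
    (fun X => by rw [Units.val_one, Matrix.one_mul]; exact rowMap_eq_mul C.1 X)]
  rw [Units.val_one, det_one, one_pow, one_mul]
  exact congrArg (· ^ a) ((det_transpose _).trans (LinearMap.det_toMatrix' _))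

theorem idet_colHom (A : isomGroup (stdHerm σ a)) : idet (bForm σ a b) (colHom σ a b A) = idet (stdHerm σ a) A ^ b := by
  show LinearMap.det (colMap (b := b) A.1).toLinearMap = _
  rw [det_tensor (GeneralLinearGroup.mkOfDetNeZero _ (det_toMatrix'_ne A.1)) 1
    (fun X => by rw [Units.val_one, Matrix.mul_one]; exact colMap_eq_mul A.1 X)]
  rw [Units.val_one, det_one, one_pow, mul_one]
  exact congrArg (· ^ b) (LinearMap.det_toMatrix' _)

/-- `M` contains the tensor maps of determinant one. -/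
def ContainsTensor (M : Subgroup (isomGroup (bForm σ a b))) : Prop :=
  ∀ g, idet (bForm σ a b) g = 1 → IsTensor g.1 → g ∈ M

variable {M : Subgroup (isomGroup (bForm σ a b))}

theorem ContainsTensor.row (hM : ContainsTensor M) {C : isomGroup (stdHerm σ b)} (hC : idet (stdHerm σ b) C = 1) :
    rowHom σ a b C ∈ M := hM _ (by rw [idet_rowHom, hC, one_pow]) (isTensor_rowMap C.1)

theorem ContainsTensor.col (hM : ContainsTensor M) {A : isomGroup (stdHerm σ a)} (hA : idet (stdHerm σ a) A = 1) :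
    colHom σ a b A ∈ M := hM _ (by rw [idet_colHom, hA, one_pow]) (isTensor_colMap A.1)

theorem ContainsTensor.map_conj (hM : ContainsTensor M) {t : isomGroup (bForm σ a b)} (ht : IsTensor t.1) :
    ContainsTensor (M.map (MulAut.conj t).toMonoidHom) := by
  intro g hg hgT
  refine ⟨t⁻¹ * g * t, hM _ ?_ ?_, by simp [MulAut.conj_apply, mul_assoc]⟩
  · rw [map_mul, map_mul, map_inv, hg, mul_one, inv_mul_cancel₀]
    exact (LinearEquiv.isUnit_det' t.1).ne_zero
  · exact (ht.inv.mul hgT).mul ht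

/-! ### Powers -/

theorem pow_apply_eq {V : Type*} [AddCommGroup V] [Module F V] {B : V →ₛₗ[σ] V →ₗ[F] F} (g : isomGroup B)
    {S : Module.End F V} (hS : ∀ x, g.1 x = S x) : ∀ (m : ℕ) (x : V), (g ^ m).1 x = (S ^ m) x := by
  intro m
  induction m with
  | zero => exact fun x => rfl
  | succ m ih =>
    intro x
    rw [pow_succ, pow_succ]
    show (g ^ m).1 (g.1 x) = (S ^ m) (S x)
    rw [ih, hS]

theorem mul_apply' {V : Type*} [AddCommGroup V] [Module F V] {B : V →ₛₗ[σ] V →ₗ[F] F} (g h : isomGroup B) (x : V) :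
    (g * h).1 x = g.1 (h.1 x) := rfl

theorem inv_apply' {V : Type*} [AddCommGroup V] [Module F V] {B : V →ₛₗ[σ] V →ₗ[F] F} (g : isomGroup B) (x : V) :
    (g⁻¹).1 x = g.1.symm x := rfl

theorem apply_inv_apply' {V : Type*} [AddCommGroup V] [Module F V] {B : V →ₛₗ[σ] V →ₗ[F] F} (g : isomGroup B)
    (x : V) : g.1 ((g⁻¹).1 x) = x := g.1.apply_symm_apply x

theorem inv_apply_apply' {V : Type*} [AddCommGroup V] [Module F V] {B : V →ₛₗ[σ] V →ₗ[F] F} (g : isomGroup B)
    (x : V) : (g⁻¹).1 (g.1 x) = x := g.1.symm_apply_apply x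

/-! ### Transvections of the factors -/

theorem row_uTv_apply {C : isomGroup (stdHerm σ b)} {v : Fin b → F} {μ : F} (hC : IsUTv C v μ)
    (X : Matrix (Fin a) (Fin b) F) : (rowHom σ a b C).1 X = X + μ • sl2 a v (co2 σ a v X) := funext fun i => by
  rw [rowHom_apply, rowMap_row, hC.2.2]
  show _ = X i + μ • vecMulVec (co2 σ a v X) v i
  rw [vecMulVec_row, co2_apply, smul_smul]

theorem col_uTv_apply {A : isomGroup (stdHerm σ a)} {u : Fin a → F} {μ : F} (hA : IsUTv A u μ)
    (X : Matrix (Fin a) (Fin b) F) : (colHom σ a b A).1 X = X + μ • sl1 b u (co1 σ b u X) := by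
  refine Matrix.ext fun i j => ?_
  show (colMap A.1 X)ᵀ j i = X i j + μ * vecMulVec u (co1 σ b u X) i j
  rw [colMap_col, hA.2.2, vecMulVec_apply, co1_apply]
  simp only [Pi.add_apply, Pi.smul_apply, smul_eq_mul, Matrix.transpose_apply]
  ring

end CfsgLib.Classical.TensorMaxU
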