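import Cfsg.Agent.Lib.Classical.TensorMaxU.Tools

/-!
# The centre of the radical of an isotropic slice
-/

set_option autoImplicit false
set_option linter.unusedSectionVars false

namespace CfsgLib.Classical.TensorMaxU

open Matrix Module
open CfsgLib.Classical.TensorMax (IsTensor)

variable {F : Type*} [Field F] {σ : F →+* F} {a b : ℕ}

/-- `S` is skew for the first form. -/
def IsSkew (σ : F →+* F) (S : (Fin a → F) →ₗ[F] (Fin a → F)) : Prop :=
  ∀ u v, stdHerm σ a (S u) v + stdHerm σ a u (S v) = 0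

/-- `M` contains `1 + S ⊗ b b*`. -/
def CentreEl (M : Subgroup (isomGroup (bForm σ a b))) (b₀ : Fin b → F) (S : (Fin a → F) →ₗ[F] (Fin a → F)) : Prop :=
  ∃ z ∈ M, ∀ X, z.1 X = X + sl2 a b₀ (S (co2 σ a b₀ X))

variable [Finite F]

theorem skew_of_formula (hc : IsConjugation σ) {b₀ : Fin b → F} (hb0 : b₀ ≠ 0) (hbb : stdHerm σ b b₀ b₀ = 0)
    {z : isomGroup (bForm σ a b)} {S : (Fin a → F) →ₗ[F] (Fin a → F)}
    (hz : ∀ X, z.1 X = X + sl2 a b₀ (S (co2 σ a b₀ X))) : IsSkew σ S := fun u v => by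
  obtain ⟨p, hpp, hbp, hpb⟩ := (stdHerm_isHermitian hc b).exists_pair (stdHerm_sepRight b) hb0 hbb
  have e := z.2 (vecMulVec u p) (vecMulVec v p)
  rw [hz, hz, co2_vecMulVec, co2_vecMulVec, hbp, one_smul, one_smul, sl2_apply, sl2_apply] at e
  simp only [map_add, LinearMap.add_apply, bForm_tens_tens, hpp, hbp, hpb, hbb, mul_zero, mul_one, zero_add,
    add_zero] at e
  linear_combination e

/-- A skew map orthogonal to every isotropic vector is a scalar. -/
theorem scalar_of_iso (hc : IsConjugation σ) (ha : 2 ≤ a) {S : (Fin a → F) →ₗ[F] (Fin a → F)} (hS : IsSkew σ S)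
    (h0 : ∀ u, stdHerm σ a u u = 0 → stdHerm σ a u (S u) = 0) : ∃ s : F, ∀ v, S v = s • v := by
  classical
  have h₁ := stdHerm_isHermitian hc a
  set f : Fin a → Fin a → F := fun i j => S (Pi.single j 1) i with hf
  have hfe : ∀ i j, stdHerm σ a (Pi.single i 1) (S (Pi.single j 1)) = f i j := fun i j => stdHerm_single a i _
  have hfs : ∀ i j, σ (f j i) + f i j = 0 := fun i j => by
    have h := hS (Pi.single i 1) (Pi.single j 1)
    rwa [← h₁.symm (Pi.single j 1) (S (Pi.single i 1)), hfe, hfe] at h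
  obtain ⟨x, hx⟩ := hc.exists_not_fixed
  have hσx : σ x ≠ 0 := fun e => hx (by rw [e, ← hc.invol x, e, map_zero])
  have hx1 : (1 : F) + σ x ≠ 0 := fun e => hx (by
    have e' := congrArg σ e
    rw [map_add, map_one, hc.invol, map_zero] at e'
    linear_combination e - e')
  set ω₁ := x / σ x with hω₁
  set ω₂ := (1 + x) / (1 + σ x) with hω₂
  have hn₁ : ω₁ * σ ω₁ = 1 := by
    rw [hω₁, map_div₀, hc.invol, div_mul_div_comm, mul_comm x, div_self]
    exact mul_ne_zero hσx fun e => hσx (by rw [e, map_zero])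
  have hn₂ : ω₂ * σ ω₂ = 1 := by
    rw [hω₂, map_div₀, map_add, map_add, map_one, hc.invol, div_mul_div_comm, mul_comm (1 + x), div_self]
    exact mul_ne_zero hx1 fun e => hx1 (by rw [← map_one σ, ← map_add, e, map_zero])
  have h11 : ω₁ ≠ 1 := fun e => hx (by rw [hω₁, div_eq_one_iff_eq hσx] at e; exact e.symm)
  have h21 : ω₂ ≠ 1 := fun e => hx (by rw [hω₂, div_eq_one_iff_eq hx1] at e; linear_combination -e)
  have h12 : ω₁ ≠ ω₂ := fun e => hx (by rw [hω₁, hω₂, div_eq_div_iff hσx hx1] at e; linear_combination -e)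
  obtain ⟨t, ht⟩ := hc.exists_norm_eq (a := (-1 : F)) (by rw [map_neg, map_one])
  have key : ∀ i j, i ≠ j → ∀ ω, ω * σ ω = 1 → f i i - f j j + ω * (t * f i j) - σ ω * σ (t * f i j) = 0 := by
    intro i j hij ω hω
    set u : Fin a → F := Pi.single i 1 + (ω * t) • Pi.single j 1 with hu
    have hN : (ω * t) * σ (ω * t) = -1 := by rw [map_mul]; linear_combination σ t * t * hω + ht
    have h := h0 u (by
      rw [hu]
      simp [map_smulₛₗ, stdHerm_single, hij, hij.symm]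
      rw [map_mul] at hN
      linear_combination hN)
    rw [hu] at h
    simp only [map_add, map_smul, map_smulₛₗ, LinearMap.add_apply, LinearMap.smul_apply, hfe, smul_eq_mul,
      RingHom.id_apply] at h
    have e := hfs j i
    rw [map_mul] at hN h
    rw [map_mul]
    linear_combination h - f j j * hN - (σ ω * σ t) * e
  have hzero : ∀ i j, i ≠ j → f i j = 0 ∧ f i i = f j j := fun i j hij => by
    set ζ := t * f i j with hζ
    have k1 := key i j hij 1 (by rw [map_one, mul_one])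
    have k2 := key i j hij ω₁ hn₁
    have k3 := key i j hij ω₂ hn₂
    rw [map_one, one_mul, one_mul] at k1
    have e1 : ω₁ * ζ + σ ζ = 0 := by
      refine mul_left_cancel₀ (sub_ne_zero.2 h11) ?_
      linear_combination ω₁ * k2 - ω₁ * k1 + σ ζ * hn₁
    have e2 : ω₂ * ζ + σ ζ = 0 := by
      refine mul_left_cancel₀ (sub_ne_zero.2 h21) ?_
      linear_combination ω₂ * k3 - ω₂ * k1 + σ ζ * hn₂
    have hz : ζ = 0 := by
      refine mul_left_cancel₀ (sub_ne_zero.2 h12) ?_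
      linear_combination e1 - e2
    have ht0 : t ≠ 0 := fun e => by simp [e] at ht
    refine ⟨(mul_eq_zero.1 hz).resolve_left ht0, ?_⟩
    have hσz : σ ζ = 0 := by rw [hz, map_zero]
    linear_combination k1 - hz + hσz
  let i₀ : Fin a := ⟨0, by omega⟩
  refine ⟨f i₀ i₀, fun v => LinearMap.congr_fun (f := S) (g := f i₀ i₀ • LinearMap.id)
    ((Pi.basisFun F (Fin a)).ext fun j => funext fun i => ?_) v⟩
  rw [Pi.basisFun_apply]
  show f i j = _
  by_cases hij : i = j
  · subst hij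
    rcases eq_or_ne i i₀ with rfl | hi
    · simp
    · simp [(hzero i i₀ hi).2]
  · simp [(hzero i j hij).1, hij]

theorem uTv_inv (hc : IsConjugation σ) {A : isomGroup (stdHerm σ a)} {u : Fin a → F} {κ : F} (hA : IsUTv A u κ)
    (v : Fin a → F) : (A⁻¹).1 v = v - (κ * stdHerm σ a u v) • u := A.1.injective (by
  rw [apply_inv_apply', hA.2.2, map_sub, map_smul, hA.1]
  simp)

/-- A non-scalar skew map is not fixed modulo the scalars by every special isometry. -/
theorem exists_conj_nonscalar (hc : IsConjugation σ) (ha : 2 ≤ a) (hex : BigFixed σ ∨ 3 ≤ a)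
    {S : (Fin a → F) →ₗ[F] (Fin a → F)} (hS : IsSkew σ S) (hns : ¬ ∃ s : F, ∀ v, S v = s • v) :
    ∃ A : isomGroup (stdHerm σ a), idet (stdHerm σ a) A = 1 ∧ ¬ ∃ s : F, ∀ v, S v - A.1 (S ((A⁻¹).1 v)) = s • v := by
  have h₁ := stdHerm_isHermitian hc a
  obtain ⟨u, huu, he⟩ : ∃ u, stdHerm σ a u u = 0 ∧ stdHerm σ a u (S u) ≠ 0 := by
    by_contra! h
    exact hns (scalar_of_iso hc ha hS h)
  have hu0 : u ≠ 0 := fun e => he (by simp [e])
  obtain ⟨n, hnn, hun, hnu⟩ := h₁.exists_pair (stdHerm_sepRight a) hu0 huu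
  obtain ⟨κ, hκ0, hκ⟩ := hc.exists_trace_zero
  by_contra! hall
  have key : ∀ κ : F, κ + σ κ = 0 → ∃ s : F, ∀ v, (κ * stdHerm σ a u v) • S u - (κ * stdHerm σ a u (S v)) • u
      + (κ * κ * stdHerm σ a u (S u) * stdHerm σ a u v) • u = s • v := by
    intro κ hκ
    obtain ⟨A, hA⟩ := h₁.exists_uTv (stdHerm_sepRight a) huu hκ
    obtain ⟨s, hs⟩ := hall A (h₁.idet_uTv hA)
    refine ⟨s, fun v => ?_⟩
    rw [← hs, uTv_inv hc hA, hA.2.2]
    simp only [map_sub, map_smul, smul_eq_mul]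
    module
  rcases hex with ⟨l, hl, hl0, hl1⟩ | ha3
  · obtain ⟨s, hs⟩ := key κ hκ
    obtain ⟨s', hs'⟩ := key (l * κ) (by rw [map_mul, hl]; linear_combination l * hκ)
    have e := congrArg (stdHerm σ a n) (hs n)
    have e' := congrArg (stdHerm σ a n) (hs' n)
    simp only [map_add, map_sub, map_smul, smul_eq_mul, hnu, hun, hnn, mul_one, mul_zero] at e e'
    refine he ?_
    refine mul_left_cancel₀ (mul_ne_zero (mul_ne_zero hl0 (sub_ne_zero.2 hl1)) (mul_ne_zero hκ0 hκ0)) ?_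
    linear_combination e' - l * e
  · obtain ⟨s, hs⟩ := key κ hκ
    obtain ⟨z, huz, -, hzz⟩ := h₁.exists_perp_pair (stdHerm_sepRight a) (by rw [finrank_fin_fun]; omega) huu hun
      (map_one σ)
    have e1 := congrArg (stdHerm σ a z) (hs z)
    have e2 := congrArg (stdHerm σ a n) (hs u)
    simp only [map_add, map_sub, map_smul, map_neg, smul_eq_mul, huz, h₁.isRefl _ _ huz, hzz, hnu, huu, mul_zero, mul_one,
      zero_mul, zero_smul, sub_zero, add_zero, zero_sub] at e1 e2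
    refine he (mul_left_cancel₀ hκ0 ?_)
    linear_combination -e2 + e1

variable {M : Subgroup (isomGroup (bForm σ a b))} {b₀ : Fin b → F} {S S' : (Fin a → F) →ₗ[F] (Fin a → F)}

theorem CentreEl.congr (h : CentreEl M b₀ S) (e : ∀ v, S v = S' v) : CentreEl M b₀ S' := by
  obtain ⟨z, hz, hX⟩ := h
  exact ⟨z, hz, fun X => by rw [hX, e]⟩

theorem CentreEl.add (hbb : stdHerm σ b b₀ b₀ = 0) (h : CentreEl M b₀ S) (h' : CentreEl M b₀ S') :
    CentreEl M b₀ (S + S') := by
  obtain ⟨z, hz, hX⟩ := h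
  obtain ⟨z', hz', hX'⟩ := h'
  refine ⟨z * z', M.mul_mem hz hz', fun X => ?_⟩
  rw [mul_apply', hX', hX, map_add (co2 σ a b₀), sl2_apply (S' _), co2_vecMulVec, hbb, zero_smul, add_zero,
    LinearMap.add_apply, map_add, sl2_apply, sl2_apply]
  abel

theorem CentreEl.zero : CentreEl M b₀ 0 := ⟨1, M.one_mem, fun X => by simp⟩

theorem CentreEl.conj (hc : IsConjugation σ) (hM : ContainsTensor M) (h : CentreEl M b₀ S)
    {A : isomGroup (stdHerm σ a)} (hA : idet (stdHerm σ a) A = 1) :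
    CentreEl M b₀ ((A.1 : (Fin a → F) →ₗ[F] (Fin a → F)) ∘ₗ S ∘ₗ ((A⁻¹).1 : (Fin a → F) →ₗ[F] (Fin a → F))) := by
  obtain ⟨z, hz, hX⟩ := h
  refine ⟨colHom σ a b A * z * (colHom σ a b A)⁻¹, M.mul_mem (M.mul_mem (hM.col hA) hz) (M.inv_mem (hM.col hA)),
    fun X => ?_⟩
  have e : co2 σ a b₀ (((colHom σ a b A)⁻¹).1 X) = (A⁻¹).1 (co2 σ a b₀ X) := by
    rw [← map_inv, colHom_apply, matrix_eq_sum X]
    simp only [map_sum, colMap_vecMulVec, co2_vecMulVec, map_smul]
  rw [mul_apply', mul_apply', hX, map_add, apply_inv_apply', e, colHom_apply, sl2_apply, colMap_vecMulVec]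
  rfl

theorem CentreEl.smul_fixed (hc : IsConjugation σ) (hM : ContainsTensor M) (hb : 3 ≤ b) (hb0 : b₀ ≠ 0)
    (hbb : stdHerm σ b b₀ b₀ = 0) (h : CentreEl M b₀ S) {l : F} (hl : σ l = l) : CentreEl M b₀ (l • S) := by
  rcases eq_or_ne l 0 with rfl | hl0
  · rw [zero_smul]; exact CentreEl.zero
  have h₂ := stdHerm_isHermitian hc b
  obtain ⟨ρ, hρ⟩ := hc.exists_norm_eq hl
  have hρ0 : ρ ≠ 0 := fun e => hl0 (by rw [← hρ, e, zero_mul])
  obtain ⟨b₁, hb₁, hbb₁, hb₁b⟩ := h₂.exists_pair (stdHerm_sepRight b) hb0 hbb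
  obtain ⟨T, hTb, -, -, hTd⟩ := h₂.exists_torus (stdHerm_sepRight b) hbb hb₁ hbb₁ hρ0
  obtain ⟨w, hbw, -, hww⟩ := h₂.exists_perp_pair (stdHerm_sepRight b) (by rw [finrank_fin_fun]; omega) hbb hbb₁
    (map_one σ)
  obtain ⟨q, hq, hqd⟩ := h₂.exists_qr (stdHerm_sepRight b) (z := w) (by rw [hww]; exact one_ne_zero)
    (l := (idet (stdHerm σ b) T)⁻¹) (by rw [map_inv₀, ← mul_inv, h₂.idet_norm (stdHerm_sepRight b), inv_one])
  set C := q * T with hC
  have hCd : idet (stdHerm σ b) C = 1 := by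
    rw [hC, map_mul, hqd, inv_mul_cancel₀]
    exact (LinearEquiv.isUnit_det' T.1).ne_zero
  have hCb : C.1 b₀ = ρ • b₀ := by
    rw [hC, mul_apply', hTb, hq, map_smul, h₂.isRefl _ _ hbw, smul_zero, mul_zero, zero_smul, add_zero]
  obtain ⟨z, hz, hX⟩ := h
  refine ⟨rowHom σ a b C * z * (rowHom σ a b C)⁻¹, M.mul_mem (M.mul_mem (hM.row hCd) hz) (M.inv_mem (hM.row hCd)),
    fun X => ?_⟩
  have e : co2 σ a b₀ (((rowHom σ a b C)⁻¹).1 X) = σ ρ • co2 σ a b₀ X := funext fun i => by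
    rw [← map_inv, rowHom_apply, co2_apply, rowMap_row, Pi.smul_apply, co2_apply, smul_eq_mul,
      ← C.2, apply_inv_apply', hCb, map_smulₛₗ, LinearMap.smul_apply, smul_eq_mul]
  rw [mul_apply', mul_apply', hX, map_add, apply_inv_apply', e, map_smul, rowHom_apply, sl2_apply,
    rowMap_vecMulVec, hCb, LinearMap.smul_apply, sl2_apply, vecMulVec_smul, smul_vecMulVec, smul_vecMulVec,
    smul_smul, hρ]

/-- A rank one element of the centre gives a transvection axis. -/
theorem axis_of_rank_one (hc : IsConjugation σ) (hM : ContainsTensor M) (hb : 3 ≤ b) (hb0 : b₀ ≠ 0)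
    (hbb : stdHerm σ b b₀ b₀ = 0) {u : Fin a → F} {κ₀ : F} (hκ₀ : κ₀ ≠ 0) (hκ₀' : κ₀ + σ κ₀ = 0)
    (hS : ∀ v, S v = (κ₀ * stdHerm σ a u v) • u) (h : CentreEl M b₀ S) : IsTAxis M (vecMulVec u b₀) := by
  intro g c hg
  have hσκ : σ κ₀ = -κ₀ := eq_neg_of_add_eq_zero_right hκ₀'
  obtain ⟨z, hz, hX⟩ := h.smul_fixed hc hM hb hb0 hbb (l := c / κ₀) (by
    rw [map_div₀, hσκ, eq_neg_of_add_eq_zero_right hg.2.1, neg_div_neg_eq])
  have : z = g := Subtype.ext (LinearEquiv.ext fun X => by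
    rw [hX, hg.2.2, bForm_tens, LinearMap.smul_apply, hS, map_smul, map_smul, sl2_apply, smul_smul, ← mul_assoc,
      div_mul_cancel₀ _ hκ₀])
  exact this ▸ hz

/-- A non-scalar element of the centre gives a transvection axis in the slice. -/
theorem exists_axis (hc : IsConjugation σ) (hM : ContainsTensor M) (ha : 2 ≤ a) (hex : BigFixed σ ∨ 3 ≤ a)
    (hb : 3 ≤ b) (hb0 : b₀ ≠ 0) (hbb : stdHerm σ b b₀ b₀ = 0) (hSk : IsSkew σ S)
    (hns : ¬ ∃ s : F, ∀ v, S v = s • v) (h : CentreEl M b₀ S) :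
    ∃ u, u ≠ 0 ∧ stdHerm σ a u u = 0 ∧ IsTAxis M (vecMulVec u b₀) := by
  have h₁ := stdHerm_isHermitian hc a
  obtain ⟨u, huu, he⟩ : ∃ u, stdHerm σ a u u = 0 ∧ stdHerm σ a u (S u) ≠ 0 := by
    by_contra! h
    exact hns (scalar_of_iso hc ha hSk h)
  have hu0 : u ≠ 0 := fun e => he (by simp [e])
  refine ⟨u, hu0, huu, ?_⟩
  set e := stdHerm σ a u (S u) with hedef
  have hse : e + σ e = 0 := by
    rw [hedef, h₁.symm]; linear_combination hSk u u
  obtain ⟨κ, hκ0, hκ⟩ := hc.exists_trace_zero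
  have hdiff : ∀ κ : F, κ + σ κ = 0 → ∃ T, CentreEl M b₀ T ∧ ∀ v, T v =
      (κ * stdHerm σ a u (S v)) • u - (κ * stdHerm σ a u v) • S u - (κ * κ * e * stdHerm σ a u v) • u := by
    intro κ hκ
    obtain ⟨A, hA⟩ := h₁.exists_uTv (stdHerm_sepRight a) huu hκ
    refine ⟨_, (h.conj hc hM (h₁.idet_uTv hA)).add hbb (h.smul_fixed hc hM hb hb0 hbb (l := -1) (by simp)),
      fun v => ?_⟩
    simp only [LinearMap.add_apply, LinearMap.comp_apply, LinearEquiv.coe_coe, LinearMap.smul_apply,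
      uTv_inv hc hA, hA.2.2, map_sub, map_smul, smul_eq_mul, ← hedef]
    module
  obtain ⟨T, hT, hTv⟩ := hdiff κ hκ
  by_cases hbig : BigFixed σ
  · obtain ⟨l, hl, hl0, hl1⟩ := hbig
    obtain ⟨T', hT', hTv'⟩ := hdiff (l * κ) (by rw [map_mul, hl]; linear_combination l * hκ)
    have hσκ : σ κ = -κ := eq_neg_of_add_eq_zero_right hκ
    refine axis_of_rank_one hc hM hb hb0 hbb (u := u) (κ₀ := -((l * l - l) * (κ * κ) * e))
      (neg_ne_zero.2 (mul_ne_zero (mul_ne_zero ?_ (mul_ne_zero hκ0 hκ0)) he)) ?_ (fun v => ?_)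
      (hT'.add hbb (hT.smul_fixed hc hM hb hb0 hbb (l := -l) (by rw [map_neg, hl])))
    · rw [show l * l - l = l * (l - 1) by ring]
      exact mul_ne_zero hl0 (sub_ne_zero.2 hl1)
    · rw [map_neg, map_mul, map_mul, map_mul, map_sub, map_mul, hl, hσκ]
      linear_combination -((l * l - l) * (κ * κ)) * hse
    · rw [LinearMap.add_apply, LinearMap.smul_apply, hTv, hTv']
      module
  -- over four elements
  have ha3 : 3 ≤ a := hex.resolve_left hbig
  obtain ⟨h2, hnorm, htr, ω, hω0, hω⟩ := small_facts hc hbig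
  obtain rfl : κ = 1 := htr κ hκ hκ0
  have he1 : e = 1 := htr e hse he
  set r := S u with hr
  have hru : stdHerm σ a r u = 1 := by
    rw [← h₁.symm u r, ← hedef, he1, map_one]
  have hur : stdHerm σ a u r = 1 := he1
  have hT' : ∀ v, T v = stdHerm σ a r v • u + stdHerm σ a u v • r + stdHerm σ a u v • u := fun v => by
    rw [hTv, he1]
    have e1 : stdHerm σ a u (S v) = -stdHerm σ a r v := by linear_combination hSk u v
    rw [e1]
    match_scalars <;> first
      | linear_combination -stdHerm σ a u v * h2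
      | linear_combination (stdHerm σ a r v - stdHerm σ a u v) * h2
      | linear_combination -(stdHerm σ a r v + stdHerm σ a u v) * h2
  have hnd : stdHerm σ a u u * stdHerm σ a r r - stdHerm σ a u r * stdHerm σ a r u ≠ 0 := by
    rw [huu, hur, hru]; simp
  have hP : NondegOn (stdHerm σ a) (Submodule.span F {u, r}) := h₁.nondegOn_pair (by rwa [h₁.symm])
  have hP1 := hP.finrank_perp
  have hP2 : finrank F (Submodule.span F {u, r}) ≤ 2 := by
    classical
    refine (finrank_span_le_card (R := F) ({u, r} : Set (Fin a → F))).trans ?_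
    simp only [Set.toFinset_insert, Set.toFinset_singleton]
    exact Finset.card_insert_le _ _
  rw [finrank_fin_fun] at hP1
  obtain ⟨q, hq, hqq⟩ := h₁.exists_unit_in (nondegOn_perp (stdHerm_sepRight a) hP) (by omega) (map_one σ)
  have huq : stdHerm σ a u q = 0 := mem_perp_span.1 hq u (by simp)
  have hrq : stdHerm σ a r q = 0 := mem_perp_span.1 hq r (by simp)
  have hshift : ∀ c : F, c ≠ 0 → ∃ T', CentreEl M b₀ T' ∧ ∀ v, T' v = stdHerm σ a (r + (c • q + ω • u)) v • u +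
      stdHerm σ a u v • (r + (c • q + ω • u)) + stdHerm σ a u v • u := by
    intro c hc0
    set r' := r + (c • q + ω • u) with hr'
    have e1 : stdHerm σ a u r' = 1 := by simp [hr', hur, huq, huu]
    have e2 : stdHerm σ a r' r' = stdHerm σ a r r := by
      simp [hr', map_smulₛₗ, hqq, huu, hru, hur, huq, h₁.isRefl _ _ huq, hrq, h₁.isRefl _ _ hrq]
      linear_combination hnorm c hc0 + hω + h2
    obtain ⟨A, hA, hAu, hAr⟩ := h₁.exists_sIsom_pair (stdHerm_sepRight a) (by rw [finrank_fin_fun]; omega)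
      (x₁ := u) (x₂ := r) (y₁ := u) (y₂ := r') rfl (by rw [hur, e1]) e2.symm (by
        rw [e2, e1, ← h₁.symm u r', e1, map_one, huu]; simp)
    refine ⟨_, hT.conj hc hM hA, fun v => ?_⟩
    simp only [LinearMap.comp_apply, LinearEquiv.coe_coe, hT', map_add, map_smul, hAu, hAr]
    have h3 : ∀ w, stdHerm σ a w ((A⁻¹).1 v) = stdHerm σ a (A.1 w) v := fun w => by
      rw [← A.2, apply_inv_apply']
    rw [h3, h3, hAu, hAr]
  obtain ⟨x, hx⟩ := hc.exists_not_fixed
  have hx0 : x ≠ 0 := fun e => hx (by rw [e, map_zero])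
  have hx1 : (1 : F) + x ≠ 0 := fun e => hx (by
    rw [show x = -1 by linear_combination e, map_neg, map_one])
  obtain ⟨T₁, h₁T, e₁⟩ := hshift 1 one_ne_zero
  obtain ⟨T₂, h₂T, e₂⟩ := hshift x hx0
  obtain ⟨T₃, h₃T, e₃⟩ := hshift (1 + x) hx1
  refine axis_of_rank_one hc hM hb hb0 hbb (u := u) (κ₀ := 1) one_ne_zero (by rw [map_one]; linear_combination h2)
    (fun v => ?_) (((hT.add hbb h₁T).add hbb h₂T).add hbb h₃T)
  simp only [LinearMap.add_apply, hT', e₁, e₂, e₃, map_add, map_smulₛₗ, LinearMap.smul_apply, smul_eq_mul,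
    map_one, one_mul, smul_add, smul_smul, add_smul]
  match_scalars <;> first
    | linear_combination (2 * stdHerm σ a r v + stdHerm σ a q v + σ x * stdHerm σ a q v + σ ω * stdHerm σ a u v
        + ω * stdHerm σ a u v + 2 * stdHerm σ a u v) * h2 + stdHerm σ a u v * hω
    | linear_combination (2 * stdHerm σ a u v) * h2
    | linear_combination ((1 + x) * stdHerm σ a u v) * h2

end CfsgLib.Classical.TensorMaxU
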