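import Mathlib

/-!
# Powers of the product of two root elements

`J` and `R` are two maps into `V`, with left partners `J'` and `R'`, and `S = (1 + μ J J') (1 + ν R R')`.
-/

set_option autoImplicit false
set_option linter.unusedSectionVars false

namespace CfsgLib.Classical.TensorMaxU

open Polynomial Module Matrix

variable {F : Type*} [Field F]

section Two

variable {E : Type*} [Field E]

/-- A matrix of determinant one and trace not `± 2` has order prime to the characteristic. -/
theorem exists_pow_eq_one_two [Finite E] (M : Matrix (Fin 2) (Fin 2) E) (hdet : M.det = 1) (h10 : M 1 0 ≠ 0)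
    (htr : (M 0 0 + M 1 1) ^ 2 ≠ 4) : ∃ m : ℕ, (m : E) ≠ 0 ∧ M ^ m = 1 := by
  classical
  haveI : Fintype E := Fintype.ofFinite E
  obtain ⟨p, hp⟩ := CharP.exists E
  obtain ⟨-, hpr, -⟩ := FiniteField.card E p
  haveI := Fact.mk hpr
  let g : Matrix.SpecialLinearGroup (Fin 2) E := ⟨M, hdet⟩
  have hk : 0 < orderOf g := orderOf_pos g
  have hpow : ∀ k, ((g ^ k : Matrix.SpecialLinearGroup (Fin 2) E) : Matrix (Fin 2) (Fin 2) E) = M ^ k :=
    fun k => Matrix.SpecialLinearGroup.coe_pow g k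
  have h1 : M ^ orderOf g = 1 := by rw [← hpow, pow_orderOf_eq_one]; rfl
  refine ⟨orderOf g, fun h0 => ?_, h1⟩
  obtain ⟨j, hj⟩ := (CharP.cast_eq_zero_iff E p _).1 h0
  set ν := M ^ j - 1 with hν
  have hνp : ν ^ p = 0 := by
    rw [hν, sub_pow_char_of_commute _ (Commute.one_right _), one_pow, ← pow_mul, mul_comm, ← hj, h1, sub_self]
  have hν0 : ν ≠ 0 := fun h => by
    have hgj : g ^ j = 1 := Subtype.ext (by rw [hpow]; exact sub_eq_zero.1 h)
    rcases Nat.eq_zero_or_pos j with rfl | hj0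
    · omega
    · have := orderOf_le_of_pow_eq_one hj0 hgj
      have := hpr.two_le
      nlinarith
  have hcomm : ν * M = M * ν := by rw [hν, Matrix.sub_mul, Matrix.mul_sub, ← pow_succ, ← pow_succ', Matrix.one_mul, Matrix.mul_one]
  -- `ν` has square zero
  have hd : ν.det = 0 := by
    have h := congrArg Matrix.det hνp
    rw [det_pow, det_zero] at h
    exact eq_zero_of_pow_eq_zero h
  rw [det_fin_two] at hd
  have hsq : ν * ν = (ν 0 0 + ν 1 1) • ν := by
    ext i k
    fin_cases i <;> fin_cases k <;> simp [Matrix.mul_apply, Fin.sum_univ_two] <;>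
      first | linear_combination hd | linear_combination -hd | ring
  have htr0 : ν 0 0 + ν 1 1 = 0 := by
    by_contra h
    have hall : ∀ k : ℕ, ν ^ (k + 1) = (ν 0 0 + ν 1 1) ^ k • ν := by
      intro k
      induction k with
      | zero => simp
      | succ k ih => rw [pow_succ, ih, Matrix.smul_mul, hsq, smul_smul, ← pow_succ]
    have h2 := hall (p - 1)
    rw [Nat.sub_add_cancel hpr.one_le, hνp, eq_comm, smul_eq_zero] at h2
    exact hν0 (h2.resolve_left (pow_ne_zero _ h))
  -- `ν = α + β M`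
  have e00 := congrFun (congrFun hcomm 0) 0
  have e10 := congrFun (congrFun hcomm 1) 0
  simp [Matrix.mul_apply, Fin.sum_univ_two] at e00 e10
  set β := ν 1 0 / M 1 0 with hβ
  have hb : ν 1 0 = β * M 1 0 := by rw [hβ, div_mul_cancel₀ _ h10]
  have h01 : ν 0 1 = β * M 0 1 := by
    refine mul_right_cancel₀ h10 ?_
    linear_combination e00 + M 0 1 * hb
  have h11 : ν 1 1 = ν 0 0 - β * (M 0 0 - M 1 1) := by
    refine mul_right_cancel₀ h10 ?_
    linear_combination e10 - (M 0 0 - M 1 1) * hb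
  rw [det_fin_two] at hdet
  have hβ0 : β = 0 := by
    by_contra hne
    refine htr (mul_left_cancel₀ (pow_ne_zero 2 hne) ?_)
    have hs : 2 * ν 0 0 = β * (M 0 0 - M 1 1) := by linear_combination htr0 - h11
    have hn : ν 0 0 * ν 0 0 + β * β * (M 0 1 * M 1 0) = 0 := by
      linear_combination -hd + ν 0 0 * htr0 - ν 1 0 * h01 - β * M 0 1 * hb
    linear_combination 4 * hn - (2 * ν 0 0 + β * (M 0 0 - M 1 1)) * hs + 4 * β ^ 2 * hdet
  refine hν0 ?_
  have hsq00 := congrFun (congrFun hsq 0) 0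
  simp [Matrix.mul_apply, Fin.sum_univ_two, htr0, h01, hβ0] at hsq00
  ext i k
  fin_cases i <;> fin_cases k <;> simp [hb, h01, h11, hβ0, hsq00]

end Two

section Roots

variable {V U Z : Type*} [AddCommGroup V] [Module F V] [AddCommGroup U] [Module F U] [AddCommGroup Z] [Module F Z]

/-- The data of two root elements. -/
structure RootPair (J : U →ₗ[F] V) (J' : V →ₗ[F] U) (R : Z →ₗ[F] V) (R' : V →ₗ[F] Z) : Prop where
  hJ : ∀ u, J' (J u) = 0
  hR : ∀ z, R' (R z) = 0

variable {J : U →ₗ[F] V} {J' : V →ₗ[F] U} {R : Z →ₗ[F] V} {R' : V →ₗ[F] Z}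

/-- The product of the two root elements. -/
def prodRoot (J : U →ₗ[F] V) (J' : V →ₗ[F] U) (R : Z →ₗ[F] V) (R' : V →ₗ[F] Z) (μ ν : F) : Module.End F V :=
  (1 + μ • (J ∘ₗ J')) * (1 + ν • (R ∘ₗ R'))

theorem prodRoot_apply (μ ν : F) (v : V) :
    prodRoot J J' R R' μ ν v = (v + ν • R (R' v)) + μ • J (J' (v + ν • R (R' v))) := rfl

theorem prodRoot_of_ker (hP : RootPair J J' R R') (μ ν : F) {v : V} (h1 : J' v = 0) (h2 : R' v = 0) (m : ℕ) :
    (prodRoot J J' R R' μ ν ^ m) v = v := by
  induction m with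
  | zero => rfl
  | succ m ih =>
    rw [pow_succ, Module.End.mul_apply, prodRoot_apply, h2, map_zero, smul_zero, add_zero, h1, map_zero, smul_zero,
      add_zero, ih]

theorem pow_fix_J (hP : RootPair J J' R R') (μ ν : F) {k : U} (hk : R' (J k) = 0) (m : ℕ) :
    (prodRoot J J' R R' μ ν ^ m) (J k) = J k :=
  prodRoot_of_ker hP μ ν (hP.hJ k) hk m

theorem pow_move_R (hP : RootPair J J' R R') (μ ν : F) {v : V} (h1 : J' v = 0) (h2 : J' (R (R' v)) = 0) (m : ℕ) :
    (prodRoot J J' R R' μ ν ^ m) v = v + ((m : F) * ν) • R (R' v) := by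
  induction m with
  | zero => simp
  | succ m ih =>
    rw [pow_succ, Module.End.mul_apply, prodRoot_apply, map_add J', map_smul J', h1, h2, smul_zero, add_zero,
      map_zero, smul_zero, add_zero, map_add, map_smul, ih,
      prodRoot_of_ker hP μ ν h2 (hP.hR _) m, Nat.cast_succ, add_mul, one_mul, add_smul]
    abel

theorem pow_move_J (hP : RootPair J J' R R') (μ ν : F) {v : V} (h1 : R' v = 0) (h2 : R' (J (J' v)) = 0) (m : ℕ) :
    (prodRoot J J' R R' μ ν ^ m) v = v + ((m : F) * μ) • J (J' v) := by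
  induction m with
  | zero => simp
  | succ m ih =>
    rw [pow_succ, Module.End.mul_apply, prodRoot_apply, h1, map_zero, smul_zero, add_zero, map_add, map_smul, ih,
      pow_fix_J hP μ ν h2 m, Nat.cast_succ, add_mul, one_mul, add_smul]
    abel

theorem pow_sub_mem (μ ν : F) (m : ℕ) (v : V) :
    (prodRoot J J' R R' μ ν ^ m) v - v ∈ LinearMap.range J ⊔ LinearMap.range R := by
  induction m generalizing v with
  | zero => simp
  | succ m ih =>
    rw [pow_succ, Module.End.mul_apply]
    set w := prodRoot J J' R R' μ ν v with hw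
    have h1 : w - v ∈ LinearMap.range J ⊔ LinearMap.range R := by
      rw [hw, prodRoot_apply, show v + ν • R (R' v) + μ • J (J' (v + ν • R (R' v))) - v =
        μ • J (J' (v + ν • R (R' v))) + ν • R (R' v) by abel]
      exact Submodule.add_mem_sup (Submodule.smul_mem _ _ (LinearMap.mem_range_self _ _))
        (Submodule.smul_mem _ _ (LinearMap.mem_range_self _ _))
    simpa using add_mem (ih w) h1

/-- The product acts on `J U + R P U` through a two by two matrix over `F[θ]`. -/
noncomputable def polyMat (μ ν : F) : Matrix (Fin 2) (Fin 2) (Polynomial F) :=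
  !![1 + C (μ * ν) * X, C μ * X; C ν, 1]

theorem pow_polyMat (hP : RootPair J J' R R') (μ ν : F) (x : U) (m : ℕ) :
    (prodRoot J J' R R' μ ν ^ m) (J x) =
      J (aeval (J' ∘ₗ R ∘ₗ R' ∘ₗ J : Module.End F U) ((polyMat μ ν ^ m) 0 0) x) +
        R (R' (J (aeval (J' ∘ₗ R ∘ₗ R' ∘ₗ J : Module.End F U) ((polyMat μ ν ^ m) 1 0) x))) := by
  set θ : Module.End F U := J' ∘ₗ R ∘ₗ R' ∘ₗ J with hθ
  induction m with
  | zero => simp
  | succ m ih =>
    rw [pow_succ', Module.End.mul_apply, ih]
    set α := (polyMat μ ν ^ m) 0 0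
    set β := (polyMat μ ν ^ m) 1 0
    have e0 : (polyMat μ ν ^ (m + 1)) 0 0 = (1 + C (μ * ν) * X) * α + C μ * X * β := by
      rw [pow_succ', Matrix.mul_apply, Fin.sum_univ_two]; simp [polyMat, α, β]
    have e1 : (polyMat μ ν ^ (m + 1)) 1 0 = C ν * α + β := by
      rw [pow_succ', Matrix.mul_apply, Fin.sum_univ_two]; simp [polyMat, α, β]
    rw [e0, e1]
    simp only [map_add, map_mul, aeval_C, aeval_X, map_one, Module.End.mul_apply, LinearMap.add_apply,
      Module.algebraMap_end_apply, Module.End.one_apply, map_smul, prodRoot_apply, hP.hJ, hP.hR, map_zero,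
      add_zero, zero_add, hθ, LinearMap.comp_apply, smul_add, smul_smul]
    module

/-- Either some exponent prime to the characteristic fixes one more vector of `J U` modulo the kernel, for one of
the parameters `μ` and `2 μ`. -/
theorem exists_pow [Finite F] [FiniteDimensional F U] (hP : RootPair J J' R R') {μ ν : F} (hμ : μ ≠ 0) (hν : ν ≠ 0)
    (hθ : ∀ x, R' (J (J' (R (R' (J x))))) = 0 → R' (J x) = 0) (hne : ∃ x, R' (J x) ≠ 0) :
    ∃ (s : F) (m : ℕ) (x k : U), (s = 1 ∨ s = 2) ∧ s ≠ 0 ∧ (m : F) ≠ 0 ∧ R' (J x) ≠ 0 ∧ R' (J k) = 0 ∧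
      (prodRoot J J' R R' (s * μ) ν ^ m) (J x) = J (x + k) := by
  classical
  set θ : Module.End F U := J' ∘ₗ R ∘ₗ R' ∘ₗ J with hθdef
  set K : Submodule F U := LinearMap.ker (R' ∘ₗ J) with hK
  have hKθ : ∀ k ∈ K, θ k = 0 := fun k hk => by
    simp only [hθdef, LinearMap.comp_apply]
    rw [show R' (J k) = 0 from hk, map_zero, map_zero]
  have hKinv : K ≤ K.comap θ := fun k hk => by
    rw [Submodule.mem_comap, hKθ k hk]; exact K.zero_mem
  have hKpoly : ∀ (g : Polynomial F), ∀ k ∈ K, aeval θ g k ∈ K := by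
    intro g
    induction g using Polynomial.induction_on with
    | C c => intro k hk; rw [aeval_C, Module.algebraMap_end_apply]; exact K.smul_mem c hk
    | add g₁ g₂ h₁ h₂ => intro k hk; rw [map_add, LinearMap.add_apply]; exact K.add_mem (h₁ k hk) (h₂ k hk)
    | monomial n c h =>
        intro k hk
        rw [pow_succ, ← mul_assoc, map_mul, aeval_X, Module.End.mul_apply, hKθ k hk, map_zero]
        exact K.zero_mem
  set θb : Module.End F (U ⧸ K) := K.mapQ K θ hKinv with hθb
  have hmk : ∀ (g : Polynomial F) (x : U), aeval θb g (K.mkQ x) = K.mkQ (aeval θ g x) := by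
    intro g
    induction g using Polynomial.induction_on with
    | C c => intro x; simp
    | add g₁ g₂ h₁ h₂ => intro x; simp only [map_add, LinearMap.add_apply, h₁, h₂]
    | monomial n c h =>
        intro x
        rw [pow_succ, ← mul_assoc, map_mul (aeval θb), map_mul (aeval θ), aeval_X, aeval_X, Module.End.mul_apply,
          Module.End.mul_apply, show θb (K.mkQ x) = K.mkQ (θ x) from Submodule.mapQ_apply _ _ _ _]
        exact h (θ x)
  obtain ⟨x₁, hx₁⟩ := hne
  haveI : Nontrivial (U ⧸ K) := ⟨⟨K.mkQ x₁, 0, fun h => hx₁ ((Submodule.Quotient.mk_eq_zero K).1 h)⟩⟩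
  have hint : IsIntegral F θb := IsIntegral.of_finite F θb
  obtain ⟨f, hf, g, hg⟩ := WfDvdMonoid.exists_irreducible_factor (minpoly.not_isUnit F θb) (minpoly.ne_zero hint)
  haveI := Fact.mk hf
  -- a vector killed by `f θ` modulo the kernel
  obtain ⟨x, hxK, hxf⟩ : ∃ x, x ∉ K ∧ aeval θ f x ∈ K := by
    by_contra! hall
    have hinj : Function.Injective (aeval θb f) := (injective_iff_map_eq_zero _).2 fun y hy => by
      obtain ⟨x, rfl⟩ := K.mkQ_surjective y
      rw [hmk] at hy
      by_contra hne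
      exact hall x (fun h => hne ((Submodule.Quotient.mk_eq_zero K).2 h)) ((Submodule.Quotient.mk_eq_zero K).1 hy)
    have h0 : aeval θb g = 0 := LinearMap.ext fun y => hinj (by
      rw [← Module.End.mul_apply, ← map_mul, ← hg, minpoly.aeval]; simp)
    have hg0 : g ≠ 0 := fun h => minpoly.ne_zero hint (by rw [hg, h, mul_zero])
    have h1 := Polynomial.natDegree_le_of_dvd (minpoly.dvd F θb h0) hg0
    rw [hg, Polynomial.natDegree_mul hf.ne_zero hg0] at h1
    have := hf.natDegree_pos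
    omega
  haveI : Module.Finite F (AdjoinRoot f) := (AdjoinRoot.powerBasis hf.ne_zero).finite
  haveI : Finite (AdjoinRoot f) := Module.finite_of_finite F
  set r := AdjoinRoot.root f with hr
  have hr0 : r ≠ 0 := by
    intro h
    obtain ⟨u, hu⟩ : f ∣ X := AdjoinRoot.mk_eq_zero.1 (by rw [AdjoinRoot.mk_X]; exact h)
    have h2 : θ x ∈ K := by
      rw [show θ = aeval θ (u * f) by rw [mul_comm u f, ← hu, aeval_X], map_mul, Module.End.mul_apply]
      exact hKpoly u _ hxf
    exact hxK (hθ x h2)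
  obtain ⟨s, hs12, hs0, hs⟩ : ∃ s : F, (s = 1 ∨ s = 2) ∧ s ≠ 0 ∧
      algebraMap F (AdjoinRoot f) (s * μ * ν) * r + 4 ≠ 0 := by
    set y := algebraMap F (AdjoinRoot f) (μ * ν) * r with hy
    have hy0 : y ≠ 0 := mul_ne_zero (by simp [hμ, hν]) hr0
    by_cases h4 : y + 4 = 0
    · have h2 : (2 : F) ≠ 0 := fun h => hy0 (by
        have h2' : (2 : AdjoinRoot f) = 0 := by rw [← map_ofNat (algebraMap F (AdjoinRoot f)), h, map_zero]
        linear_combination h4 - 2 * h2')
      refine ⟨2, Or.inr rfl, h2, fun h => hy0 ?_⟩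
      rw [mul_assoc, map_mul, map_ofNat] at h
      linear_combination h - h4
    · exact ⟨1, Or.inl rfl, one_ne_zero, by rw [one_mul]; exact h4⟩
  have hsμ : s * μ * ν ≠ 0 := mul_ne_zero (mul_ne_zero hs0 hμ) hν
  set M := (polyMat (s * μ) ν).map (AdjoinRoot.mk f) with hM
  have hC : ∀ c : F, AdjoinRoot.mk f (C c) = algebraMap F (AdjoinRoot f) c := fun c => rfl
  have hM00 : M 0 0 = 1 + algebraMap F (AdjoinRoot f) (s * μ * ν) * r := by simp [hM, polyMat, hC, r]
  have hM01 : M 0 1 = algebraMap F (AdjoinRoot f) (s * μ) * r := by simp [hM, polyMat, hC, r]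
  have hM10 : M 1 0 = algebraMap F (AdjoinRoot f) ν := by simp [hM, polyMat, hC]
  have hM11 : M 1 1 = 1 := by simp [hM, polyMat]
  obtain ⟨m, hm, hMm⟩ := exists_pow_eq_one_two M
    (by rw [det_fin_two, hM00, hM01, hM10, hM11, map_mul _ (s * μ) ν]; ring)
    (by rw [hM10]; simpa using hν)
    (by
      rw [hM00, hM11]
      intro h
      refine mul_ne_zero (mul_ne_zero ((map_ne_zero (algebraMap F (AdjoinRoot f))).2 hsμ) hr0) hs ?_
      linear_combination h)
  have hmap : (polyMat (s * μ) ν ^ m).map (AdjoinRoot.mk f) = 1 := by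
    rw [← hMm, hM, ← RingHom.mapMatrix_apply, map_pow]
    rfl
  obtain ⟨g₀, hg₀⟩ : f ∣ (polyMat (s * μ) ν ^ m) 0 0 - 1 := AdjoinRoot.mk_eq_zero.1 (by
    rw [map_sub, map_one, show AdjoinRoot.mk f ((polyMat (s * μ) ν ^ m) 0 0) = 1 from
      congrFun (congrFun hmap 0) 0, sub_self])
  obtain ⟨g₁, hg₁⟩ : f ∣ (polyMat (s * μ) ν ^ m) 1 0 :=
    AdjoinRoot.mk_eq_zero.1 (congrFun (congrFun hmap 1) 0)
  have hm' : (m : F) ≠ 0 := fun h => hm (by rw [← map_natCast (algebraMap F (AdjoinRoot f)), h, map_zero])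
  refine ⟨s, m, x, aeval θ g₀ (aeval θ f x), hs12, hs0, hm', hxK, hKpoly g₀ _ hxf, ?_⟩
  rw [pow_polyMat hP]
  have e1 : R' (J (aeval θ ((polyMat (s * μ) ν ^ m) 1 0) x)) = 0 := by
    rw [hg₁, mul_comm, map_mul, Module.End.mul_apply]
    exact hKpoly g₁ _ hxf
  rw [← hθdef, e1, map_zero, add_zero, eq_add_of_sub_eq hg₀, mul_comm f g₀, add_comm _ (1 : Polynomial F),
    map_add, map_one, map_mul, LinearMap.add_apply, Module.End.one_apply, Module.End.mul_apply]

end Roots

end CfsgLib.Classical.TensorMaxU
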