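import Cfsg.Agent.Lib.Classical.TensorMaxU.Radical
import Cfsg.Agent.Lib.Classical.TensorMaxU.Axes

/-!
# The stabiliser of a unitary tensor decomposition is maximal
-/

set_option autoImplicit false
set_option linter.unusedSectionVars false

namespace CfsgLib.Classical.TensorMaxU

open Matrix Module
open CfsgLib.Classical.TensorMax (IsTensor)

variable {F : Type*} [Field F] [Finite F] {σ : F →+* F} {a b : ℕ}
  {M : Subgroup (isomGroup (bForm σ a b))}

/-- A subgroup over the determinant-one tensor maps with one further element contains the special group. -/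
theorem sIsom_le (hc : IsConjugation σ) (hM : ContainsTensor M) (ha : 2 ≤ a) (hab : a < b) (hb : 3 ≤ b)
    (hsmall : b = 3 → BigFixed σ)
    (hex : BigFixed σ ∨ 3 ≤ a) {g₀ : isomGroup (bForm σ a b)} (hg₀ : g₀ ∈ M) (hg₀T : ¬ IsTensor g₀.1) :
    sIsom (bForm σ a b) ≤ M := by
  have hgood : ∀ i, 1 ≤ i → i ≤ a → Good M i := by
    intro i h1
    induction i, h1 using Nat.le_induction with
    | base => exact fun _ => base hc hM ha hab hb hsmall hg₀ hg₀T
    | succ j hj ih =>
      intro h
      rcases eq_or_lt_of_le hb with e | hb4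
      · obtain rfl : j = 1 := by omega
        exact step_two hc hM (by omega) e.symm (hsmall e.symm) (ih (by omega))
      · exact step hc hM hab hb4 hj (by omega) (ih (by omega))
  obtain ⟨t, ht, c, S, hc0, hcc, hns, hS⟩ := exists_centre hc hM ha hex hb (hgood a (by omega) le_rfl)
  have hM' := hM.map_conj ht
  have hSk : IsSkew σ S := by
    obtain ⟨z, -, hz⟩ := hS
    exact skew_of_formula hc hc0 hcc hz
  obtain ⟨u, hu0, huu, hax⟩ := exists_axis hc hM' ha hex (by omega) hc0 hcc hSk hns hS
  have h := sIsom_le_of_axis hc hM' ha hex hb (fun e => ⟨hsmall e, by omega⟩) hu0 huu hc0 hcc hax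
  intro g hg
  have hN : t * g * t⁻¹ ∈ sIsom (bForm σ a b) := (MonoidHom.normal_ker _).conj_mem g hg t
  obtain ⟨m, hm, e⟩ := Subgroup.mem_map.1 (h hN)
  have e' : m = g := (MulAut.conj t).injective e
  rwa [← e']

/-- There is a determinant-one isometry which is not a tensor map. -/
theorem exists_not_tensor (hc : IsConjugation σ) (ha : 2 ≤ a) (hb : 2 ≤ b) :
    ∃ g : isomGroup (bForm σ a b), idet (bForm σ a b) g = 1 ∧ ¬ IsTensor g.1 := by
  have h₁ := stdHerm_isHermitian hc a
  have h₂ := stdHerm_isHermitian hc b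
  have hB := bForm_isHermitian (a := a) (b := b) hc
  obtain ⟨u, hu0, huu⟩ := h₁.exists_iso (stdHerm_sepRight a) (by rw [finrank_fin_fun]; omega)
  obtain ⟨n, hnn, hun, hnu⟩ := h₁.exists_pair (stdHerm_sepRight a) hu0 huu
  obtain ⟨w, hw0, hww⟩ := h₂.exists_iso (stdHerm_sepRight b) (by rw [finrank_fin_fun]; omega)
  obtain ⟨r, hrr, hwr, hrw⟩ := h₂.exists_pair (stdHerm_sepRight b) hw0 hww
  obtain ⟨κ, hκ0, hκ⟩ := hc.exists_trace_zero
  obtain ⟨g, hg⟩ := hB.exists_uTv bForm_sepRight (v := vecMulVec u w) (c := κ)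
    (by rw [bForm_tens_tens, huu, zero_mul]) hκ
  refine ⟨g, hB.idet_uTv hg, fun hT => ?_⟩
  obtain ⟨A, C, -, -, hAC⟩ := tensor_pure hT
  have e := hAC n r
  rw [hg.2.2, bForm_tens_tens, hun, hwr, mul_one, mul_one] at e
  have e1 := congrArg (co2 σ a w) e
  have e2 := congrArg (co2 σ a r) e
  rw [map_add, map_smul, co2_vecMulVec, co2_vecMulVec, co2_vecMulVec, hwr, hww, zero_smul, smul_zero, add_zero,
    one_smul] at e1
  rw [map_add, map_smul, co2_vecMulVec, co2_vecMulVec, co2_vecMulVec, hrr, hrw, zero_smul, zero_add, one_smul] at e2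
  set p := A n with hp
  have hp1 : stdHerm σ b r (C r) * stdHerm σ a u p = 0 := by
    have := congrArg (stdHerm σ a u) e2
    rw [map_smul, map_smul, huu, smul_zero, smul_eq_mul] at this
    exact this.symm
  have hp2 : stdHerm σ b w (C r) * stdHerm σ a u p = 1 := by
    have := congrArg (stdHerm σ a u) e1
    rw [map_smul, hun, smul_eq_mul] at this
    exact this.symm
  have hr0 : stdHerm σ b r (C r) = 0 := (mul_eq_zero.1 hp1).resolve_right fun e3 => by simp [e3] at hp2
  rw [hr0, zero_smul] at e2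
  exact hu0 ((smul_eq_zero.1 e2).resolve_left hκ0)

end CfsgLib.Classical.TensorMaxU
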