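import Cfsg.Agent.Lib.Classical.TensorMaxU.Main
import Cfsg.Agent.Lib.Classical.TensorNonMax

/-!
# Transfer to matrices
-/

set_option autoImplicit false
set_option linter.unusedSectionVars false
set_option backward.isDefEq.respectTransparency false

namespace CfsgLib.Classical.TensorMaxU

open Matrix Module
open CfsgLib.Classical.TensorMax (IsTensor coords)

variable {F : Type*} [Field F]

/-- A unitary form, linear in its second argument. -/
def swapForm (σ : F →+* F) {q k : ℕ} (hσ : ∀ x, σ x = x ^ q) {f : (Fin k → F) → (Fin k → F) → F}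
    (hf : Cfsg.Geo.IsUnitaryFormPow q f) : (Fin k → F) →ₛₗ[σ] (Fin k → F) →ₗ[F] F :=
  LinearMap.mk₂'ₛₗ σ (RingHom.id F) (fun x y => f y x)
    (fun x x' y => by
      show f y (x + x') = f y x + f y x'
      rw [hf.herm, hf.add_left, ← hσ, map_add, hσ, hσ, ← hf.herm, ← hf.herm])
    (fun c x y => by
      show f y (c • x) = σ c * f y x
      rw [hf.herm, hf.smul_left, ← hσ, map_mul, hσ (f x y), ← hf.herm])
    (fun x y y' => hf.add_left y y' x)
    (fun c x y => hf.smul_left c y x)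

variable {σ : F →+* F} {q : ℕ}

theorem swapForm_apply {k : ℕ} (hσ : ∀ x, σ x = x ^ q) {f : (Fin k → F) → (Fin k → F) → F}
    (hf : Cfsg.Geo.IsUnitaryFormPow q f) (x y : Fin k → F) : swapForm σ hσ hf x y = f y x := rfl

theorem swapForm_hermitian {k : ℕ} (hc : IsConjugation σ) (hσ : ∀ x, σ x = x ^ q)
    {f : (Fin k → F) → (Fin k → F) → F} (hf : Cfsg.Geo.IsUnitaryFormPow q f) :
    IsHermitian (swapForm σ hσ hf) :=
  ⟨hc, fun x y => by rw [swapForm_apply, swapForm_apply, hσ, ← hf.herm]⟩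

theorem swapForm_sepRight {k : ℕ} (hσ : ∀ x, σ x = x ^ q) {f : (Fin k → F) → (Fin k → F) → F}
    (hf : Cfsg.Geo.IsUnitaryFormPow q f) : (swapForm σ hσ hf).SeparatingRight := fun y hy => by
  by_contra hy0
  obtain ⟨x, hx⟩ := (hf.nondegenerate y hy0).2
  exact hx (hy x)

variable [Fintype F] {n n₁ n₂ : ℕ} {e : Fin n ≃ Fin n₁ × Fin n₂} {P : GL (Fin n) F}
  {f₁ : (Fin n₁ → F) → (Fin n₁ → F) → F} {f₂ : (Fin n₂ → F) → (Fin n₂ → F) → F}

theorem coords_vecMulVec (u : Fin n₁ → F) (w : Fin n₂ → F) :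
    coords e P (vecMulVec u w) = TensorNonMax.tmap e P u w := rfl

/-- An isometry from the matrix model onto the space, by a tensor map and the coordinates. -/
theorem exists_model (hc : IsConjugation σ) (hσ : ∀ x, σ x = x ^ q) (h1 : 0 < n₁) (h2 : 0 < n₂)
    (hf₁ : Cfsg.Geo.IsUnitaryFormPow q f₁) (hf₂ : Cfsg.Geo.IsUnitaryFormPow q f₂)
    (hT : Cfsg.Geo.IsTensorFormStructure (fun x : F => x ^ q) (Cfsg.hermForm n F q) f₁ f₂ e P) :
    ∃ N : Matrix (Fin n₁) (Fin n₂) F ≃ₗ[F] Matrix (Fin n₁) (Fin n₂) F, IsTensor N ∧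
      ∀ X Y, stdHerm σ n (coords e P (N X)) (coords e P (N Y)) = bForm σ n₁ n₂ X Y := by
  obtain ⟨c, hc0, hf⟩ := TensorNonMax.tmap_form e P (σ := fun x : F => x ^ q) (fun a b => mul_pow a b q) hT
  have hB₁ := swapForm_hermitian hc hσ hf₁
  have hB₂ := swapForm_hermitian hc hσ hf₂
  have exp : ∀ {k : ℕ} {g : (Fin k → F) → (Fin k → F) → F} (hg : Cfsg.Geo.IsUnitaryFormPow q g) (x y : Fin k → F),
      Cfsg.Geo.formOfGram (fun x : F => x ^ q) (Cfsg.Geo.gramMatrix g) x y = swapForm σ hσ hg y x := fun {k g} hg x y =>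
    TensorNonMax.gram_expand hg.add_left hg.smul_left
      (fun v a b => LinearMap.congr_fun (map_add (swapForm σ hσ hg) a b) v)
      (fun s v a => by
        show swapForm σ hσ hg (s • a) v = s ^ q * swapForm σ hσ hg a v
        rw [map_smulₛₗ, LinearMap.smul_apply, smul_eq_mul, hσ])
      x y
  have key : ∀ u u' w w', stdHerm σ n (coords e P (vecMulVec u w)) (coords e P (vecMulVec u' w')) =
      c * (swapForm σ hσ hf₁ u u' * swapForm σ hσ hf₂ w w') := fun u u' w w' => by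
    rw [coords_vecMulVec, coords_vecMulVec, ← hermForm_eq_stdHerm hσ, hf, exp hf₁, exp hf₂]
  obtain ⟨E₁, hE₁⟩ := (stdHerm_isHermitian hc n₁).exists_isometry hB₁ (stdHerm_sepRight n₁)
    (swapForm_sepRight hσ hf₁) rfl
  obtain ⟨E₂, hE₂⟩ := (stdHerm_isHermitian hc n₂).exists_isometry hB₂ (stdHerm_sepRight n₂)
    (swapForm_sepRight hσ hf₂) rfl
  have hcf : σ c = c := by
    have h := key (E₁ (Pi.single ⟨0, h1⟩ 1)) (E₁ (Pi.single ⟨0, h1⟩ 1)) (E₂ (Pi.single ⟨0, h2⟩ 1))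
      (E₂ (Pi.single ⟨0, h2⟩ 1))
    rw [hE₁, hE₂, stdHerm_single, stdHerm_single, Pi.single_eq_same, Pi.single_eq_same, mul_one, mul_one] at h
    rw [← h]
    exact (stdHerm_isHermitian hc n).self_fixed _
  obtain ⟨r, hr⟩ := hc.exists_norm_eq (a := c⁻¹) (by rw [map_inv₀, hcf])
  have hr0 : r ≠ 0 := fun e => inv_ne_zero hc0 (by rw [← hr, e, zero_mul])
  set E := E₁.trans (LinearEquiv.smulOfUnit (Units.mk0 r hr0)) with hE
  have hEv : ∀ u, E u = r • E₁ u := fun u => rfl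
  refine ⟨colMap (b := n₂) E * rowMap (a := n₁) E₂, (isTensor_colMap E).mul (isTensor_rowMap E₂), fun X Y => ?_⟩
  have pure : ∀ u u' w w', stdHerm σ n (coords e P ((colMap (b := n₂) E * rowMap (a := n₁) E₂) (vecMulVec u w)))
      (coords e P ((colMap (b := n₂) E * rowMap (a := n₁) E₂) (vecMulVec u' w'))) =
        bForm σ n₁ n₂ (vecMulVec u w) (vecMulVec u' w') := fun u u' w w' => by
    rw [LinearEquiv.mul_apply, LinearEquiv.mul_apply, rowMap_vecMulVec, rowMap_vecMulVec, colMap_vecMulVec,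
      colMap_vecMulVec, key, hEv, hEv]
    simp only [map_smulₛₗ, LinearMap.smul_apply, smul_eq_mul, RingHom.id_apply, hE₁, hE₂, bForm_tens_tens]
    have e' : c * (r * σ r) = 1 := by rw [hr, mul_inv_cancel₀ hc0]
    linear_combination (stdHerm σ n₁ u u' * stdHerm σ n₂ w w') * e'
  rw [matrix_eq_sum X, matrix_eq_sum Y]
  simp only [map_sum, LinearMap.sum_apply, pure]

/-- `GU ∩ SL` has the unitary tensor stabiliser as a maximal subgroup. -/
theorem isMaximalIn_tensor (hF : Fintype.card F = q ^ 2) (h1 : 2 ≤ n₁) (h12 : n₁ < n₂)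
    (hex : ¬ (n₁ = 2 ∧ q = 2))
    (hf₁ : Cfsg.Geo.IsUnitaryFormPow q f₁) (hf₂ : Cfsg.Geo.IsUnitaryFormPow q f₂)
    (hT : Cfsg.Geo.IsTensorFormStructure (fun x : F => x ^ q) (Cfsg.hermForm n F q) f₁ f₂ e P) :
    Cfsg.Geo.IsMaximalIn (Cfsg.GU n F q ⊓ Cfsg.Geo.specialLinear (Fin n) F)
      (Cfsg.Geo.tensorProductSubgroup n₁ n₂ e P ⊓ (Cfsg.GU n F q ⊓ Cfsg.Geo.specialLinear (Fin n) F)) := by
  classical
  obtain ⟨σ, hσ, hc⟩ := exists_frob hF
  have hb : 3 ≤ n₂ := by omega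
  have hbig : BigFixed σ ∨ 3 ≤ n₁ := by
    refine or_iff_not_imp_left.2 fun hnb => ?_
    by_contra h3
    have hq := two_le_of_card_sq hF
    have hq3 : q ≠ 2 := fun e => hex ⟨by omega, e⟩
    have hsub : Subsingleton (fixedUnits σ) := ⟨fun u v => Subtype.ext (Units.ext (by
      rw [fixed_eq_one hnb u.2 (Units.ne_zero _), fixed_eq_one hnb v.2 (Units.ne_zero _)]))⟩
    have h2 := (frob_cards hF hσ hc).1
    rw [Nat.card_of_subsingleton (1 : fixedUnits σ)] at h2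
    omega
  obtain ⟨N, hNT, hN⟩ := exists_model hc hσ (by omega) (by omega) hf₁ hf₂ hT
  set Φ := N ≪≫ₗ coords e P with hΦ
  have hΦ' : ∀ X Y, stdHerm σ n (Φ X) (Φ Y) = bForm σ n₁ n₂ X Y := hN
  set D : isomGroup (bForm σ n₁ n₂) →* isomGroup (stdHerm σ n) :=
    { toFun := fun g => ⟨Φ.symm ≪≫ₗ g.1 ≪≫ₗ Φ, fun x y => by
        show stdHerm σ n (Φ (g.1 (Φ.symm x))) (Φ (g.1 (Φ.symm y))) = _
        rw [hΦ', mem_isomGroup.1 g.2, ← hΦ', Φ.apply_symm_apply, Φ.apply_symm_apply]⟩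
      map_one' := Subtype.ext (LinearEquiv.ext fun x => Φ.apply_symm_apply x)
      map_mul' := fun g g' => Subtype.ext (LinearEquiv.ext fun x => by
        show Φ (g.1 (g'.1 (Φ.symm x))) = Φ (g.1 (Φ.symm (Φ (g'.1 (Φ.symm x)))))
        rw [Φ.symm_apply_apply]) } with hD
  have hDv : ∀ g X, (D g).1 (Φ X) = Φ (g.1 X) := fun g X => congrArg (fun z => Φ (g.1 z)) (Φ.symm_apply_apply X)
  have hdet : ∀ g, idet (stdHerm σ n) (D g) = idet (bForm σ n₁ n₂) g := fun g => LinearMap.det_conj _ Φ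
  have hsurj : ∀ g, ∃ g', D g' = g := fun g =>
    ⟨⟨Φ ≪≫ₗ g.1 ≪≫ₗ Φ.symm, fun X Y => by
      rw [← hΦ', ← hΦ' X Y]
      show stdHerm σ n (Φ (Φ.symm (g.1 (Φ X)))) (Φ (Φ.symm (g.1 (Φ Y)))) = _
      rw [Φ.apply_symm_apply, Φ.apply_symm_apply, mem_isomGroup.1 g.2]⟩,
    Subtype.ext (LinearEquiv.ext fun x => by
      show Φ (Φ.symm (g.1 (Φ (Φ.symm x)))) = g.1 x
      rw [Φ.apply_symm_apply, Φ.apply_symm_apply])⟩
  have hmem : ∀ g, linToGL (D g).1 ∈ Cfsg.Geo.tensorProductSubgroup n₁ n₂ e P ↔ IsTensor g.1 := by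
    intro g
    have e1 : linToGL (D g).1 = TensorMax.toGLHom e P (N * g.1 * N⁻¹) := rfl
    rw [e1]
    constructor
    · intro h
      obtain ⟨A, C, hAC⟩ := TensorNonMax.tmap_mul e P h
      have hT' : IsTensor (N * g.1 * N⁻¹) := TensorMax.isTensor_of_forall (by omega) (by omega) _ fun w _ =>
        ⟨(C : Matrix _ _ F) *ᵥ w, fun u => ⟨(A : Matrix _ _ F) *ᵥ u, (coords e P).injective (by
          rw [← TensorMax.toGLHom_mulVec, coords_vecMulVec, hAC]
          rfl)⟩⟩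
      have := (hNT.inv.mul hT').mul hNT
      rwa [show N⁻¹ * (N * g.1 * N⁻¹) * N = g.1 by group] at this
    · exact fun h => TensorMax.toGLHom_mem_of_isTensor e P ((hNT.mul h).mul hNT.inv)
  refine gu_isMaximalIn hσ _ (fun g => ∃ g', D g' = g ∧ IsTensor g'.1) (fun g => ?_) ?_ fun M hM g hg hgT => ?_
  · obtain ⟨g', rfl⟩ := hsurj g
    refine ⟨fun h => ⟨g', rfl, (hmem g').1 h⟩, ?_⟩
    rintro ⟨g'', e, h⟩
    rw [← e]
    exact (hmem g'').2 h
  · obtain ⟨g, hg, hgT⟩ := exists_not_tensor hc h1 (by omega : 2 ≤ n₂)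
    refine ⟨D g, (hdet g).trans hg, ?_⟩
    rintro ⟨g', e, h⟩
    exact hgT ((hmem g).1 (e ▸ (hmem g').2 h))
  · obtain ⟨g', rfl⟩ := hsurj g
    have h := sIsom_le (M := M.comap D) hc (fun k hk hkT => hM _ ((hdet k).trans hk) ⟨k, rfl, hkT⟩) h1 h12 hb (fun e => hbig.resolve_right (by omega)) hbig
      (g₀ := g') hg fun h => hgT ⟨g', rfl, h⟩
    intro k hk
    obtain ⟨k', rfl⟩ := hsurj k
    exact h (MonoidHom.mem_ker.2 ((hdet k').symm.trans (MonoidHom.mem_ker.1 hk)))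

end CfsgLib.Classical.TensorMaxU
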