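import Cfsg.Agent.Lib.Classical.TensorMaxU.Centre
import Cfsg.Agent.Lib.Classical.TensorMaxU.Base

/-!
# From a slice mapped to a slice to the centre of a radical
-/

set_option autoImplicit false
set_option linter.unusedSectionVars false

namespace CfsgLib.Classical.TensorMaxU

open Matrix Module
open CfsgLib.Classical.TensorMax (IsTensor)

variable {F : Type*} [Field F] [Finite F] {σ : F →+* F} {a b : ℕ}

/-- Eichler transformations. -/
theorem exists_eichler (hc : IsConjugation σ) {n : ℕ} {r δ : Fin n → F} (hr : stdHerm σ n r r = 0)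
    (hrδ : stdHerm σ n r δ = 0) :
    ∃ (E : isomGroup (stdHerm σ n)) (η : F), idet (stdHerm σ n) E = 1 ∧
      ∀ x, E.1 x = x + stdHerm σ n δ x • r - stdHerm σ n r x • δ + (η * stdHerm σ n r x) • r := by
  classical
  have h := stdHerm_isHermitian hc n
  obtain ⟨η, hη⟩ := hc.exists_trace_eq (a := -stdHerm σ n δ δ) (by rw [map_neg, h.self_fixed])
  have hδr : stdHerm σ n δ r = 0 := h.isRefl _ _ hrδ
  set N : (Fin n → F) →ₗ[F] (Fin n → F) :=
    (stdHerm σ n δ).smulRight r - (stdHerm σ n r).smulRight δ + (η • stdHerm σ n r).smulRight r with hN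
  have hNx : ∀ x, N x = stdHerm σ n δ x • r - stdHerm σ n r x • δ + (η * stdHerm σ n r x) • r := fun x => by
    simp [hN]
  obtain ⟨E, hE⟩ := h.exists_of_preserving (stdHerm_sepRight n) (LinearMap.id + N) fun x y => by
    simp only [LinearMap.add_apply, LinearMap.id_apply, hNx, map_add, map_sub, map_smul, map_smulₛₗ,
      LinearMap.sub_apply, LinearMap.smul_apply, smul_eq_mul, hr, hrδ, hδr, map_mul, RingHom.id_apply, h.symm]
    linear_combination (stdHerm σ n x r * stdHerm σ n r y) * hη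
  refine ⟨E, η, ?_, fun x => by rw [hE, LinearMap.add_apply, LinearMap.id_apply, hNx]; abel⟩
  have hnil : IsNilpotent N := by
    refine ⟨3, LinearMap.ext fun x => ?_⟩
    rw [show N ^ 3 = N * (N * N) by rw [pow_succ, pow_two, mul_assoc]]
    simp only [Module.End.mul_apply, hNx, map_add, map_sub, map_smul, hr, hrδ, hδr]
    simp
  change LinearMap.det (E.1 : (Fin n → F) →ₗ[F] (Fin n → F)) = 1
  rw [show (E.1 : (Fin n → F) →ₗ[F] (Fin n → F)) = LinearMap.id + N from LinearMap.ext hE,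
    ← LinearMap.det_toMatrix', map_add, LinearMap.toMatrix'_id]
  exact TensorMax.det_one_add_of_isNilpotent (hnil.map LinearMap.toMatrixAlgEquiv')

/-- Vectors orthogonal to the orthogonal of a line lie on it. -/
theorem mem_span_of_perp (hc : IsConjugation σ) {n : ℕ} {c w : Fin n → F}
    (h : ∀ z, stdHerm σ n c z = 0 → stdHerm σ n z w = 0) : w ∈ F ∙ c := by
  have hh := stdHerm_isHermitian hc n
  rw [← hh.perp_perp_herm (stdHerm_sepRight n) (F ∙ c)]
  exact mem_perp.2 fun z hz => h z (mem_perp.1 hz c (Submodule.mem_span_singleton_self c))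

/-- An element of the radical of a slice either has a non-scalar commutator in the centre, or agrees with an
Eichler transformation of the second factor on the orthogonal of the slice. -/
theorem radical_dichotomy (hc : IsConjugation σ) (ha : 0 < a) {c : Fin b → F} (hc0 : c ≠ 0)
    (hcc : stdHerm σ b c c = 0) (k : isomGroup (bForm σ a b))
    (hfix : ∀ u, k.1 (vecMulVec u c) = vecMulVec u c)
    (hrad : ∀ X, co2 σ a c X = 0 → ∃ u, k.1 X - X = vecMulVec u c) :
    (∃ γ, stdHerm σ b c γ = 0 ∧ ∀ X, co2 σ a c X = 0 → k.1 X = X + sl2 a c (co2 σ a γ X)) ∨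
      ∃ (E : isomGroup (stdHerm σ b)) (S : (Fin a → F) →ₗ[F] (Fin a → F)), idet (stdHerm σ b) E = 1 ∧
        (¬ ∃ s : F, ∀ v, S v = s • v) ∧
        ∀ X, (k * rowHom σ a b E * k⁻¹ * (rowHom σ a b E)⁻¹).1 X = X + sl2 a c (S (co2 σ a c X)) := by
  classical
  have h₁ := stdHerm_isHermitian hc a
  have h₂ := stdHerm_isHermitian hc b
  obtain ⟨p, hpp, hcp, hpc⟩ := h₂.exists_pair (stdHerm_sepRight b) hc0 hcc
  set Ψ : Matrix (Fin a) (Fin b) F →ₗ[F] (Fin a → F) := co2 σ a p ∘ₗ (k.1.toLinearMap - LinearMap.id) with hΨ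
  have hΨX : ∀ X, co2 σ a c X = 0 → k.1 X = X + vecMulVec (Ψ X) c := fun X hX => by
    obtain ⟨u, hu⟩ := hrad X hX
    have : Ψ X = u := by
      show co2 σ a p (k.1 X - X) = u
      rw [hu, co2_vecMulVec, hpc, one_smul]
    rw [this, ← hu]; abel
  have hΨc : ∀ u, Ψ (vecMulVec u c) = 0 := fun u => by
    show co2 σ a p (k.1 (vecMulVec u c) - vecMulVec u c) = 0
    rw [hfix, sub_self, map_zero]
  have hkJ : ∀ X, co2 σ a c (k.1 X) = co2 σ a c X := fun X =>
    sub_eq_zero.1 (stdHerm_sepRight (σ := σ) a _ fun w => by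
      rw [map_sub, ← bForm_tens, ← bForm_tens]
      conv_lhs => arg 1; rw [← hfix w, k.2]
      rw [sub_self])
  have key : ∀ δ, stdHerm σ b c δ = 0 → ∃ (E : isomGroup (stdHerm σ b)) (S : (Fin a → F) →ₗ[F] (Fin a → F)),
      idet (stdHerm σ b) E = 1 ∧
      (∀ X, (k * rowHom σ a b E * k⁻¹ * (rowHom σ a b E)⁻¹).1 X = X + sl2 a c (S (co2 σ a c X))) ∧
      ∀ u' u, stdHerm σ a u' (S u) =
        stdHerm σ a (Ψ (vecMulVec u' δ)) u - stdHerm σ a u' (Ψ (vecMulVec u δ)) := by
    intro δ hcδ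
    obtain ⟨E, η, hEd, hE⟩ := exists_eichler hc hcc hcδ
    set G := rowHom σ a b E with hG
    have hGc : ∀ u, G.1 (vecMulVec u c) = vecMulVec u c := fun u => by
      rw [hG, rowHom_apply, rowMap_vecMulVec, hE, h₂.isRefl _ _ hcδ, hcc]; simp
    have hGX : ∀ X, co2 σ a c X = 0 → G.1 X = X + vecMulVec (co2 σ a δ X) c := fun X hX => by
      funext i
      have hi : stdHerm σ b c (X i) = 0 := congrFun hX i
      rw [hG, rowHom_apply, rowMap_row, hE, hi]
      show _ = X i + vecMulVec (co2 σ a δ X) c i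
      rw [vecMulVec_row, co2_apply]; simp
    set Z := k * G * k⁻¹ * G⁻¹ with hZ
    have hZk : ∀ X, Z.1 (G.1 (k.1 X)) = k.1 (G.1 X) := fun X => by
      rw [← mul_apply', ← mul_apply', ← mul_apply', hZ]
      congr 2
      group
    set f : (Fin a → F) →ₗ[F] Matrix (Fin a) (Fin b) F := (k.1.toLinearMap - LinearMap.id) ∘ₗ sl2 a p with hf
    set e : (Fin a → F) →ₗ[F] Matrix (Fin a) (Fin b) F := (G.1.toLinearMap - LinearMap.id) ∘ₗ sl2 a p with he
    refine ⟨E, Ψ ∘ₗ e - co2 σ a δ ∘ₗ f, hEd, ?_, ?_⟩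
    · -- the formula
      have hfixker : ∀ X, co2 σ a c X = 0 → Z.1 X = X := by
        intro X hX
        obtain ⟨Y, rfl⟩ : ∃ Y, G.1 (k.1 Y) = X := ⟨k.1.symm (G.1.symm X), by simp⟩
        have hY : co2 σ a c Y = 0 := by
          rw [← hkJ]
          have : ∀ X', co2 σ a c (G.1 X') = co2 σ a c X' := fun X' => sub_eq_zero.1
            (stdHerm_sepRight (σ := σ) a _ fun w => by
              rw [map_sub, ← bForm_tens, ← bForm_tens]
              conv_lhs => arg 1; rw [← hGc w, G.2]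
              rw [sub_self])
          rwa [this] at hX
        rw [hZk, hGX Y hY, map_add, hfix, hΨX Y hY, map_add, hGc, hGX Y hY]
        abel
      intro X
      have hq : ∀ u, Z.1 (vecMulVec u p) = vecMulVec u p + vecMulVec (Ψ (e u) - co2 σ a δ (f u)) c := by
        intro u
        have he' : G.1 (vecMulVec u p) = vecMulVec u p + e u := by simp [he]
        have hf' : k.1 (vecMulVec u p) = vecMulVec u p + f u := by simp [hf]
        have hfker : co2 σ a c (f u) = 0 := by simp [hf, hkJ]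
        have heker : co2 σ a c (e u) = 0 := by
          have : co2 σ a c (G.1 (vecMulVec u p)) = co2 σ a c (vecMulVec u p) :=
            sub_eq_zero.1 (stdHerm_sepRight (σ := σ) a _ fun w => by
              rw [map_sub, ← bForm_tens, ← bForm_tens]
              conv_lhs => arg 1; rw [← hGc w, G.2]
              rw [sub_self])
          rwa [he', map_add, add_eq_left] at this
        have h3 := hZk (vecMulVec u p)
        simp only [hf', map_add, he'] at h3
        simp only [hGX _ hfker, hΨX _ heker, map_add, hfixker _ heker, hfixker _ hfker,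
          hfixker _ (show co2 σ a c (vecMulVec (co2 σ a δ (f u)) c) = 0 by rw [co2_vecMulVec, hcc, zero_smul])] at h3
        rw [sub_vecMulVec]
        linear_combination (norm := module) h3
      have hdec : X = (X - vecMulVec (co2 σ a c X) p) + vecMulVec (co2 σ a c X) p := by abel
      conv_lhs => rw [hdec]
      rw [map_add, hfixker _ (by rw [map_sub, co2_vecMulVec, hcp, one_smul, sub_self]), hq]
      show _ = X + vecMulVec _ c
      simp only [LinearMap.sub_apply, LinearMap.comp_apply]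
      abel
    · -- the pairing
      intro u' u
      have he' : Ψ (e u) = -Ψ (vecMulVec u δ) := by
        have : e u = vecMulVec u (stdHerm σ b δ p • c - δ + η • c) := by
          simp only [he, LinearMap.comp_apply, LinearMap.sub_apply, LinearMap.id_apply, sl2_apply,
            LinearEquiv.coe_coe]
          rw [hG, rowHom_apply, rowMap_vecMulVec, ← vecMulVec_sub, hE, hcp, mul_one, one_smul]
          congr 1
          abel
        rw [this, vecMulVec_add, vecMulVec_sub, vecMulVec_smul, vecMulVec_smul, map_add, map_sub, map_smul,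
          map_smul, hΨc]
        simp
      have hδker : co2 σ a c (vecMulVec u' δ) = 0 := by rw [co2_vecMulVec, hcδ, zero_smul]
      have hinv : k.1 (vecMulVec u' δ - vecMulVec (Ψ (vecMulVec u' δ)) c) = vecMulVec u' δ := by
        rw [map_sub, hfix, hΨX _ hδker, add_sub_cancel_right]
      have hf' : stdHerm σ a u' (co2 σ a δ (f u)) = -stdHerm σ a (Ψ (vecMulVec u' δ)) u := by
        rw [← bForm_tens]
        simp only [hf, LinearMap.comp_apply, LinearMap.sub_apply, LinearMap.id_apply, sl2_apply,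
          LinearEquiv.coe_coe, map_sub]
        conv_lhs => arg 1; rw [← hinv, k.2]
        simp [bForm_tens_tens, hcp]
      show stdHerm σ a u' (Ψ (e u) - co2 σ a δ (f u)) = _
      rw [map_sub, he', map_neg, hf']
      ring
  by_cases hall : ∀ δ, stdHerm σ b c δ = 0 → ∃ φ : F, ∀ u, Ψ (vecMulVec u δ) = φ • u
  · left
    obtain ⟨u₁, hu₁⟩ : ∃ u₁ : Fin a → F, u₁ ≠ 0 :=
      ⟨Pi.single ⟨0, ha⟩ 1, by simp⟩
    obtain ⟨n₁, hn₁⟩ := h₁.exists_dual (stdHerm_sepRight a) hu₁
    have hn₁' : stdHerm σ a n₁ u₁ = 1 := by rw [← h₁.symm, hn₁, map_one]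
    obtain ⟨γ, hγ⟩ := h₂.exists_form_eq (stdHerm_sepRight b) (stdHerm σ a n₁ ∘ₗ Ψ ∘ₗ sl1 b u₁)
    refine ⟨γ, h₂.isRefl _ _ (by rw [hγ]; simp [hΨc]), fun X hX => ?_⟩
    rw [hΨX X hX]
    congr 1
    show vecMulVec (Ψ X) c = vecMulVec (co2 σ a γ X) c
    congr 1
    conv_lhs => rw [matrix_eq_sum X]
    rw [map_sum]
    funext i
    rw [Finset.sum_apply, co2_apply]
    have h3 : ∀ j, Ψ (vecMulVec (Pi.single j 1) (X j)) = stdHerm σ b γ (X j) • Pi.single j 1 := fun j => by
      obtain ⟨φ, hφ⟩ := hall (X j) (congrFun hX j)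
      rw [hγ, hφ]
      simp [hφ, hn₁']
    simp only [h3]
    rw [Finset.sum_eq_single i (fun j _ hj => by simp [hj]) (by simp)]
    simp
  · right
    push Not at hall
    obtain ⟨δ, hδ, hns⟩ := hall
    obtain ⟨x, hx⟩ := hc.exists_not_fixed
    obtain ⟨E₁, S₁, hE₁, hS₁, hp₁⟩ := key δ hδ
    obtain ⟨E₂, S₂, hE₂, hS₂, hp₂⟩ := key (x • δ) (by rw [map_smul, hδ, smul_zero])
    by_contra! hcon
    obtain ⟨s₁, hs₁⟩ : ∃ s : F, ∀ v, S₁ v = s • v := by
      by_contra hne
      obtain ⟨X, hX⟩ := hcon E₁ S₁ hE₁ (by push Not at hne; exact hne)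
      exact hX (hS₁ X)
    obtain ⟨s₂, hs₂⟩ : ∃ s : F, ∀ v, S₂ v = s • v := by
      by_contra hne
      obtain ⟨X, hX⟩ := hcon E₂ S₂ hE₂ (by push Not at hne; exact hne)
      exact hX (hS₂ X)
    have hne : σ x - x ≠ 0 := sub_ne_zero.2 hx
    obtain ⟨u, hu⟩ := hns ((s₂ - σ x * s₁) / (σ x - x))
    refine hu (sub_eq_zero.1 (stdHerm_sepRight (σ := σ) a _ fun u' => ?_))
    have e1 := hp₁ u' u
    have e2 := hp₂ u' u
    rw [hs₁, map_smul, smul_eq_mul] at e1
    rw [hs₂, map_smul, smul_eq_mul, vecMulVec_smul, vecMulVec_smul, map_smul Ψ, map_smul Ψ,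
      (stdHerm σ a).map_smulₛₗ, map_smul (stdHerm σ a u'), LinearMap.smul_apply, smul_eq_mul, smul_eq_mul] at e2
    rw [map_sub, map_smul, smul_eq_mul, sub_eq_zero, eq_comm, div_mul_eq_mul_div, div_eq_iff hne]
    linear_combination e2 - σ x * e1

variable {M : Subgroup (isomGroup (bForm σ a b))}

/-- Some conjugate of `M` by a tensor map has a non-scalar element in a centre. -/
theorem exists_centre (hc : IsConjugation σ) (hM : ContainsTensor M) (ha : 2 ≤ a) (hex : BigFixed σ ∨ 3 ≤ a)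
    (hb : 3 ≤ b) (hgood : Good M a) :
    ∃ t : isomGroup (bForm σ a b), IsTensor t.1 ∧ ∃ (c : Fin b → F) (S : (Fin a → F) →ₗ[F] (Fin a → F)),
      c ≠ 0 ∧ stdHerm σ b c c = 0 ∧ (¬ ∃ s : F, ∀ v, S v = s • v) ∧
      CentreEl (M.map (MulAut.conj t).toMonoidHom) c S := by
  classical
  have h₁ := stdHerm_isHermitian hc a
  have h₂ := stdHerm_isHermitian hc b
  obtain ⟨g, hg, hgT, W₀, b₀, c, hb0, hbb, hW, hsl⟩ := hgood
  have hWtop : W₀ = ⊤ := Submodule.eq_top_of_finrank_eq (by
    have := Submodule.finrank_le W₀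
    rw [finrank_fin_fun] at this ⊢
    omega)
  have hslice : ∀ u, ∃ u', g.1 (vecMulVec u b₀) = vecMulVec u' c := fun u => hsl u (hWtop ▸ Submodule.mem_top)
  have hc0 : c ≠ 0 := by
    intro e
    obtain ⟨u', hu'⟩ := hslice (Pi.single ⟨0, by omega⟩ 1)
    rw [e, TensorMax.vecMulVec_zero', LinearEquiv.map_eq_zero_iff, TensorMax.vecMulVec_eq_zero_iff'] at hu'
    rcases hu' with h | h
    · simpa using congrFun h ⟨0, by omega⟩
    · exact hb0 h
  obtain ⟨d, hd⟩ := h₂.exists_dual (stdHerm_sepRight b) hc0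
  have hd' : stdHerm σ b d c = 1 := by rw [← h₂.symm, hd, map_one]
  set A₀ : (Fin a → F) →ₗ[F] (Fin a → F) := co2 σ a d ∘ₗ g.1.toLinearMap ∘ₗ sl2 a b₀ with hA₀
  have hgA : ∀ u, g.1 (vecMulVec u b₀) = vecMulVec (A₀ u) c := fun u => by
    obtain ⟨u', hu'⟩ := hslice u
    have : A₀ u = u' := by
      show co2 σ a d (g.1 (vecMulVec u b₀)) = u'
      rw [hu', co2_vecMulVec, hd', one_smul]
    rw [this, hu']
  have hA₀i : Function.Injective A₀ := (injective_iff_map_eq_zero _).2 fun u hu => sl2_injective (a := a) hb0 (by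
    rw [map_zero]; exact g.1.map_eq_zero_iff.1 (show g.1 (vecMulVec u b₀) = 0 by rw [hgA, hu, zero_vecMulVec]))
  have hA₀s : Function.Surjective A₀ := LinearMap.injective_iff_surjective.1 hA₀i
  obtain ⟨u₁, hu₁, -⟩ := h₁.exists_iso (stdHerm_sepRight a) (by rw [finrank_fin_fun]; omega)
  obtain ⟨r₀, hr₀⟩ := h₁.exists_dual (stdHerm_sepRight a) (r := A₀ u₁) fun e => hu₁ (hA₀i (by rw [e, map_zero]))
  have hr₀' : stdHerm σ a r₀ (A₀ u₁) = 1 := by rw [← h₁.symm, hr₀, map_one]
  have hcc : stdHerm σ b c c = 0 := by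
    obtain ⟨u', hu'⟩ := hA₀s r₀
    have e := g.2 (vecMulVec u' b₀) (vecMulVec u₁ b₀)
    rwa [hgA, hgA, bForm_tens_tens, bForm_tens_tens, hu', hr₀', one_mul, hbb, mul_zero] at e
  have hperp : ∀ X, co2 σ a c X = 0 → co2 σ a b₀ (g.1.symm X) = 0 := fun X hX =>
    stdHerm_sepRight (σ := σ) a _ fun u => by
      rw [← bForm_tens, ← g.2, g.1.apply_symm_apply, hgA, bForm_tens, hX, map_zero]
  by_cases hall : ∃ (γ : Fin b → F) (E : isomGroup (stdHerm σ b)) (η : F), stdHerm σ b b₀ γ = 0 ∧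
      idet (stdHerm σ b) E = 1 ∧
      (∀ x, E.1 x = x + stdHerm σ b γ x • b₀ - stdHerm σ b b₀ x • γ + (η * stdHerm σ b b₀ x) • b₀) ∧
      ∃ (E' : isomGroup (stdHerm σ b)) (S : (Fin a → F) →ₗ[F] (Fin a → F)), idet (stdHerm σ b) E' = 1 ∧
        (¬ ∃ s : F, ∀ v, S v = s • v) ∧ ∀ X, (g * rowHom σ a b E * g⁻¹ * rowHom σ a b E' *
          (g * rowHom σ a b E * g⁻¹)⁻¹ * (rowHom σ a b E')⁻¹).1 X = X + sl2 a c (S (co2 σ a c X))
  · obtain ⟨γ, E, η, -, hEd, -, E', S, hE'd, hns, hS⟩ := hall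
    refine ⟨1, (isTensor_rowMap (LinearEquiv.refl F _)), c, S, hc0, hcc, hns,
      g * rowHom σ a b E * g⁻¹ * rowHom σ a b E' * (g * rowHom σ a b E * g⁻¹)⁻¹ * (rowHom σ a b E')⁻¹, ?_, hS⟩
    have hk : g * rowHom σ a b E * g⁻¹ ∈ M := M.mul_mem (M.mul_mem hg (hM.row hEd)) (M.inv_mem hg)
    refine ⟨_, M.mul_mem (M.mul_mem (M.mul_mem hk (hM.row hE'd)) (M.inv_mem hk)) (M.inv_mem (hM.row hE'd)), ?_⟩
    simp [MulAut.conj_apply]
  -- every such conjugate acts like a tensor map
  have hφ : ∀ γ, stdHerm σ b b₀ γ = 0 → ∃ φ, stdHerm σ b c φ = 0 ∧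
      ∀ Y, co2 σ a b₀ Y = 0 → co2 σ a φ (g.1 Y) = A₀ (co2 σ a γ Y) := by
    intro γ hγ
    obtain ⟨E, η, hEd, hE⟩ := exists_eichler hc hbb hγ
    set G := rowHom σ a b E with hG
    have hGb : ∀ u, G.1 (vecMulVec u b₀) = vecMulVec u b₀ := fun u => by
      rw [hG, rowHom_apply, rowMap_vecMulVec, hE, h₂.isRefl _ _ hγ, hbb]; simp
    have hGX : ∀ Y, co2 σ a b₀ Y = 0 → G.1 Y = Y + vecMulVec (co2 σ a γ Y) b₀ := fun Y hY => by
      funext i
      have hi : stdHerm σ b b₀ (Y i) = 0 := congrFun hY i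
      rw [hG, rowHom_apply, rowMap_row, hE, hi]
      show _ = Y i + vecMulVec (co2 σ a γ Y) b₀ i
      rw [vecMulVec_row, co2_apply]; simp
    have hfix : ∀ u, (g * G * g⁻¹).1 (vecMulVec u c) = vecMulVec u c := fun u => by
      obtain ⟨u', rfl⟩ := hA₀s u
      rw [mul_apply', mul_apply', ← hgA, inv_apply_apply', hGb, hgA]
    have hrad : ∀ X, co2 σ a c X = 0 → (g * G * g⁻¹).1 X = X + vecMulVec (A₀ (co2 σ a γ (g.1.symm X))) c :=
      fun X hX => by
        rw [mul_apply', mul_apply', inv_apply', hGX _ (hperp X hX), map_add, g.1.apply_symm_apply, hgA]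
    rcases radical_dichotomy hc (by omega) hc0 hcc (g * G * g⁻¹) hfix (fun X hX => ⟨_, by
      rw [hrad X hX, add_sub_cancel_left]⟩) with ⟨φ, hφc, hφ⟩ | ⟨E', S, hE'd, hns, hS⟩
    · refine ⟨φ, hφc, fun Y hY => sl2_injective (a := a) hc0 ?_⟩
      have hX : co2 σ a c (g.1 Y) = 0 := stdHerm_sepRight (σ := σ) a _ fun u => by
        obtain ⟨u', rfl⟩ := hA₀s u
        rw [← bForm_tens, ← hgA, g.2, bForm_tens, hY, map_zero]
      have e := (hφ _ hX).symm.trans (hrad _ hX)
      rw [g.1.symm_apply_apply] at e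
      exact add_left_cancel e
    · exact absurd ⟨γ, E, η, hγ, hEd, hE, E', S, hE'd, hns, hS⟩ hall
  -- an orthonormal basis of the complement of a hyperbolic pair
  obtain ⟨b₁, hb₁, hbb₁, hb₁b⟩ := h₂.exists_pair (stdHerm_sepRight b) hb0 hbb
  set W := perp (stdHerm σ b) (Submodule.span F {b₀, b₁}) with hWdef
  have hWnd : NondegOn (stdHerm σ b) W := nondegOn_perp (stdHerm_sepRight b) (h₂.nondegOn_hyp hbb hbb₁)
  have hWdim : finrank F W + 2 = b := by
    have e := (h₂.nondegOn_hyp hbb hbb₁).finrank_perp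
    rw [h₂.finrank_hyp hbb hbb₁, finrank_fin_fun] at e
    rw [hWdef]; omega
  obtain ⟨bas, hbas⟩ := (h₂.restrict W).exists_orthonormal (restrictForm_separatingRight hWnd)
  set γ : Fin (finrank F W) → (Fin b → F) := fun i => (bas i : Fin b → F) with hγdef
  have hγb : ∀ i, stdHerm σ b b₀ (γ i) = 0 := fun i => mem_perp_span.1 (bas i).2 b₀ (by simp)
  have hγb₁ : ∀ i, stdHerm σ b b₁ (γ i) = 0 := fun i => mem_perp_span.1 (bas i).2 b₁ (by simp)
  have hγγ : ∀ i j, stdHerm σ b (γ i) (γ j) = if i = j then 1 else 0 := fun i j => by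
    rw [← hbas i j, restrictForm_apply]
  choose φ hφc hφg using fun i => hφ (γ i) (hγb i)
  set ε : Fin (finrank F W) → (Fin b → F) := fun j => co1 σ b r₀ (g.1 (vecMulVec u₁ (γ j))) with hεdef
  have hgker : ∀ u j, co2 σ a c (g.1 (vecMulVec u (γ j))) = 0 := fun u j =>
    stdHerm_sepRight (σ := σ) a _ fun u' => by
      obtain ⟨u'', rfl⟩ := hA₀s u'
      rw [← bForm_tens, ← hgA, g.2, bForm_tens_tens, hγb, mul_zero]
  have hgφ : ∀ u i j, co2 σ a (φ i) (g.1 (vecMulVec u (γ j))) = (if i = j then (1 : F) else 0) • A₀ u :=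
    fun u i j => by
      rw [hφg i _ (by rw [co2_vecMulVec, hγb, zero_smul]), co2_vecMulVec, hγγ, map_smul]
  have hεc : ∀ j, stdHerm σ b c (ε j) = 0 := fun j => by
    rw [hεdef, ← bForm_tens', bForm_tens, hgker, map_zero]
  have hεφ : ∀ i j, stdHerm σ b (φ i) (ε j) = if i = j then 1 else 0 := fun i j => by
    rw [hεdef, ← bForm_tens', bForm_tens, hgφ, map_smul, hr₀', smul_eq_mul, mul_one]
  have hspan : LinearMap.ker (stdHerm σ b c) ≤ Submodule.span F (Set.range (fun o : Option (Fin (finrank F W)) =>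
      o.elim c φ)) := by
    have hli : LinearIndependent F (fun o : Option (Fin (finrank F W)) => o.elim c φ) := by
      rw [Fintype.linearIndependent_iff]
      intro t ht
      rw [Fintype.sum_option] at ht
      have hsome : ∀ j, t (some j) = 0 := fun j => σ.injective (by
        have e := congrArg (fun w => stdHerm σ b w (ε j)) ht
        simp only [map_add, map_sum, LinearMap.add_apply, LinearMap.sum_apply, map_smulₛₗ, LinearMap.smul_apply,
          Option.elim, hεc, hεφ, smul_eq_mul, mul_zero, zero_add, map_zero, LinearMap.zero_apply] at e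
        simpa using e)
      intro o
      rcases o with _ | j
      · simp [hsome] at ht
        exact ht.resolve_right hc0
      · exact hsome j
    have hle : Submodule.span F (Set.range (fun o : Option (Fin (finrank F W)) => o.elim c φ)) ≤
        LinearMap.ker (stdHerm σ b c) := Submodule.span_le.2 (by
      rintro _ ⟨o, rfl⟩
      rcases o with _ | j
      · exact hcc
      · exact hφc j)
    refine le_of_eq (Submodule.eq_of_le_of_finrank_le hle ?_).symm
    rw [finrank_span_eq_card hli, Fintype.card_option, Fintype.card_fin]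
    have h1 := (stdHerm σ b c).finrank_range_add_finrank_ker
    rw [finrank_fin_fun] at h1
    have h2 : 0 < finrank F (LinearMap.range (stdHerm σ b c)) := by
      rw [Nat.pos_iff_ne_zero, ne_eq, Submodule.finrank_eq_zero, LinearMap.range_eq_bot]
      intro e
      simp [e] at hd
    omega
  have hgY : ∀ u j, ∃ y, g.1 (vecMulVec u (γ j)) = vecMulVec (A₀ u) (ε j) + vecMulVec y c := by
    intro u j
    set Y := g.1 (vecMulVec u (γ j)) - vecMulVec (A₀ u) (ε j) with hY
    have hrow : ∀ i, Y i ∈ F ∙ c := fun i => by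
      refine mem_span_of_perp hc fun z hz => ?_
      have h3 : ∀ z' ∈ Submodule.span F (Set.range (fun o : Option (Fin (finrank F W)) => o.elim c φ)),
          stdHerm σ b z' (Y i) = 0 := fun z' hz' => by
        induction hz' using Submodule.span_induction with
        | mem z' hz' =>
          obtain ⟨o, rfl⟩ := hz'
          rcases o with _ | l
          · show co2 σ a c Y i = 0
            rw [hY, map_sub, hgker, co2_vecMulVec, hεc, zero_smul, sub_zero]; rfl
          · show co2 σ a (φ l) Y i = 0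
            rw [hY, map_sub, hgφ, co2_vecMulVec, hεφ, sub_self]; rfl
        | zero => simp
        | add x y _ _ hx hy => rw [map_add, LinearMap.add_apply, hx, hy, add_zero]
        | smul t x _ hx => rw [map_smulₛₗ, LinearMap.smul_apply, hx, smul_zero]
      exact h3 z (hspan hz)
    choose y hy using fun i => Submodule.mem_span_singleton.1 (hrow i)
    refine ⟨y, ?_⟩
    rw [show vecMulVec y c = Y from funext fun i => by rw [vecMulVec_row]; exact hy i, hY]
    abel
  -- the similitude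
  let j₀ : Fin (finrank F W) := ⟨0, by omega⟩
  have hgram : ∀ u u' i j, stdHerm σ a (A₀ u) (A₀ u') * stdHerm σ b (ε i) (ε j) =
      stdHerm σ a u u' * if i = j then 1 else 0 := fun u u' i j => by
    obtain ⟨y, hy⟩ := hgY u i
    obtain ⟨y', hy'⟩ := hgY u' j
    have e := g.2 (vecMulVec u (γ i)) (vecMulVec u' (γ j))
    rw [hy, hy', bForm_tens_tens, hγγ] at e
    simp only [map_add, LinearMap.add_apply, bForm_tens_tens, hcc, hεc, h₂.isRefl _ _ (hεc i), mul_zero,
      add_zero] at e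
    exact e
  set κ := stdHerm σ b (ε j₀) (ε j₀) with hκ
  obtain ⟨n₁, hn₁⟩ := h₁.exists_dual (stdHerm_sepRight a) hu₁
  have hκ0 : κ ≠ 0 := fun e => by
    have e' := hgram u₁ n₁ j₀ j₀
    rw [← hκ, e, hn₁, if_pos rfl] at e'
    simp at e'
  obtain ⟨r, hr⟩ := hc.exists_norm_eq (h₂.self_fixed (ε j₀))
  have hrκ : r * σ r = κ := hr
  have hr0 : r ≠ 0 := fun e => hκ0 (by rw [← hrκ, e, zero_mul])
  have hσr0 : σ r ≠ 0 := fun e => hr0 (by rw [← hc.invol r, e, map_zero])
  obtain ⟨A₁, hA₁⟩ := h₁.exists_of_preserving (stdHerm_sepRight a) (r • A₀) fun u u' => by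
    have e := hgram u u' j₀ j₀
    rw [← hκ, if_pos rfl, mul_one, ← hrκ] at e
    simp only [LinearMap.smul_apply, map_smul, map_smulₛₗ, smul_eq_mul, RingHom.id_apply]
    linear_combination e
  have hεε : ∀ i j, stdHerm σ b (r⁻¹ • ε i) (r⁻¹ • ε j) = if i = j then 1 else 0 := fun i j => by
    have e0 := hgram u₁ n₁ j₀ j₀
    have e := hgram u₁ n₁ i j
    rw [← hκ, hn₁, if_pos rfl, one_mul] at e0
    rw [hn₁, one_mul] at e
    simp only [map_smul, map_smulₛₗ, LinearMap.smul_apply, smul_eq_mul, map_inv₀, RingHom.id_apply]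
    rw [← e, eq_div_iff hκ0 |>.2 e0, ← hrκ]
    field_simp
  have hbγ : LinearIndependent F (fun o : Option (Fin (finrank F W)) => o.elim b₀ γ) := by
    rw [Fintype.linearIndependent_iff]
    intro t ht
    rw [Fintype.sum_option] at ht
    have hsome : ∀ j, t (some j) = 0 := fun j => by
      have e := congrArg (stdHerm σ b (γ j)) ht
      simpa [hγγ, h₂.isRefl _ _ (hγb j)] using e
    intro o
    rcases o with _ | j
    · simp [hsome] at ht
      exact ht.resolve_right hb0
    · exact hsome j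
  have hcε : LinearIndependent F (fun o : Option (Fin (finrank F W)) => o.elim (r⁻¹ • c) (fun i => r⁻¹ • ε i)) := by
    rw [Fintype.linearIndependent_iff]
    intro t ht
    rw [Fintype.sum_option] at ht
    have hsome : ∀ j, t (some j) = 0 := fun j => by
      have e := congrArg (stdHerm σ b (r⁻¹ • ε j)) ht
      simp only [map_add, map_sum, map_smul (stdHerm σ b (r⁻¹ • ε j)) (t _), Option.elim, hεε, smul_eq_mul,
        map_zero] at e
      have h0 : stdHerm σ b (r⁻¹ • ε j) (r⁻¹ • c) = 0 := by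
        simp [map_smulₛₗ, h₂.isRefl _ _ (hεc j)]
      rw [h0] at e
      simpa using e
    intro o
    rcases o with _ | j
    · simp [hsome] at ht
      exact (ht.resolve_right fun h => h.elim (fun h => hr0 h) hc0)
    · exact hsome j
  obtain ⟨C, hC⟩ := h₂.witt_family (stdHerm_sepRight b) hbγ hcε (fun o o' => by
    rcases o with _ | i <;> rcases o' with _ | j
    · simp [map_smulₛₗ, hbb, hcc]
    · simp [map_smulₛₗ, hγb, hεc]
    · simp [map_smulₛₗ, h₂.isRefl _ _ (hγb i), h₂.isRefl _ _ (hεc i)]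
    · show stdHerm σ b (γ i) (γ j) = stdHerm σ b (r⁻¹ • ε i) (r⁻¹ • ε j)
      rw [hγγ, hεε])
  set t := (colHom σ a b A₁)⁻¹ * (rowHom σ a b C)⁻¹ with ht
  have htT : IsTensor t.1 := (isTensor_colMap A₁.1).inv.mul (isTensor_rowMap C.1).inv
  have htpure : ∀ u w, t.1 (vecMulVec (A₁.1 u) (C.1 w)) = vecMulVec u w := fun u w => by
    rw [ht, ← map_inv, ← map_inv, mul_apply', rowHom_apply, rowMap_vecMulVec, inv_apply_apply', colHom_apply,
      colMap_vecMulVec, inv_apply_apply']
  have hrow : ∀ (u : Fin a → F) (w : Fin b → F), vecMulVec (A₀ u) w = vecMulVec (A₁.1 u) (r⁻¹ • w) := fun u w => by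
    rw [hA₁, LinearMap.smul_apply, smul_vecMulVec, vecMulVec_smul, smul_smul, mul_inv_cancel₀ hr0, one_smul]
  set q := t * g with hq
  have hqb : ∀ u, q.1 (vecMulVec u b₀) = vecMulVec u b₀ := fun u => by
    rw [hq, mul_apply', hgA, hrow]
    have e : C.1 b₀ = r⁻¹ • c := hC none
    rw [← e, htpure]
  have hqγ : ∀ u j, ∃ y, q.1 (vecMulVec u (γ j)) = vecMulVec u (γ j) + vecMulVec y b₀ := fun u j => by
    obtain ⟨y, hy⟩ := hgY u j
    obtain ⟨y', rfl⟩ := hA₀s y
    refine ⟨y', ?_⟩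
    rw [hq, mul_apply', hy, map_add, ← hgA y', ← mul_apply', ← hq, hqb, hrow]
    have e : C.1 (γ j) = r⁻¹ • ε j := hC (some j)
    rw [← e, htpure]
  have hqrad : ∀ X, co2 σ a b₀ X = 0 → ∃ u, q.1 X - X = vecMulVec u b₀ := by
    intro X hX
    have hdec : ∀ i, X i = stdHerm σ b b₁ (X i) • b₀ + ∑ j, stdHerm σ b (γ j) (X i) • γ j := fun i => by
      set w := X i - stdHerm σ b b₁ (X i) • b₀ with hw
      have hwW : w ∈ W := mem_perp_span.2 (by
        rintro v (rfl | rfl)
        · rw [hw, map_sub, map_smul, hbb, smul_zero, sub_zero]; exact congrFun hX i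
        · rw [hw, map_sub, map_smul, hb₁b, smul_eq_mul, mul_one, sub_self])
      have e := congrArg Subtype.val (bas.sum_repr ⟨w, hwW⟩)
      simp only [Submodule.coe_sum, Submodule.coe_smul] at e
      have hrepr : ∀ j, bas.repr ⟨w, hwW⟩ j = stdHerm σ b (γ j) (X i) := fun j => by
        have e2 : stdHerm σ b (γ j) (∑ l, bas.repr ⟨w, hwW⟩ l • γ l) = stdHerm σ b (γ j) w :=
          congrArg (stdHerm σ b (γ j)) e
        simp only [map_sum, map_smul, smul_eq_mul, hγγ, mul_ite, mul_one, mul_zero, Finset.sum_ite_eq,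
          Finset.mem_univ, if_true] at e2
        rw [e2, hw, map_sub, map_smul, h₂.isRefl _ _ (hγb j), smul_zero, sub_zero]
      simp only [hrepr] at e
      rw [hw] at e
      rw [← sub_eq_iff_eq_add', ← e]
    choose y hy using hqγ
    refine ⟨∑ i, ∑ j, stdHerm σ b (γ j) (X i) • y (Pi.single i 1) j, ?_⟩
    conv_lhs => rw [matrix_eq_sum X]
    rw [map_sum, ← Finset.sum_sub_distrib]
    rw [show vecMulVec (∑ i, ∑ j, stdHerm σ b (γ j) (X i) • y (Pi.single i 1) j) b₀ =
      sl2 a b₀ (∑ i, ∑ j, stdHerm σ b (γ j) (X i) • y (Pi.single i 1) j) from rfl]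
    simp only [map_sum, map_smul, sl2_apply]
    refine Finset.sum_congr rfl fun i _ => ?_
    have e : vecMulVec (Pi.single i (1 : F)) (X i) = stdHerm σ b b₁ (X i) • vecMulVec (Pi.single i 1) b₀ +
        ∑ j, stdHerm σ b (γ j) (X i) • vecMulVec (Pi.single i 1) (γ j) := by
      rw [← sl1_apply]
      conv_lhs => rw [hdec i]
      simp only [map_add, map_sum, map_smul, sl1_apply]
    rw [e]
    simp only [map_add, map_sum, map_smul, hqb, hy, smul_add, Finset.sum_add_distrib]
    abel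
  set M' := M.map (MulAut.conj t).toMonoidHom with hM'def
  have hM' : ContainsTensor M' := hM.map_conj htT
  have hqconj : ∀ x, idet (bForm σ a b) x = 1 → IsTensor x.1 → q * x * q⁻¹ ∈ M' := fun x hx hxT =>
    ⟨g * x * g⁻¹, M.mul_mem (M.mul_mem hg (hM x hx hxT)) (M.inv_mem hg), by
      simp [MulAut.conj_apply, hq, mul_assoc]⟩
  refine ⟨t, htT, ?_⟩
  rcases radical_dichotomy hc (by omega) hb0 hbb q hqb hqrad with ⟨γ₀, hγ₀, hq₀⟩ | ⟨E, S, hEd, hns, hS⟩
  swap
  · exact ⟨b₀, S, hb0, hbb, hns, q * rowHom σ a b E * q⁻¹ * (rowHom σ a b E)⁻¹, M'.mul_mem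
      (hqconj _ (by rw [idet_rowHom, hEd, one_pow]) (isTensor_rowMap E.1)) (M'.inv_mem (hM'.row hEd)), hS⟩
  -- remove the Eichler part
  obtain ⟨E, η, hEd, hE⟩ := exists_eichler hc hbb (show stdHerm σ b b₀ (-γ₀) = 0 by rw [map_neg, hγ₀, neg_zero])
  set G := rowHom σ a b E with hG
  set z := G * q with hz
  have hGb : ∀ u, G.1 (vecMulVec u b₀) = vecMulVec u b₀ := fun u => by
    rw [hG, rowHom_apply, rowMap_vecMulVec, hE, hbb, map_neg, LinearMap.neg_apply, h₂.isRefl _ _ hγ₀]; simp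
  have hzfix : ∀ X, co2 σ a b₀ X = 0 → z.1 X = X := by
    intro X hX
    rw [hz, mul_apply', hq₀ X hX, map_add, sl2_apply, hGb]
    funext i
    have hi : stdHerm σ b b₀ (X i) = 0 := congrFun hX i
    show rowMap E.1 X i + vecMulVec (co2 σ a γ₀ X) b₀ i = X i
    rw [rowMap_row, hE, hi, vecMulVec_row, co2_apply, map_neg, LinearMap.neg_apply]
    simp
  have hzD : ∀ u, ∃ y, z.1 (vecMulVec u b₁) = vecMulVec u b₁ + vecMulVec y b₀ := fun u => by
    set D := z.1 (vecMulVec u b₁) - vecMulVec u b₁ with hD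
    have hrow : ∀ i, D i ∈ F ∙ b₀ := fun i => mem_span_of_perp hc fun w hw => by
      show co2 σ a w D i = 0
      rw [show co2 σ a w D = 0 from stdHerm_sepRight (σ := σ) a _ fun u' => by
        rw [← bForm_tens, hD, map_sub]
        conv_lhs => arg 1; rw [← hzfix (vecMulVec u' w) (by rw [co2_vecMulVec, hw, zero_smul]), z.2]
        rw [sub_self]]
      rfl
    choose y hy using fun i => Submodule.mem_span_singleton.1 (hrow i)
    refine ⟨y, ?_⟩
    rw [show vecMulVec y b₀ = D from funext fun i => by rw [vecMulVec_row]; exact hy i, hD]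
    abel
  set S : (Fin a → F) →ₗ[F] (Fin a → F) := co2 σ a b₁ ∘ₗ (z.1.toLinearMap - LinearMap.id) ∘ₗ sl2 a b₁ with hSdef
  have hzX : ∀ X, z.1 X = X + sl2 a b₀ (S (co2 σ a b₀ X)) := by
    intro X
    obtain ⟨y, hy⟩ := hzD (co2 σ a b₀ X)
    have hSy : S (co2 σ a b₀ X) = y := by
      show co2 σ a b₁ (z.1 (vecMulVec _ b₁) - vecMulVec _ b₁) = y
      rw [hy, add_sub_cancel_left, co2_vecMulVec, hb₁b, one_smul]
    rw [hSy]
    have hdec : X = (X - vecMulVec (co2 σ a b₀ X) b₁) + vecMulVec (co2 σ a b₀ X) b₁ := by abel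
    conv_lhs => rw [hdec]
    rw [map_add, hzfix _ (by rw [map_sub, co2_vecMulVec, hbb₁, one_smul, sub_self]), hy, sl2_apply]
    abel
  have hns : ¬ ∃ s : F, ∀ v, S v = s • v := by
    rintro ⟨s, hs⟩
    apply hgT
    set C' : (Fin b → F) ≃ₗ[F] (Fin b → F) :=
      LinearEquiv.transvection (f := s • stdHerm σ b b₀) (v := b₀) (by simp [hbb]) with hC'
    have e : z.1 = rowMap C' := LinearEquiv.ext fun X => funext fun i => by
      rw [hzX, rowMap_row, hs, map_smul]
      show X i + s • vecMulVec (co2 σ a b₀ X) b₀ i = _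
      rw [vecMulVec_row, co2_apply, smul_smul]
      rfl
    have hzT : IsTensor z.1 := e ▸ isTensor_rowMap C'
    have e2 : g = (G * t)⁻¹ * z := by rw [hz, hq]; group
    rw [e2]
    exact ((isTensor_rowMap E.1).mul htT).inv.mul hzT
  obtain ⟨A, hA, hAns⟩ := exists_conj_nonscalar hc ha hex (skew_of_formula hc hb0 hbb hzX) hns
  refine ⟨b₀, S - (A.1 : (Fin a → F) →ₗ[F] (Fin a → F)) ∘ₗ S ∘ₗ ((A⁻¹).1 : (Fin a → F) →ₗ[F] (Fin a → F)), hb0, hbb,
    hAns, z * colHom σ a b A * z⁻¹ * (colHom σ a b A)⁻¹, M'.mul_mem ?_ (M'.inv_mem (hM'.col hA)), fun X => ?_⟩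
  · have e : z * colHom σ a b A * z⁻¹ = G * (q * colHom σ a b A * q⁻¹) * G⁻¹ := by rw [hz]; group
    rw [e]
    exact M'.mul_mem (M'.mul_mem (hM'.row hEd) (hqconj _ (by rw [idet_colHom, hA, one_pow])
      (isTensor_colMap A.1))) (M'.inv_mem (hM'.row hEd))
  · have hzi : ∀ Y, (z⁻¹).1 Y = Y - sl2 a b₀ (S (co2 σ a b₀ Y)) := fun Y => z.1.injective (by
      rw [apply_inv_apply', map_sub, hzX Y, sl2_apply, hzfix _ (by rw [co2_vecMulVec, hbb, zero_smul])]
      abel)
    have e : co2 σ a b₀ (((colHom σ a b A)⁻¹).1 X) = (A⁻¹).1 (co2 σ a b₀ X) := by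
      rw [← map_inv, colHom_apply, matrix_eq_sum X]
      simp only [map_sum, colMap_vecMulVec, co2_vecMulVec, map_smul]
    have eX : (colHom σ a b A).1 (((colHom σ a b A)⁻¹).1 X) = X := apply_inv_apply' _ X
    rw [mul_apply', mul_apply', mul_apply', hzi, e, map_sub, eX, colHom_apply, sl2_apply, colMap_vecMulVec, map_sub,
      hzX X, hzfix _ (by rw [co2_vecMulVec, hbb, zero_smul])]
    simp only [LinearMap.sub_apply, LinearMap.comp_apply, LinearEquiv.coe_coe, map_sub, sl2_apply]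
    abel

end CfsgLib.Classical.TensorMaxU
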