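import Cfsg.Agent.Lib.Classical.TensorMaxU.Climb

/-!
# The climb for two by three matrices

The orthogonal of an isotropic vector of a three-dimensional space has only one isotropic line, so the root
element is taken at the vector itself, and a word in the two root elements replaces their power.
-/

set_option autoImplicit false
set_option linter.unusedSectionVars false

namespace CfsgLib.Classical.TensorMaxU

open Matrix Module
open CfsgLib.Classical.TensorMax (IsTensor)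

variable {F : Type*} [Field F] [Finite F] {σ : F →+* F} {a b : ℕ}

/-- A word in two root elements which scales a vector. -/
theorem twist_word {V : Type*} [AddCommGroup V] [Module F V] {B : V →ₛₗ[σ] V →ₗ[F] F} (h τ₁ τ₂ : isomGroup B)
    {P Y : V} {t s : F} (hts : (2 + t) * (s + 1) = -(1 + t)) (hP : h.1 P = P + Y) (hY : h.1 Y = Y)
    (h1P : τ₁.1 P = P) (h1Y : τ₁.1 Y = Y + t • P) (h2P : τ₂.1 P = P) (h2Y : τ₂.1 Y = Y + s • P) :
    (h * τ₂ * h * τ₁ * h).1 P = (-(2 + t)) • P := by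
  simp only [mul_apply', hP, hY, h1P, h1Y, h2P, h2Y, map_add, map_smul, smul_add, smul_smul]
  match_scalars <;> first
    | linear_combination hts
    | linear_combination (0 : F) * hts

/-- The parameters of the word. -/
theorem twist_params (hc : IsConjugation σ) (hbig : BigFixed σ) :
    ∃ t s : F, σ t = t ∧ σ s = s ∧ (2 + t) * (s + 1) = -(1 + t) ∧ 2 + t ≠ 0 ∧
      (((2 : F) ≠ 0 ∧ 2 + t = 1) ∨ ((2 : F) = 0 ∧ (2 + t) * (2 + t) ≠ 1)) := by
  obtain ⟨l, hl, hl0, hl1⟩ := hbig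
  have key : ∀ t : F, σ t = t → 2 + t ≠ 0 →
      ∃ s, σ s = s ∧ (2 + t) * (s + 1) = -(1 + t) := fun t ht h0 =>
    ⟨-(1 + t) / (2 + t) - 1, by rw [map_sub, map_div₀, map_neg, map_add, map_add, map_one, map_ofNat, ht],
      by field_simp; ring⟩
  by_cases h2 : (2 : F) = 0
  · obtain ⟨s, hs, hts⟩ := key l hl (by rw [h2, zero_add]; exact hl0)
    refine ⟨l, s, hl, hs, hts, by rw [h2, zero_add]; exact hl0, Or.inr ⟨h2, fun e => hl1 ?_⟩⟩
    rw [h2, zero_add] at e
    have e' : (l - 1) * (l - 1) = 0 := by linear_combination e - (l - 1) * h2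
    exact sub_eq_zero.1 (by simpa using mul_self_eq_zero.1 e')
  · obtain ⟨s, hs, hts⟩ := key (-1) (by rw [map_neg, map_one]) (by norm_num)
    exact ⟨-1, s, by rw [map_neg, map_one], hs, hts, by norm_num, Or.inl ⟨h2, by norm_num⟩⟩

variable {M : Subgroup (isomGroup (bForm σ a b))}

/-- The step of the climb for two by three. -/
theorem step_two (hc : IsConjugation σ) (hM : ContainsTensor M) (ha : a = 2) (hb : b = 3) (hbig : BigFixed σ)
    (hgood : Good M 1) : Good M 2 := by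
  classical
  have hab : a < b := by omega
  have h₁ := stdHerm_isHermitian hc a
  have h₂ := stdHerm_isHermitian hc b
  obtain ⟨ν, hν0, hν⟩ := hc.exists_trace_zero
  obtain ⟨g₀, hg₀, hg₀T, W₀, b₀, c, hb0, hbb, hW₀, hslice⟩ := hgood
  obtain ⟨u, huW, hu0⟩ : ∃ u ∈ W₀, u ≠ 0 := Submodule.exists_mem_ne_zero_of_ne_bot fun h => by
    rw [h, finrank_bot] at hW₀; omega
  obtain ⟨u', hu'⟩ := hslice u huW
  have hc0 : c ≠ 0 := fun e => by
    rw [e, TensorMax.vecMulVec_zero', LinearEquiv.map_eq_zero_iff, TensorMax.vecMulVec_eq_zero_iff'] at hu'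
    exact hu'.elim hu0 hb0
  -- an element fixing a pure vector
  obtain ⟨v, hv0, hvv, hcv⟩ : ∃ v, v ≠ 0 ∧ stdHerm σ b v v = 0 ∧ stdHerm σ b c v = 0 := by
    by_cases hcc : stdHerm σ b c c = 0
    · exact ⟨c, hc0, hcc, hcc⟩
    · have hP := h₂.nondegOn_span_singleton hcc
      have h1 := hP.finrank_perp
      rw [finrank_span_singleton hc0, finrank_fin_fun] at h1
      obtain ⟨v, hv, hv0, hvv⟩ := h₂.exists_iso_mem (W := perp (stdHerm σ b) (Submodule.span F {c})) (by omega)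
      exact ⟨v, hv0, hvv, mem_perp_span.1 hv c rfl⟩
  obtain ⟨Cv, hCv⟩ := h₂.exists_uTv (stdHerm_sepRight b) hvv hν
  by_cases hg₁T : IsTensor (g₀⁻¹ * rowHom σ a b Cv * g₀).1
  · obtain ⟨c', hc'⟩ := slice_of_tensor hc hab (by omega) hv0 hν0 hCv hg₁T
    exact good_top (M.inv_mem hg₀) (not_isTensor_inv hg₀T) hv0 hvv hc' (by omega)
  set g := g₀⁻¹ * rowHom σ a b Cv * g₀ with hgdef
  have hg : g ∈ M := M.mul_mem (M.mul_mem (M.inv_mem hg₀) (hM.row (h₂.idet_uTv hCv))) hg₀
  have hgu : g.1 (vecMulVec u b₀) = vecMulVec u b₀ := by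
    rw [hgdef, root_elt_apply hCv, hu', co2_vecMulVec, h₂.isRefl _ _ hcv, zero_smul, zero_vecMulVec, map_zero,
      smul_zero, add_zero]
  -- the root element at `b₀`
  obtain ⟨C0, hC0⟩ := h₂.exists_uTv (stdHerm_sepRight b) hbb hν
  set h := g⁻¹ * rowHom σ a b C0 * g with hhdef
  have hh : h ∈ M := M.mul_mem (M.mul_mem (M.inv_mem hg) (hM.row (h₂.idet_uTv hC0))) hg
  by_cases hhT : IsTensor h.1
  · obtain ⟨c', hc'⟩ := slice_of_tensor hc hab (by omega) hb0 hν0 hC0 hhT
    exact good_top (M.inv_mem hg) (not_isTensor_inv hg₁T) hb0 hbb hc' (by omega)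
  set J := sl2 a b₀ with hJdef
  set J' := co2 σ a b₀ with hJ'def
  set R := g.1.symm.toLinearMap ∘ₗ sl2 a b₀ with hRdef
  set R' := co2 σ a b₀ ∘ₗ g.1.toLinearMap with hR'def
  have hP : RootPair J J' R R' := ⟨fun z => by simp [hJdef, hJ'def, hbb], fun z => by simp [hRdef, hR'def, hbb]⟩
  have hhX : ∀ X, h.1 X = X + ν • R (R' X) := fun X => root_elt_apply hC0 X
  have hRadj : ∀ Y z, bForm σ a b Y (R z) = stdHerm σ a (R' Y) z := fun Y z => bForm_conj_tens hc g b₀ Y z
  have hadj : ∀ x z, stdHerm σ a x (J' (R z)) = stdHerm σ a (R' (J x)) z := fun x z => by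
    rw [← hRadj, hJdef, sl2_apply, bForm_tens]
  have hRu : R u = J u := by
    show g.1.symm (vecMulVec u b₀) = vecMulVec u b₀
    conv_lhs => rw [← hgu]
    exact g.1.symm_apply_apply _
  set K : Submodule F (Fin a → F) := LinearMap.ker (R' ∘ₗ J) with hKdef
  have huK : u ∈ K := by
    show co2 σ a b₀ (g.1 (vecMulVec u b₀)) = 0
    rw [hgu, co2_vecMulVec, hbb, zero_smul]
  have hfixK : ∀ k ∈ K, h.1 (J k) = J k := fun k hk => by
    rw [hhX, show R' (J k) = 0 from hk, map_zero, smul_zero, add_zero]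
  by_cases hKtop : 2 ≤ finrank F K
  · exact ⟨h, hh, hhT, K, b₀, b₀, hb0, hbb, hKtop, fun w hw => ⟨w, hfixK w hw⟩⟩
  have hK : K = F ∙ u := by
    refine (Submodule.eq_of_le_of_finrank_le ((Submodule.span_singleton_le_iff_mem _ _).2 huK) ?_).symm
    rw [finrank_span_singleton hu0]; omega
  have hmax : ∀ {x : Fin a → F}, x ∉ K → F ∙ u ⊔ F ∙ x = ⊤ := fun {x} hx => by
    refine Submodule.eq_top_of_finrank_eq ?_
    have hlt : F ∙ u < F ∙ u ⊔ F ∙ x := lt_of_le_of_ne le_sup_left fun heq =>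
      hx (hK ▸ heq ▸ Submodule.mem_sup_right (Submodule.mem_span_singleton_self x))
    have h1 := Submodule.finrank_lt_finrank_of_lt hlt
    have h2 := Submodule.finrank_le (F ∙ u ⊔ F ∙ x)
    rw [finrank_span_singleton hu0] at h1
    rw [finrank_fin_fun] at h2 ⊢
    omega
  obtain ⟨μ, hμ0, hμ⟩ := hc.exists_trace_zero
  by_cases hdeg : ∃ x, x ∉ K ∧ J' (R (R' (J x))) ∈ K
  · -- a commutator
    obtain ⟨x, hx, hθx⟩ := hdeg
    obtain ⟨Cb, hCb⟩ := h₂.exists_uTv (stdHerm_sepRight b) hbb hμ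
    set τ := rowHom σ a b Cb with hτdef
    have hτX : ∀ X, τ.1 X = X + μ • J (J' X) := fun X => row_uTv_apply hCb X
    have hτJ : ∀ z, τ.1 (J z) = J z := fun z => by rw [hτX, hP.hJ, map_zero, smul_zero, add_zero]
    set Y := τ * h * τ⁻¹ * h⁻¹ with hYdef
    have hYM : Y ∈ M := M.mul_mem (M.mul_mem (M.mul_mem (hM.row (h₂.idet_uTv hCb)) hh)
      (M.inv_mem (hM.row (h₂.idet_uTv hCb)))) (M.inv_mem hh)
    have inv_eq : ∀ {g : isomGroup (bForm σ a b)} {z w}, g.1 w = z → (g⁻¹).1 z = w := fun e => by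
      rw [← e, inv_apply_apply']
    have hYK : ∀ l ∈ K, Y.1 (J l) = J l := fun l hl => by
      rw [hYdef, mul_apply', mul_apply', mul_apply', inv_eq (hfixK l hl), inv_eq (hτJ l), hfixK l hl, hτJ]
    set θx := J' (R (R' (J x))) with hθxdef
    have hYx : Y.1 (J x) = J (x + (μ * ν) • θx) := by
      have e1 : h.1 (J x - ν • R (R' (J x))) = J x := by
        rw [hhX, map_sub R', map_smul R', hP.hR, smul_zero, sub_zero, sub_add_cancel]
      have e2 : τ.1 (J x - ν • R (R' (J x)) + (μ * ν) • J θx) = J x - ν • R (R' (J x)) := by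
        rw [hτX]
        simp only [map_add, map_sub, map_smul, map_neg, hP.hJ, map_zero, smul_zero, add_zero, zero_sub, hθxdef,
          smul_neg, smul_smul, neg_smul]
        module
      have e3 : h.1 (J x - ν • R (R' (J x)) + (μ * ν) • J θx) = J x + (μ * ν) • J θx := by
        rw [map_add, e1, map_smul, hfixK θx hθx]
      rw [hYdef, mul_apply', mul_apply', mul_apply', inv_eq e1, inv_eq e2, e3, map_add, map_smul, hτJ, hτJ,
        map_add, map_smul]
    by_cases hYT : IsTensor Y.1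
    · have hT : IsTensor ((h⁻¹)⁻¹ * rowHom σ a b Cb⁻¹ * h⁻¹).1 := by
        rw [show (h⁻¹)⁻¹ * rowHom σ a b Cb⁻¹ * h⁻¹ = τ⁻¹ * Y by rw [map_inv, hYdef, hτdef]; group]
        exact (isTensor_rowMap Cb.1).inv.mul hYT
      have hCb' : IsUTv Cb⁻¹ b₀ (-μ) := by
        refine ⟨hbb, by rw [map_neg]; linear_combination -hμ, fun w => Cb.1.injective ?_⟩
        rw [apply_inv_apply', map_add, map_smul, hCb.2.2 w, hCb.2.2 b₀, hbb]
        simp only [mul_zero, zero_smul, add_zero]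
        module
      obtain ⟨c', hc'⟩ := slice_of_tensor hc hab (by omega) hb0 (neg_ne_zero.2 hμ0) hCb' hT
      rw [inv_inv] at hc'
      exact good_top hh hhT hb0 hbb hc' (by omega)
    refine ⟨Y, hYM, hYT, ⊤, b₀, b₀, hb0, hbb, by rw [finrank_top, finrank_fin_fun]; omega, fun w _ => ?_⟩
    obtain ⟨l, hl, w', hw', rfl⟩ := Submodule.mem_sup.1 ((hmax hx).symm ▸ Submodule.mem_top : w ∈ F ∙ u ⊔ F ∙ x)
    obtain ⟨t, rfl⟩ := Submodule.mem_span_singleton.1 hw'
    refine ⟨l + t • (x + (μ * ν) • θx), ?_⟩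
    show Y.1 (J (l + t • x)) = J (l + t • (x + (μ * ν) • θx))
    simp only [map_add, map_smul, hYK l (hK ▸ hl), hYx]
  push Not at hdeg
  -- now `u` is anisotropic
  have hperp : ∀ z, stdHerm σ a u (J' (R z)) = 0 := fun z => by
    rw [hadj, show R' (J u) = 0 from huK, map_zero, LinearMap.zero_apply]
  obtain ⟨x₀, hx₀⟩ : ∃ x, x ∉ K := by
    by_contra! hall
    rw [show K = ⊤ from top_unique fun x _ => hall x, finrank_top, finrank_fin_fun] at hKtop
    omega
  have hker : ∀ z, stdHerm σ a u z = 0 → ∀ {w}, w ≠ 0 → stdHerm σ a u w = 0 → z ∈ F ∙ w := by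
    intro z hz w hw0 hw
    have hne : LinearMap.ker (stdHerm σ a u) ≠ ⊤ := fun e => hu0 (stdHerm_sepRight (σ := σ) a _ fun y =>
      h₁.isRefl _ _ (e ▸ Submodule.mem_top : y ∈ LinearMap.ker (stdHerm σ a u)))
    have h1 := Submodule.finrank_lt hne
    rw [finrank_fin_fun] at h1
    have e : F ∙ w = LinearMap.ker (stdHerm σ a u) :=
      Submodule.eq_of_le_of_finrank_le ((Submodule.span_singleton_le_iff_mem _ _).2 hw)
        (by rw [finrank_span_singleton hw0]; omega)
    exact e ▸ hz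
  have huu : stdHerm σ a u u ≠ 0 := fun e =>
    hdeg x₀ hx₀ (hK ▸ hker _ (hperp _) hu0 e)
  set x := J' (R (R' (J x₀))) with hxdef
  have hux : stdHerm σ a u x = 0 := hperp _
  have hxu : stdHerm σ a x u = 0 := h₁.isRefl _ _ hux
  have hxK : x ∉ K := hdeg x₀ hx₀
  have hx0 : x ≠ 0 := fun e => hxK (by rw [e]; exact K.zero_mem)
  have hxx : stdHerm σ a x x ≠ 0 := fun e => hx0 (stdHerm_sepRight (σ := σ) a _ fun y => by
    obtain ⟨l, hl, w', hw', rfl⟩ := Submodule.mem_sup.1 ((hmax hxK).symm ▸ Submodule.mem_top : y ∈ F ∙ u ⊔ F ∙ x)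
    obtain ⟨p, rfl⟩ := Submodule.mem_span_singleton.1 hl
    obtain ⟨p', rfl⟩ := Submodule.mem_span_singleton.1 hw'
    simp [map_smulₛₗ, hux, e])
  obtain ⟨r, hr⟩ := Submodule.mem_span_singleton.1 (hker _ (hperp (R' (J x))) hx0 hux)
  have hr0 : r ≠ 0 := fun e => hdeg x hxK (by rw [← hr, e, zero_smul]; exact K.zero_mem)
  have hrfix : σ r = r := by
    have e := hadj x (R' (J x))
    rw [← hr, map_smul, smul_eq_mul] at e
    have e' := h₁.self_fixed (R' (J x))
    rw [← e, map_mul, h₁.self_fixed] at e'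
    exact mul_right_cancel₀ hxx e'
  set ρ := ν * r with hρ
  have hρ0 : ρ ≠ 0 := mul_ne_zero hν0 hr0
  have hσν : σ ν = -ν := eq_neg_of_add_eq_zero_right hν
  have hσρ : σ ρ = -ρ := by rw [hρ, map_mul, hσν, hrfix, neg_mul]
  obtain ⟨t, s, ht, hs, hts, ht2, hcases⟩ := twist_params hc hbig
  have htau : ∀ p : F, σ p = p → ∃ τ : isomGroup (bForm σ a b), τ ∈ M ∧
      (∀ X, τ.1 X = X + (p / ρ) • J (J' X)) := fun p hp => by
    obtain ⟨C, hC⟩ := h₂.exists_uTv (stdHerm_sepRight b) hbb (c := p / ρ) (by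
      rw [map_div₀, hp, hσρ, div_neg, add_neg_cancel])
    exact ⟨_, hM.row (h₂.idet_uTv hC), fun X => row_uTv_apply hC X⟩
  obtain ⟨τ₁, hτ₁, hτ₁X⟩ := htau t ht
  obtain ⟨τ₂, hτ₂, hτ₂X⟩ := htau s hs
  set k := h * τ₂ * h * τ₁ * h with hkdef
  have hkM : k ∈ M := M.mul_mem (M.mul_mem (M.mul_mem (M.mul_mem hh hτ₂) hh) hτ₁) hh
  have hku : k.1 (J u) = J u := by
    simp only [hkdef, mul_apply', hfixK u huK, hτ₁X, hτ₂X, hP.hJ, map_zero, smul_zero, add_zero]
  set Y := ν • R (R' (J x)) with hY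
  have hJY : ∀ p : F, (p / ρ) • J (J' Y) = p • J x := fun p => by
    rw [hY, map_smul, ← hr, smul_smul, map_smul, smul_smul]
    congr 1
    rw [hρ]; field_simp
  have hkx : k.1 (J x) = (-(2 + t)) • J x := twist_word h τ₁ τ₂ hts (hhX _)
    (by rw [hhX, map_smul R', hP.hR, smul_zero, map_zero, smul_zero, add_zero])
    (by rw [hτ₁X, hP.hJ, map_zero, smul_zero, add_zero]) (by rw [hτ₁X, hJY])
    (by rw [hτ₂X, hP.hJ, map_zero, smul_zero, add_zero]) (by rw [hτ₂X, hJY])
  by_cases hkT : IsTensor k.1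
  swap
  · refine ⟨k, hkM, hkT, ⊤, b₀, b₀, hb0, hbb, by rw [finrank_top, finrank_fin_fun]; omega, fun w _ => ?_⟩
    obtain ⟨l, hl, w', hw', rfl⟩ := Submodule.mem_sup.1 ((hmax hxK).symm ▸ Submodule.mem_top : w ∈ F ∙ u ⊔ F ∙ x)
    obtain ⟨p, rfl⟩ := Submodule.mem_span_singleton.1 hl
    obtain ⟨p', rfl⟩ := Submodule.mem_span_singleton.1 hw'
    refine ⟨p • u + (p' * -(2 + t)) • x, ?_⟩
    rw [← sl2_apply, ← sl2_apply, ← hJdef]
    simp only [map_add, map_smul, hku, hkx, smul_smul]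
  exfalso
  obtain ⟨A, C, hAi, hCi, hAC⟩ := tensor_pure hkT
  have hJz : ∀ z, J z = vecMulVec z b₀ := fun z => rfl
  obtain ⟨α, hα⟩ := Submodule.mem_span_singleton.1 (left_mem_span (u := A u) (u' := u) (by
    rw [← hAC, ← hJz, hku, hJz]) (fun e => hb0 (hCi (by rw [e, map_zero]))))
  have hα0 : α ≠ 0 := fun e => hu0 (hAi (by rw [← hα, e, zero_smul, map_zero]))
  have hk₁ : ∀ z w, k.1 (vecMulVec z w) = vecMulVec (α⁻¹ • A z) (α • C w) := fun z w => by
    rw [hAC, smul_vecMulVec, vecMulVec_smul, smul_smul, inv_mul_cancel₀ hα0, one_smul]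
  have hAu : α⁻¹ • A u = u := by rw [← hα, inv_smul_smul₀ hα0]
  have hCb : α • C b₀ = b₀ := sl1_injective hu0 (by
    have e := hk₁ u b₀
    rw [hAu, ← hJz, hku] at e
    exact e.symm)
  have hAx : α⁻¹ • A x = (-(2 + t)) • x := sl2_injective (a := a) hb0 (by
    have e := hk₁ x b₀
    rw [hCb, ← hJz, hkx, ← map_smul] at e
    exact e.symm)
  have hCiso : ∀ w w', stdHerm σ b (α • C w) (α • C w') = stdHerm σ b w w' := fun w w' => by
    have e := k.2 (vecMulVec u w) (vecMulVec u w')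
    rw [hk₁, hk₁, hAu, bForm_tens_tens, bForm_tens_tens] at e
    exact mul_left_cancel₀ huu e
  rcases hcases with ⟨h2, ht1⟩ | ⟨-, ht1⟩
  · -- the range of `k - 1` is too small
    set Q := R x with hQ
    set y := co1 σ b x Q with hy
    have hJRx : J' (R x) ∉ K := fun hm => by
      obtain ⟨ε, hε⟩ := Submodule.mem_span_singleton.1 (hker (R' (J x)) (by
        have e := bForm_tens (σ := σ) (b := b) u b₀ (g.1 (J x))
        rw [← hgu, g.2] at e
        rw [show stdHerm σ a u (R' (J x)) = bForm σ a b (vecMulVec u b₀) (J x) from e.symm, hJz, bForm_tens_tens,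
          hux, zero_mul]) hx0 hux)
      refine hdeg x hxK ?_
      rw [← hε, map_smul, map_smul]
      exact K.smul_mem _ hm
    have hyb : y ∉ F ∙ b₀ := fun hm => by
      obtain ⟨p, hp⟩ := Submodule.mem_span_singleton.1 hm
      obtain ⟨p', hp'⟩ := Submodule.mem_span_singleton.1 (hker _ (hperp x) hx0 hux)
      have e : stdHerm σ a x (J' Q) = stdHerm σ b b₀ y := (bForm_tens x b₀ Q).symm.trans (bForm_tens' x b₀ Q)
      rw [← hp, map_smul, hbb, smul_zero, hQ, ← hp', map_smul, smul_eq_mul, mul_eq_zero, or_iff_left hxx] at e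
      exact hJRx (by rw [← hp', e, zero_smul]; exact K.zero_mem)
    have hrange : ∀ X, ∃ (p : Fin a → F) (γ : F), k.1 X - X = J p + γ • Q := by
      intro X
      have hS : k.1 X - X ∈ LinearMap.range J ⊔ LinearMap.range R := by
        set S := LinearMap.range J ⊔ LinearMap.range R
        have mh : ∀ Z, h.1 Z - Z ∈ S := fun Z => by
          rw [hhX, add_sub_cancel_left]
          exact Submodule.mem_sup_right (Submodule.smul_mem _ _ (LinearMap.mem_range_self _ _))
        have m1 : ∀ Z, τ₁.1 Z - Z ∈ S := fun Z => by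
          rw [hτ₁X, add_sub_cancel_left]
          exact Submodule.mem_sup_left (Submodule.smul_mem _ _ (LinearMap.mem_range_self _ _))
        have m2 : ∀ Z, τ₂.1 Z - Z ∈ S := fun Z => by
          rw [hτ₂X, add_sub_cancel_left]
          exact Submodule.mem_sup_left (Submodule.smul_mem _ _ (LinearMap.mem_range_self _ _))
        have := add_mem (add_mem (add_mem (add_mem (mh (τ₂.1 (h.1 (τ₁.1 (h.1 X))))) (m2 (h.1 (τ₁.1 (h.1 X)))))
          (mh (τ₁.1 (h.1 X)))) (m1 (h.1 X))) (mh X)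
        simpa [hkdef, mul_apply'] using this
      obtain ⟨_, ⟨p, rfl⟩, _, ⟨z, rfl⟩, e⟩ := Submodule.mem_sup.1 hS
      obtain ⟨l, hl, w', hw', rfl⟩ := Submodule.mem_sup.1 ((hmax hxK).symm ▸ Submodule.mem_top : z ∈ F ∙ u ⊔ F ∙ x)
      obtain ⟨q₁, rfl⟩ := Submodule.mem_span_singleton.1 hl
      obtain ⟨q₂, rfl⟩ := Submodule.mem_span_singleton.1 hw'
      refine ⟨p + q₁ • u, q₂, ?_⟩
      rw [← e, map_add, map_add, map_smul, map_smul, map_smul, hRu, hQ]
      abel
    set S₀ := Submodule.span F ({b₀, y} : Set (Fin b → F))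
    have hb₀S : b₀ ∈ S₀ := Submodule.subset_span (by simp)
    have hyS : y ∈ S₀ := Submodule.subset_span (by simp)
    have hall : ∀ w, w ∈ S₀ := by
      intro w
      obtain ⟨p, γ, e⟩ := hrange (vecMulVec u w)
      obtain ⟨p', γ', e'⟩ := hrange (vecMulVec x w)
      rw [hk₁, hAu] at e
      rw [hk₁, hAx, ht1, neg_one_smul, neg_vecMulVec] at e'
      have e1 := congrArg (co1 σ b x) e
      rw [map_sub, map_add, map_smul, hJz, co1_vecMulVec, co1_vecMulVec, co1_vecMulVec, hxu, zero_smul, zero_smul,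
        sub_zero, ← hy] at e1
      have hγ : γ = 0 := by
        by_contra hγ
        refine hyb (Submodule.mem_span_singleton.2 ⟨-(stdHerm σ a x p / γ), ?_⟩)
        rw [neg_smul, div_eq_inv_mul, mul_smul, eq_neg_of_add_eq_zero_left e1.symm, smul_neg, inv_smul_smul₀ hγ,
          neg_neg]
      have e2 := congrArg (co1 σ b u) e
      rw [hγ, zero_smul, add_zero, map_sub, hJz, co1_vecMulVec, co1_vecMulVec, co1_vecMulVec] at e2
      have e3 := congrArg (co1 σ b x) e'
      rw [map_sub, map_neg, map_add, map_smul, hJz, co1_vecMulVec, co1_vecMulVec, co1_vecMulVec, ← hy] at e3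
      have m₁ : α • C w - w ∈ S₀ := by
        rw [← smul_sub] at e2
        rw [show α • C w - w = (stdHerm σ a u u)⁻¹ • (stdHerm σ a u p • b₀) by rw [← e2, inv_smul_smul₀ huu]]
        exact S₀.smul_mem _ (S₀.smul_mem _ hb₀S)
      have m₂ : α • C w + w ∈ S₀ := by
        rw [show α • C w + w = -((stdHerm σ a x x)⁻¹ • (stdHerm σ a x p' • b₀ + γ' • y)) by
          rw [← e3]
          rw [show -(stdHerm σ a x x • α • C w) - stdHerm σ a x x • w = stdHerm σ a x x • (-(α • C w + w)) by module,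
            inv_smul_smul₀ hxx, neg_neg]]
        exact S₀.neg_mem (S₀.smul_mem _ (add_mem (S₀.smul_mem _ hb₀S) (S₀.smul_mem _ hyS)))
      have := S₀.smul_mem ((2 : F)⁻¹) (sub_mem m₂ m₁)
      rwa [show α • C w + w - (α • C w - w) = (2 : F) • w by rw [two_smul]; abel, inv_smul_smul₀ h2] at this
    have h1 : finrank F S₀ ≤ 2 := by
      refine (finrank_span_le_card (R := F) ({b₀, y} : Set (Fin b → F))).trans ?_
      simp only [Set.toFinset_insert, Set.toFinset_singleton]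
      exact Finset.card_insert_le _ _
    rw [show S₀ = ⊤ from top_unique fun w _ => hall w, finrank_top, finrank_fin_fun] at h1
    omega
  · -- the scalar has norm one
    obtain ⟨d, -, hdd⟩ := h₂.exists_unit_in (h₂.nondegOn_top (stdHerm_sepRight b))
      (by rw [finrank_top, finrank_fin_fun]; omega) (map_one σ)
    have e := k.2 (vecMulVec x d) (vecMulVec x d)
    rw [hk₁, bForm_tens_tens, bForm_tens_tens, hCiso, hdd, mul_one, mul_one, hAx, h₁.smul_self,
      map_neg, map_add, map_ofNat, ht] at e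
    exact ht1 (mul_right_cancel₀ hxx (by linear_combination e))

/-- The case of the first step in which the power of the product is a tensor map, for three columns. -/
theorem base_two (hc : IsConjugation σ) (hM : ContainsTensor M) (hb : b = 3) (hbig : BigFixed σ)
    {u n : Fin a → F} (hu0 : u ≠ 0) (huu : stdHerm σ a u u = 0) (hun : stdHerm σ a u n = 1)
    {R : (Fin a → F) →ₗ[F] Matrix (Fin a) (Fin b) F} {R' : Matrix (Fin a) (Fin b) F →ₗ[F] (Fin a → F)}
    (hP : RootPair (sl1 b u) (co1 σ b u) R R')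
    (hadj : ∀ w z, stdHerm σ b w (co1 σ b u (R z)) = stdHerm σ a (R' (sl1 b u w)) z)
    {h y : isomGroup (bForm σ a b)} {ν : F} (hν0 : ν ≠ 0) (hν : ν + σ ν = 0)
    (hh : h ∈ M) (hhT : ¬ IsTensor h.1) (hhX : ∀ X, h.1 X = X + ν • R (R' X))
    {A₁ : (Fin a → F) →ₗ[F] (Fin a → F)} {C₁ : (Fin b → F) →ₗ[F] (Fin b → F)} {β : F} (hβ : β ≠ 0)
    (hy₁ : ∀ z w, y.1 (vecMulVec z w) = vecMulVec (A₁ z) (C₁ w))
    (hA₁ : ∀ z, A₁ z = z + stdHerm σ a u z • (β • u))
    (hJ'y : ∀ X, co1 σ b u (y.1 X) = C₁ (co1 σ b u X)) (hyh : Commute y h)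
    (hC₁iso : ∀ w w', stdHerm σ b (C₁ w) (C₁ w') = stdHerm σ b w w')
    {d x : Fin b → F} (hdd : stdHerm σ b d d ≠ 0) (hC₁d : C₁ d = d) (hC₁x : C₁ x = x)
    (hL : ∀ w, R' (sl1 b u w) = 0 ↔ w ∈ F ∙ d) (hx : x ∉ F ∙ d)
    (hθ : ∀ w, R' (sl1 b u (co1 σ b u (R (R' (sl1 b u w))))) = 0 → R' (sl1 b u w) = 0)
    (hθN : ∀ w, C₁ w = w → co1 σ b u (R (R' (sl1 b u w))) ∈ LinearMap.range (C₁ - LinearMap.id)) : Good M 1 := by
  classical
  have h₁ := stdHerm_isHermitian hc a
  have h₂ := stdHerm_isHermitian hc b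
  set J := sl1 b u with hJdef
  set J' := co1 σ b u with hJ'def
  set N := C₁ - LinearMap.id with hN
  have hN0 : ∀ {w}, C₁ w = w → N w = 0 := fun e => by rw [hN, LinearMap.sub_apply, LinearMap.id_apply, e, sub_self]
  have hC : ∀ w, C₁ w = w + N w := fun w => by rw [hN, LinearMap.sub_apply, LinearMap.id_apply]; abel
  have hd0 : d ≠ 0 := fun e => hdd (by simp [e])
  have hA₁u : A₁ u = u := by rw [hA₁, huu, zero_smul, add_zero]
  have hyJ : ∀ w, y.1 (J w) = J (C₁ w) := fun w => by rw [hJdef, sl1_apply, sl1_apply, hy₁, hA₁u]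
  set θ : (Fin b → F) →ₗ[F] (Fin b → F) := J' ∘ₗ R ∘ₗ R' ∘ₗ J with hθdef
  have hθw : ∀ w, θ w = J' (R (R' (J w))) := fun w => rfl
  have hθC : ∀ w, θ (C₁ w) = C₁ (θ w) := fun w => by
    have e : h.1 (y.1 (J w)) = y.1 (h.1 (J w)) := by rw [← mul_apply', ← mul_apply', hyh.eq]
    rw [hyJ] at e
    have e' := congrArg J' e
    rw [hhX, hJ'y, hhX] at e'
    simp only [map_add, map_smul, hP.hJ, zero_add] at e'
    exact smul_right_injective _ hν0 e'
  -- the range of `N` is an isotropic line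
  set p := θ x with hp
  have hx' : R' (J x) ≠ 0 := fun e => hx ((hL x).1 e)
  have hpL : R' (J p) ≠ 0 := fun e => hx' (hθ x e)
  have hp0 : p ≠ 0 := fun e => hpL (by rw [e, map_zero, map_zero])
  have hCp : C₁ p = p := by rw [hp, ← hθC, hC₁x]
  have hNp : N p = 0 := hN0 hCp
  have hker : 2 ≤ finrank F (LinearMap.ker N) := by
    have hli : LinearIndependent F ![d, x] := (LinearIndependent.pair_iff' hd0).2 fun t ht =>
      hx (Submodule.mem_span_singleton.2 ⟨t, ht⟩)
    have hle : Submodule.span F (Set.range ![d, x]) ≤ LinearMap.ker N := Submodule.span_le.2 (by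
      rintro _ ⟨i, rfl⟩
      fin_cases i
      · exact hN0 hC₁d
      · exact hN0 hC₁x)
    have h1 := Submodule.finrank_mono hle
    rwa [finrank_span_eq_card hli, Fintype.card_fin] at h1
  have hrange : LinearMap.range N = F ∙ p := by
    refine (Submodule.eq_of_le_of_finrank_le ((Submodule.span_singleton_le_iff_mem _ _).2
      (show p ∈ LinearMap.range N from hθN x hC₁x)) ?_).symm
    have h1 := N.finrank_range_add_finrank_ker
    rw [finrank_fin_fun] at h1
    rw [finrank_span_singleton hp0]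
    omega
  obtain ⟨w₀, hw₀⟩ := LinearMap.mem_range.1 (hθN x hC₁x)
  replace hw₀ : N w₀ = p := hw₀
  have hperp : ∀ w, C₁ w = w → stdHerm σ b p w = 0 := fun w hw => h₂.isRefl _ _ (by
    rw [← hw₀, hN, LinearMap.sub_apply, LinearMap.id_apply, map_sub]
    conv_lhs => arg 1; rw [← hw, hC₁iso]
    rw [sub_self])
  have hcoef : ∀ w c, N w = c • p → stdHerm σ b p w = c * stdHerm σ b p w₀ := fun w c e => by
    have := hperp (w - c • w₀) (by rw [hC, map_sub, map_smul, hw₀, e, sub_self, add_zero])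
    rwa [map_sub, map_smul, smul_eq_mul, sub_eq_zero] at this
  have hpw₀ : stdHerm σ b p w₀ ≠ 0 := fun e => hp0 (stdHerm_sepRight (σ := σ) b _ fun w => h₂.isRefl _ _ (by
    obtain ⟨c, hc'⟩ := Submodule.mem_span_singleton.1 (hrange ▸ LinearMap.mem_range_self N w : N w ∈ F ∙ p)
    rw [hcoef w c hc'.symm, e, mul_zero]))
  have hpp : stdHerm σ b p p = 0 := hperp p hCp
  obtain ⟨r, hr⟩ := Submodule.mem_span_singleton.1 (hrange ▸ hθN p hCp : θ p ∈ F ∙ p)
  have hr0 : r ≠ 0 := fun e => hpL (hθ p (by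
    show R' (J (θ p)) = 0
    rw [← hr, e, zero_smul, map_zero, map_zero]))
  by_cases h2 : (2 : F) ≠ 0
  · -- the square of `y - 1`
    exfalso
    have hNN : ∀ w, N (N w) = 0 := fun w => by
      obtain ⟨c, hc'⟩ := Submodule.mem_span_singleton.1 (hrange ▸ LinearMap.mem_range_self N w : N w ∈ F ∙ p)
      rw [← hc', map_smul, hNp, smul_zero]
    have hsq : ∀ z w, y.1 (y.1 (vecMulVec z w)) - (2 : F) • y.1 (vecMulVec z w) + vecMulVec z w =
        (2 * stdHerm σ a u z * β) • J (N w) := fun z w => by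
      have eC : C₁ (C₁ w) = w + (2 : F) • N w := by
        rw [hC (C₁ w), hC w, map_add, hNN, two_smul]; abel
      have eA : A₁ (A₁ z) = z + (2 * stdHerm σ a u z * β) • u := by
        rw [hA₁ (A₁ z), hA₁ z, map_add, map_smul, map_smul, huu, smul_zero, smul_zero, add_zero]
        module
      rw [hy₁, hy₁, eC, eA, hC w, hA₁ z, hJdef, sl1_apply]
      simp only [add_vecMulVec, vecMulVec_add, smul_vecMulVec, vecMulVec_smul]
      module
    have hsqall : ∀ X, ∃ c : F, y.1 (y.1 X) - (2 : F) • y.1 X + X = c • J p := fun X => by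
      choose c hc' using fun i => Submodule.mem_span_singleton.1
        (hrange ▸ LinearMap.mem_range_self N (X i) : N (X i) ∈ F ∙ p)
      refine ⟨∑ i, 2 * stdHerm σ a u (Pi.single i 1) * β * c i, ?_⟩
      rw [matrix_eq_sum X]
      simp only [map_sum, Finset.smul_sum, Finset.sum_smul, ← Finset.sum_sub_distrib, ← Finset.sum_add_distrib]
      refine Finset.sum_congr rfl fun i _ => ?_
      rw [hsq, ← hc' i, map_smul, smul_smul]
    have e0 := congrArg (fun X => h.1 X) (hsq n w₀)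
    rw [hun, hw₀] at e0
    simp only [map_add, map_sub, map_smul, mul_one] at e0
    have hyh' : ∀ X, h.1 (y.1 X) = y.1 (h.1 X) := fun X => by rw [← mul_apply', ← mul_apply', hyh.eq]
    rw [hyh', hyh'] at e0
    obtain ⟨c, hc'⟩ := hsqall (h.1 (vecMulVec n w₀))
    rw [hc', hhX] at e0
    have e1 := congrArg R' e0
    simp only [map_add, map_smul, hP.hR, smul_zero, add_zero] at e1
    have hc2 : c = 2 * β := by
      by_contra hne
      exact hpL ((smul_eq_zero.1 (by rw [sub_smul, e1, sub_self] : (c - 2 * β) • R' (J p) = 0)).resolve_left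
        (sub_ne_zero.2 hne))
    have e2 := congrArg J' e0
    simp only [map_add, map_smul, hP.hJ, smul_zero, zero_add, ← hθw, ← hr, smul_smul] at e2
    exact hp0 ((smul_eq_zero.1 e2.symm).resolve_left (by simp [h2, hβ, hν0, hr0]))
  -- in characteristic two a word scales `p`
  have hθN' : ∀ w, N (θ w) = θ (N w) := fun w => by
    rw [hN, LinearMap.sub_apply, LinearMap.sub_apply, LinearMap.id_apply, LinearMap.id_apply, map_sub, hθC]
  have hrfix : σ r = r := by
    have e1 : stdHerm σ b p (θ w₀) = r * stdHerm σ b p w₀ :=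
      hcoef _ r (by rw [hθN', hw₀, hr])
    have e2 : stdHerm σ b p (θ w₀) = σ r * stdHerm σ b p w₀ := by
      rw [hθw, hadj, ← h₁.symm, ← hadj, ← hθw, ← hr, map_smul, smul_eq_mul, map_mul, h₂.symm]
    exact mul_right_cancel₀ hpw₀ (e2.symm.trans e1)
  set ρ := ν * r with hρ
  have hρ0 : ρ ≠ 0 := mul_ne_zero hν0 hr0
  have hσρ : σ ρ = -ρ := by rw [hρ, map_mul, eq_neg_of_add_eq_zero_right hν, hrfix, neg_mul]
  obtain ⟨t, s, ht, hs, hts, ht2, hcases⟩ := twist_params hc hbig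
  have ht1 : (2 + t) * (2 + t) ≠ 1 := hcases.elim (fun e => absurd e.1 h2) And.right
  have htau : ∀ q : F, σ q = q → ∃ τ : isomGroup (bForm σ a b), τ ∈ M ∧ Commute y τ ∧
      (∀ X, τ.1 X = X + (q / ρ) • J (J' X)) := fun q hq => by
    obtain ⟨A, hA⟩ := h₁.exists_uTv (stdHerm_sepRight a) huu (c := q / ρ) (by
      rw [map_div₀, hq, hσρ, div_neg, add_neg_cancel])
    have hX : ∀ X, (colHom σ a b A).1 X = X + (q / ρ) • J (J' X) := fun X => col_uTv_apply hA X
    refine ⟨_, hM.col (h₁.idet_uTv hA), Subtype.ext (LinearEquiv.ext fun X => ?_), hX⟩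
    rw [mul_apply', mul_apply', hX, hX, map_add, map_smul, hyJ, hJ'y]
  obtain ⟨τ₁, hτ₁, hyτ₁, hτ₁X⟩ := htau t ht
  obtain ⟨τ₂, hτ₂, hyτ₂, hτ₂X⟩ := htau s hs
  set k := h * τ₂ * h * τ₁ * h with hkdef
  have hkM : k ∈ M := M.mul_mem (M.mul_mem (M.mul_mem (M.mul_mem hh hτ₂) hh) hτ₁) hh
  have hyk : Commute y k := (((hyh.mul_right hyτ₂).mul_right hyh).mul_right hyτ₁).mul_right hyh
  have hJd : R' (J d) = 0 := (hL d).2 (Submodule.mem_span_singleton_self d)
  have hkd : k.1 (J d) = J d := by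
    simp only [hkdef, mul_apply', hhX, hτ₁X, hτ₂X, hP.hJ, hJd, map_zero, smul_zero, add_zero]
  set Y := ν • R (R' (J p)) with hY
  have hJY : ∀ q : F, (q / ρ) • J (J' Y) = q • J p := fun q => by
    rw [hY, map_smul, ← hθw, ← hr, smul_smul, map_smul, smul_smul]
    congr 1
    rw [hρ]; field_simp
  have hkp : k.1 (J p) = (-(2 + t)) • J p := twist_word h τ₁ τ₂ hts (hhX _)
    (by rw [hhX, map_smul R', hP.hR, smul_zero, map_zero, smul_zero, add_zero])
    (by rw [hτ₁X, hP.hJ, map_zero, smul_zero, add_zero]) (by rw [hτ₁X, hJY])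
    (by rw [hτ₂X, hP.hJ, map_zero, smul_zero, add_zero]) (by rw [hτ₂X, hJY])
  by_cases hkT : IsTensor k.1
  swap
  · refine ⟨k, hkM, hkT, F ∙ u, p, (-(2 + t)) • p, hp0, hpp, by rw [finrank_span_singleton hu0], fun w hw => ?_⟩
    obtain ⟨q, rfl⟩ := Submodule.mem_span_singleton.1 hw
    refine ⟨q • u, ?_⟩
    rw [smul_vecMulVec, map_smul, smul_vecMulVec, ← sl1_apply, ← sl1_apply, ← hJdef, hkp, map_smul]
  exfalso
  obtain ⟨A, C, hAi, hCi, hAC⟩ := tensor_pure hkT
  have hJz : ∀ z, J z = vecMulVec u z := fun z => rfl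
  obtain ⟨α, hα⟩ := Submodule.mem_span_singleton.1 (left_mem_span (u := A u) (u' := u) (by
    rw [← hAC, ← hJz, hkd, hJz]) (fun e => hd0 (hCi (by rw [e, map_zero]))))
  have hα0 : α ≠ 0 := fun e => hu0 (hAi (by rw [← hα, e, zero_smul, map_zero]))
  have hkJ : ∀ w, k.1 (J w) = J (α • C w) := fun w => by
    rw [hJz, hAC, ← hα, hJz, smul_vecMulVec, vecMulVec_smul]
  have hCd : α • C d = d := sl1_injective hu0 (by rw [← hJdef, ← hkJ, hkd])
  have hCp' : α • C p = (-(2 + t)) • p := sl1_injective hu0 (by rw [← hJdef, ← hkJ, hkp, map_smul])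
  have hCC : ∀ w, α • C (C₁ w) = C₁ (α • C w) := fun w => sl1_injective hu0 (by
    rw [← hJdef, ← hkJ, ← hyJ, ← hyJ, ← hkJ, ← mul_apply', ← mul_apply', hyk.eq])
  have hiso : ∀ w w', stdHerm σ b (α • C w) (α • C w') = stdHerm σ b w w' := by
    have e0 : ∀ w w', stdHerm σ a u (α⁻¹ • A n) * stdHerm σ b (α • C w) (α • C w') = stdHerm σ b w w' := fun w w' => by
      have e := k.2 (vecMulVec u w) (vecMulVec n w')
      rw [bForm_tens_tens, hun, one_mul, ← hJz, hkJ, hJz, hAC,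
        show vecMulVec (A n) (C w') = vecMulVec (α⁻¹ • A n) (α • C w') by
          rw [smul_vecMulVec, vecMulVec_smul, smul_smul, inv_mul_cancel₀ hα0, one_smul],
        bForm_tens_tens] at e
      exact e
    intro w w'
    have e := e0 d d
    rw [hCd] at e
    have e' := e0 w w'
    rwa [show stdHerm σ a u (α⁻¹ • A n) = 1 from mul_right_cancel₀ hdd (e.trans (one_mul _).symm), one_mul] at e'
  have e3 := hiso p w₀
  rw [hCp', LinearMap.map_smulₛₗ (stdHerm σ b) (-(2 + t)) p, LinearMap.smul_apply, smul_eq_mul, hcoef (α • C w₀) (-(2 + t)) (by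
    rw [hN, LinearMap.sub_apply, LinearMap.id_apply, ← hCC, hC w₀, hw₀, map_add, smul_add, hCp', add_sub_cancel_left]),
    map_neg, map_add, map_ofNat, ht, ← mul_assoc, neg_mul_neg] at e3
  exact ht1 (mul_right_cancel₀ hpw₀ (e3.trans (one_mul _).symm))

end CfsgLib.Classical.TensorMaxU
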